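import Cfsg.Agent.H1.MlD

/-! Minimal best offenders (`TriStmt`). -/

set_option autoImplicit false
set_option linter.unusedSectionVars false

namespace Cfsg.Agent.H90.MlTri

open Subgroup Cfsg.Agent.H1.ML

universe u

variable {G M : Type u} [Group G] [AddCommGroup M] [DistribMulAction G M]

theorem fx_anti {A B : Subgroup G} (h : A ≤ B) : fx M B ≤ fx M A := fun _ hd a ha => hd a (h ha)

theorem kr_top (hf : Ff M G) : kr G (⊤ : AddSubgroup M) = ⊥ :=
  eq_bot_iff.2 fun g hg => mem_bot.2 (hf g fun d => hg d trivial)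

theorem bo_iff (hf : Ff M G) {A : Subgroup G} : BO (⊤ : AddSubgroup M) A ↔
    (∀ a ∈ A, ∀ b ∈ A, a * b = b * a) ∧
      ∀ B ≤ A, Nat.card (fx M B) ≤ B.relIndex A * Nat.card (fx M A) := by
  simp only [BO, kr_top hf, mem_bot, commutatorElement_eq_one_iff_mul_comm, inf_bot_eq, bot_le,
    top_inf_eq, forall_const]

/-- the map `d ↦ a d - d` -/
def dv (a : G) : M →+ M := DistribSMul.toAddMonoidHom M a - AddMonoidHom.id M

theorem dv_apply (a : G) (d : M) : dv a d = a • d - d := rfl

theorem dv_ker (a : G) : (dv a : M →+ M).ker = fx M (zpowers a) := by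
  ext d
  rw [AddMonoidHom.mem_ker, dv_apply, sub_eq_zero]
  constructor
  · intro h b hb
    exact (zpowers_le.2 (show a ∈ MulAction.stabilizer G d from h)) hb
  · exact fun h => h a (mem_zpowers a)

variable [Finite G] [Finite M]

theorem card_range {a : G} {p : ℕ} (h : Nat.card M ≤ p * Nat.card (fx M (zpowers a))) :
    Nat.card (dv a : M →+ M).range ≤ p := by
  have h1 := (dv a : M →+ M).ker.card_mul_index
  rw [AddSubgroup.index_ker, dv_ker] at h1
  have h2 : 0 < Nat.card (fx M (zpowers a)) := Nat.card_pos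
  rw [← h1, mul_comm] at h
  exact Nat.le_of_mul_le_mul_right h h2

/-- an offender of order `p` is quadratic -/
theorem quad {a : G} {p : ℕ} (hp : p.Prime) (ha : Nat.card (zpowers a) = p)
    (h : Nat.card (dv a : M →+ M).range ≤ p) (d : M) : a • dv a d = dv a d := by
  by_contra hne
  have h0 : dv a d ≠ 0 := fun e => hne (by rw [e, smul_zero])
  have hs : MulAction.stabilizer G (dv a d) ⊓ zpowers a = ⊥ := by
    have h1 := card_dvd_of_le (inf_le_right : MulAction.stabilizer G (dv a d) ⊓ zpowers a ≤ _)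
    rw [ha] at h1
    rcases (Nat.dvd_prime hp).1 h1 with e | e
    · exact eq_bot_of_card_eq _ e
    · have := eq_of_le_of_card_ge
        (inf_le_right : MulAction.stabilizer G (dv a d) ⊓ zpowers a ≤ _) (by rw [e, ha])
      exact (hne (this.ge (mem_zpowers a)).1).elim
  have hm : ∀ b : zpowers a, (b : G) • dv a d ∈ (dv a : M →+ M).range := fun b => by
    refine ⟨(b : G) • d, ?_⟩
    obtain ⟨n, hn⟩ := mem_zpowers_iff.1 b.2
    rw [dv_apply, dv_apply, smul_sub, smul_smul, smul_smul, ← hn,
      (Commute.self_zpow a n).eq]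
  let f : Option (zpowers a) → (dv a : M →+ M).range := fun o =>
    o.elim 0 fun b => ⟨_, hm b⟩
  have hi : Function.Injective f := by
    rintro (_ | b) (_ | c) e
    · rfl
    · exact (h0 ((smul_eq_zero_iff_eq _).1 (congrArg Subtype.val e).symm)).elim
    · exact (h0 ((smul_eq_zero_iff_eq _).1 (congrArg Subtype.val e))).elim
    · have e1 : (b : G) • dv a d = (c : G) • dv a d := congrArg Subtype.val e
      have : (c : G)⁻¹ * b ∈ MulAction.stabilizer G (dv a d) ⊓ zpowers a :=
        mem_inf.2 ⟨by rw [MulAction.mem_stabilizer_iff, mul_smul, e1, inv_smul_smul],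
          mul_mem (inv_mem c.2) b.2⟩
      rw [hs, mem_bot, inv_mul_eq_one] at this
      exact congrArg some (Subtype.ext this.symm)
  have := Nat.card_le_card_of_injective f hi
  rw [Finite.card_option, ha] at this
  omega

omit [Finite G] [Finite M] in
theorem pow_smul {a : G} {d : M} (h : a • dv a d = dv a d) (i : ℕ) :
    a ^ i • d = d + i • dv a d := by
  induction i with
  | zero => simp
  | succ i ih =>
    rw [pow_succ', mul_smul, ih, smul_add, smul_comm a i, h, succ_nsmul,
      show a • d = d + dv a d by rw [dv_apply]; abel]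
    abel

theorem triStmt : TriStmt.{u} := by
  intro G M _ _ _ _ _ p hp hM hf P hP hQ
  have pp := hp.out
  obtain ⟨B, ⟨hBP, hB1, hB⟩, hmin⟩ := (measure fun A : Subgroup G => Nat.card A).wf.has_min
    {A | A ≤ P ∧ A ≠ ⊥ ∧ BO (⊤ : AddSubgroup M) A} hQ
  obtain ⟨hc, hb⟩ := (bo_iff hf).1 hB
  -- the case `|B| = p`
  have small : Nat.card B = p → ∀ a ∈ B, a ≠ 1 →
      Nat.card (dv a : M →+ M).range ≤ p ∧ ∀ d : M, a • dv a d = dv a d := by
    intro e a ha a1
    have h1 : zpowers a = B := by
      have h2 := card_dvd_of_le (zpowers_le.2 ha)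
      rw [e] at h2
      rcases (Nat.dvd_prime pp).1 h2 with e' | e'
      · exact (a1 (zpowers_eq_bot.1 (eq_bot_of_card_eq _ e'))).elim
      · exact eq_of_le_of_card_ge (zpowers_le.2 ha) (by rw [e, e'])
    have h2 := hb ⊥ bot_le
    have h3 : fx M (⊥ : Subgroup G) = ⊤ :=
      eq_top_iff.2 fun d _ b hb => by rw [mem_bot.1 hb, one_smul]
    rw [h3, AddSubgroup.card_top, relIndex_bot_left, e, ← h1] at h2
    exact ⟨card_range h2, quad pp (h1 ▸ e) (card_range h2)⟩
  by_cases h2 : p = 2 ∧ Nat.card B = p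
  · obtain ⟨a, ha, a1⟩ := (bot_or_exists_ne_one B).resolve_left hB1
    obtain ⟨h3, h4⟩ := small h2.2 a ha a1
    obtain ⟨d, hd⟩ : ∃ d : M, a • d ≠ d := by
      by_contra hh
      exact a1 (hf a fun d => by_contra fun e => hh ⟨d, e⟩)
    refine Or.inr ⟨h2.1, a, hBP ha, dv a d, fun e => ?_, ⟨d, hd⟩, h4 d⟩
    by_contra hh
    rw [not_or] at hh
    have k1 : dv a d ≠ 0 := sub_ne_zero.2 hd
    have k2 : dv a e ≠ 0 := sub_ne_zero.2 hh.1
    have k3 : dv a e ≠ dv a d := fun k => hh.2 (by rw [← k, dv_apply]; abel)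
    let f : Fin 3 → (dv a : M →+ M).range := ![0, ⟨_, d, rfl⟩, ⟨_, e, rfl⟩]
    have hi : Function.Injective f := by
      intro i j hij
      have := congrArg Subtype.val hij
      fin_cases i <;> fin_cases j <;>
        first | rfl | exact (k1 this).elim | exact (k1 this.symm).elim | exact (k2 this).elim |
          exact (k2 this.symm).elim | exact (k3 this).elim | exact (k3 this.symm).elim
    have := Nat.card_le_card_of_injective f hi
    rw [Nat.card_fin] at this
    omega
  refine Or.inl ⟨B, hBP, hP.to_le hBP, hB1, hB, fun C hC hi v hv pv a ha haC => ?_⟩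
  by_cases hC1 : C = ⊥
  · subst hC1
    rw [relIndex_bot_left] at hi
    have p2 : p ≠ 2 := fun e => h2 ⟨e, hi⟩
    have h4 := (small hi a ha (fun e => haC (mem_bot.2 e))).2 v
    simp only [pow_smul h4]
    rw [Finset.sum_add_distrib, Finset.sum_const, Finset.card_range, pv, zero_add,
      ← Finset.sum_smul, Finset.sum_range_id]
    obtain ⟨k, hk⟩ := pp.even_sub_one p2
    have h5 : p • dv a v = 0 := by rw [← map_nsmul, pv, map_zero]
    rw [hk, ← two_mul, Nat.mul_left_comm, Nat.mul_div_cancel_left _ two_pos, mul_comm, mul_smul, h5,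
      smul_zero]
  · have h3 : fx M C ≤ fx M B := by
      have e1 : (fx M B).relIndex (fx M C) * Nat.card (fx M B) = Nat.card (fx M C) := by
        have := ((fx M B).addSubgroupOf (fx M C)).index_mul_card
        rwa [Nat.card_congr (AddSubgroup.addSubgroupOfEquivOfLe (fx_anti hC)).toEquiv] at this
      obtain ⟨n, hn⟩ := IsPGroup.iff_card.1 hM
      have e2 : (fx M B).relIndex (fx M C) ∣ p ^ n :=
        (Dvd.intro _ e1).trans (hn ▸ AddSubgroup.card_addSubgroup_dvd_card (fx M C))
      obtain ⟨k, -, hk⟩ := (Nat.dvd_prime_pow pp).1 e2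
      have e3 := hb C hC
      have e4 : 0 < Nat.card (fx M B) := Nat.card_pos
      rcases k with _ | k
      · exact AddSubgroup.relIndex_eq_one.1 hk
      exfalso
      have e5 : p * Nat.card (fx M B) ≤ Nat.card (fx M C) := by
        rw [← e1, hk, pow_succ']
        exact Nat.mul_le_mul_right _ (Nat.le_mul_of_pos_right _ (pow_pos pp.pos k))
      refine hmin C ⟨hC.trans hBP, hC1, (bo_iff hf).2 ⟨fun x hx y hy => hc x (hC hx) y (hC hy),
        fun D hD => ?_⟩⟩ ?_
      · have := hb D (hD.trans hC)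
        rw [← relIndex_mul_relIndex D C B hD hC, hi, mul_assoc] at this
        exact this.trans (Nat.mul_le_mul_left _ e5)
      · exact lt_of_le_of_ne (card_le_of_le hC) fun e =>
          haC ((eq_of_le_of_card_ge hC e.ge).ge ha)
    rw [Finset.sum_congr rfl fun i _ => h3 hv _ (pow_mem ha i), Finset.sum_const, Finset.card_range,
      pv]

end Cfsg.Agent.H90.MlTri
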