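import Mathlib
import Cfsg.Agent.H90.EvA
import Cfsg.Agent.H44.KiRu
import Cfsg.Agent.H41.RuS
import Cfsg.Agent.S2077

/-!
# Involutory automorphisms of the Rudvalis group and the components of their centralisers
-/

set_option autoImplicit false
set_option maxRecDepth 200000

namespace Cfsg.Agent.H90.Ev

open Cfsg Subgroup Cfsg.Agent.H44 Cfsg.Agent.H44.Ki Cfsg.Agent.H44.KiRu Cfsg.Agent.H59
  Cfsg.Agent.H62.EV Cfsg.Agent.H75.KI
open Cfsg.Agent.H43 hiding allL allL_iff anyL anyL_iff

universe u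

section general
variable {G : Type*} [Group G]

theorem four_cases [Finite G] {s e : G} (hs : s * s = 1) (he : e * e = 1) (hc : e * s = s * e) :
    ∀ y ∈ closure ({s, e} : Set G), y = 1 ∨ y = s ∨ y = e ∨ y = s * e :=
  cl_induct (Or.inl rfl) (by
    rintro x (rfl | rfl) y (rfl | rfl | rfl | rfl) <;> simp [hs, he, hc, ← mul_assoc]
    simp [mul_assoc, he])

open scoped commutatorElement in
theorem mem_comm {K : Subgroup G} {c x y : G} (hc : c ∈ K) (hx : x ∈ K) (h1 : x * y = 1)
    (h2 : c * x = y * c) (h7 : x ^ 7 = 1) : x ∈ ⁅K, K⁆ ∧ y ∈ ⁅K, K⁆ := by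
  obtain rfl := inv_eq_of_mul_eq_one_right h1
  have h3 : x = ⁅c, x⁆ ^ 3 := by
    rw [commutatorElement_def, h2, mul_inv_cancel_right]
    calc x = x * (x ^ 7)⁻¹ := by rw [h7, inv_one, mul_one]
      _ = _ := by group
  have h4 : x ∈ ⁅K, K⁆ := h3 ▸ pow_mem (commutator_mem_commutator hc hx) 3
  exact ⟨h4, inv_mem h4⟩

theorem two_cases : ∀ i j : Multiplicative (ZMod 2), j = 1 ∨ i = 1 ∨ i = j := by decide

/-- The normal forms. -/
def subl : ℕ → List (List ℕ)
  | 0 => [[]]
  | j + 1 => subl j ++ (subl j).map ((j + 1) :: ·)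

theorem nf {μ : ℕ → G} {k : ℕ} (h : Pc μ k) {j : ℕ} (hj : j ≤ k) :
    ∀ y ∈ gen μ j, ∃ l ∈ subl j, ev μ l = y := by
  induction j with
  | zero => intro y hy; rw [gen_zero, mem_bot] at hy; exact ⟨[], by simp [subl], hy.symm⟩
  | succ j ih =>
    intro y hy
    rcases h.two j hj y hy with e | e <;> obtain ⟨l, hl, e⟩ := ih (by omega) _ e
    · exact ⟨l, List.mem_append_left _ hl, e⟩
    · exact ⟨_, List.mem_append_right _ (List.mem_map_of_mem hl), by
        rw [ev_cons, e, mul_inv_cancel_left]⟩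

end general

namespace Ru

/-- The words of a polycyclic series of a Sylow subgroup of the centraliser. -/
def sg : List (List ℕ) := [[], [34, 31, 34, 31], [33, 32, 33, 33, 32, 33, 33, 33, 32],
  [33, 33, 31, 31, 31, 33, 33, 32, 32, 34], [34, 31], [33, 31, 31, 31, 33, 32, 32],
  [31, 33, 31, 34, 34, 31, 33, 31], [30], [29, 33, 24, 34, 34, 23]]

/-- The new letters. -/
noncomputable def μ (x : ℕ) : grp 4060 RuM.E := ev ν (nth [] sg x)

/-- Substitution. -/
noncomputable def fl (l : List ℕ) : List ℕ := l.flatMap (nth [] sg)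

theorem ev_fl (l : List ℕ) : ev ν (fl l) = ev μ l := ev_flatMap ..

theorem orcP : Orc μ fun l r => D.eqW (fl l) (fl r) := fun l r h => by
  rw [← ev_fl, ← ev_fl, ok.eq h]

theorem geP : 2 ^ 8 ≤ Nat.card (gen μ 8) := by
  have h := ncard_of_orbB (S := (List.range' 1 8).map (nth [] sg)) (b := 0) (m := 256)
    (code := code) ok.hn ok.ok (by decide) (by decide +kernel)
  rw [← orbit_w ok] at h
  refine h.ge.trans ((Finite.card_range_le _).trans (card_le_of_le (wgen_le.2 fun s hs => ?_)))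
  obtain ⟨x, hx, rfl⟩ := List.mem_map.1 hs
  rw [List.mem_range'_1] at hx
  exact mem_gen μ hx.1 (by omega)

theorem pcP : Pc μ 8 :=
  Pc.of orcP (W := [[], [[], []], [[], [1], []], [[], [1], [2], []], [[], [1], [2], [3], [1]],
    [[], [1], [2], [3], [4, 3], [2]], [[], [1], [2], [3], [4, 2, 1], [5, 3, 1], [3]],
    [[], [1], [2], [3], [4], [5], [6], []], [[], [1], [2], [3], [4], [5], [6], [7], []]])
    (allL_iff.1 (by decide +kernel)) geP

theorem chkU : allL (fun l => bA (bO (l == []) (D.neW (fl l ++ [31]) (31 :: fl l)))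
    (bO (D.neW (fl l ++ fl l) []) (anyL (fun c => D.eqW (c ++ [30]) (30 :: (fl l ++ c)))
      [[], [12, 24, 42, 42], [18, 21, 24, 21], [1, 34, 28, 47], [15, 24, 2, 48], [2, 29, 11, 35],
        [31, 10, 37, 10], [41, 30, 47, 12]]))) (subl 6) = true := by decide +kernel

theorem eqs : Eqs ν [([30, 30], []), (fl [8, 8], []), (fl [8, 7], fl [7, 8]),
    ([31, 32], []), ([33, 34], []), (List.replicate 7 31, []), (List.replicate 7 33, []),
    ([33, 32, 34, 31, 31, 34, 34, 34, 31, 33] ++ [31], 32 :: [33, 32, 34, 31, 31, 34, 34, 34, 31, 33]),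
    ([31, 34, 32, 32, 34, 31, 33, 31, 31, 31] ++ [33], 34 :: [31, 34, 32, 32, 34, 31, 33, 31, 31, 31]),
    ([14, 22, 6] ++ ([14, 22, 6] ++ [14, 22, 6]), []),
    ([1, 19, 43, 1, 19, 43] ++ ([1, 19, 43, 1, 19, 43] ++ [1, 19, 43, 1, 19, 43]), []),
    ([14, 22, 6] ++ [1, 19, 43, 1, 19, 43], [1, 19, 43, 1, 19, 43] ++ [14, 22, 6])] :=
  ok.eqs (by decide +kernel)

theorem chkE : allL (fun c => D.eqW (c ++ fl [8]) (fl [8] ++ c))
    (sing [23, 24, 25, 26, 27, 28, 29]) = true := by decide +kernel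

theorem chkL : allL (fun c => D.eqW (c ++ [30]) (30 :: c)) (sing [31, 32, 33, 34]) = true := by
  decide +kernel

theorem chk9 : incB D.key [[], [1, 19, 43, 1, 19, 43],
    [1, 19, 43, 1, 19, 43] ++ [1, 19, 43, 1, 19, 43], [14, 22, 6]] 0 = true := by decide +kernel

theorem mu7 : μ 7 = ν 30 := ev_single ν 30

theorem ss : ν 30 * ν 30 = 1 := by simpa [ev] using eqs.get [30, 30] [] (by decide)

theorem ee : μ 8 * μ 8 = 1 := by
  have := eqs (fl [8, 8], []) (by simp)
  rw [ev_fl] at this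
  simpa [ev] using this

theorem es : μ 8 * ν 30 = ν 30 * μ 8 := by
  have := eqs (fl [8, 7], fl [7, 8]) (by simp)
  rw [ev_fl, ev_fl] at this
  simpa [ev, mu7] using this

/-- The four-group. -/
noncomputable abbrev E4 : Subgroup (grp 4060 RuM.E) := closure {ν 30, μ 8}

/-- The component. -/
noncomputable abbrev L0 : Subgroup (grp 4060 RuM.E) := wgen ν (sing [31, 32, 33, 34])

theorem cenE : ∀ e ∈ E4, ∀ c ∈ centralizer {ν 30}, c * e = e * c := fun e he c hc => by
  refine mem_centralizer_singleton_iff.1 ((closure_le (centralizer {c})).2 ?_ he) |>.symm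
  rintro _ (rfl | rfl)
  · exact mem_centralizer_singleton_iff.2 (mem_centralizer_singleton_iff.1 hc).symm
  · refine mem_centralizer_singleton_iff.2 (mem_centralizer_singleton_iff.1
      (wgen_le.2 (fun w hw => mem_centralizer_singleton_iff.2 ?_) (cb_c hc))).symm
    have := ok.eq (allL_iff.1 chkE w hw)
    rwa [ev_append, ev_append, ev_fl, ev_single] at this

theorem LC : L0 ≤ centralizer {ν 30} := wgen_le.2 fun w hw => mem_cent ok (allL_iff.1 chkL w hw)

theorem UL : gen μ 6 ≤ L0 := gen_le.2 fun x h1 h2 => ev_sing ν (by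
  interval_cases x <;> rfl)

theorem memL {x : ℕ} (h : [x].all [31, 32, 33, 34].contains = true) : ν x ∈ L0 :=
  ev_single ν x ▸ ev_sing ν h

theorem perf : ⁅L0, L0⁆ = L0 := by
  refine le_antisymm (commutator_le.2 fun a ha b hb =>
    mul_mem (mul_mem (mul_mem ha hb) (inv_mem ha)) (inv_mem hb)) (wgen_le.2 fun w hw => ?_)
  have h1 := mem_comm (ev_sing ν (S := [31, 32, 33, 34])
    (w := [33, 32, 34, 31, 31, 34, 34, 34, 31, 33]) rfl) (memL (x := 31) rfl) (y := ν 32)
    (by simpa [ev] using eqs.get [31, 32] [] (by decide))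
    (by rw [← ev_cons, ← ev_single ν 31, ← ev_append]; exact eqs.get _ _ (by decide))
    (by simpa [ev, pow_succ'] using eqs.get (List.replicate 7 31) [] (by decide))
  have h2 := mem_comm (ev_sing ν (S := [31, 32, 33, 34])
    (w := [31, 34, 32, 32, 34, 31, 33, 31, 31, 31]) rfl) (memL (x := 33) rfl) (y := ν 34)
    (by simpa [ev] using eqs.get [33, 34] [] (by decide))
    (by rw [← ev_cons, ← ev_single ν 33, ← ev_append]; exact eqs.get _ _ (by decide))
    (by simpa [ev, pow_succ'] using eqs.get (List.replicate 7 33) [] (by decide))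
  simp only [sing, List.map_cons, List.map_nil, List.mem_cons, List.not_mem_nil, or_false] at hw
  rcases hw with rfl | rfl | rfl | rfl <;> rw [ev_single]
  exacts [h1.1, h1.2, h2.1, h2.2]

theorem PC : gen μ 8 ≤ centralizer {ν 30} := gen_le.2 fun x h1 h2 => by
  rcases (show x ≤ 6 ∨ x = 7 ∨ x = 8 by omega) with h | rfl | rfl
  · exact LC (UL (mem_gen μ h1 h))
  · exact mem_centralizer_singleton_iff.2 (by rw [mu7])
  · exact mem_centralizer_singleton_iff.2 es

theorem dat : Dat (ν 30) (ν 31) E4 (gen μ 6) (gen μ 8) L0 where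
  good := good_b
  sE := subset_closure (Or.inl rfl)
  cen := cenE
  sq e he := by
    rcases four_cases ss ee es e he with rfl | rfl | rfl | rfl
    exacts [mul_one _, ss, ee, by rw [mul_assoc, ← mul_assoc (μ 8), es, mul_assoc, ee, mul_one, ss]]
  le := PC
  odd := by
    have := ((gen μ 8).subgroupOf (centralizer {ν 30})).card_mul_index
    rw [Nat.card_congr (subgroupOfEquivOfLe PC).toEquiv, pcP.card 8 le_rfl, cb_n] at this
    rw [relIndex]
    omega
  EP := (closure_le _).2 (by
    rintro _ (rfl | rfl)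
    exacts [mu7 ▸ mem_gen μ (x := 7) (by decide) (by decide), mem_gen μ (by decide) (by decide)])
  dec y hy := by
    have h7 : μ 7 ∈ E4 := mu7 ▸ subset_closure (Or.inl rfl)
    have h8 : μ 8 ∈ E4 := subset_closure (Or.inr rfl)
    rcases pcP.two 7 (by decide) y hy with h | h <;> rcases pcP.two 6 (by decide) _ h with h | h
    exacts [⟨1, one_mem _, _, h, (one_mul _).symm⟩, ⟨_, h7, _, h, (mul_inv_cancel_left _ _).symm⟩,
      ⟨_, h8, _, h, (mul_inv_cancel_left _ _).symm⟩, ⟨_, mul_mem h8 h7, _, h, by group⟩]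
  UL := UL
  LC := LC
  perf := perf
  xL := memL rfl
  fre u hu e := by
    obtain ⟨l, hl, rfl⟩ := nf pcP (by decide) u hu
    rcases bO_iff.1 (bA_iff.1 (allL_iff.1 chkU l hl)).1 with h | h
    · rw [beq_iff_eq.1 h, ev_nil]
    · exact absurd (by rwa [ev_append, ev_single, ev_cons, ev_fl]) (ok.ne h)
  fus u hu e := by
    obtain ⟨l, hl, rfl⟩ := nf pcP (by decide) u hu
    rcases bO_iff.1 (bA_iff.1 (allL_iff.1 chkU l hl)).2 with h | h
    · exact absurd (by rwa [ev_append, ev_nil, ev_fl]) (ok.ne h)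
    · obtain ⟨c, -, h⟩ := anyL_iff.1 h
      have := ok.eq h
      rw [ev_append, ev_single, ev_cons, ev_append, ev_fl, ← mul_assoc] at this
      exact isConj_iff.2 ⟨_, mul_inv_eq_iff_eq_mul.2 this⟩

theorem cls (t : grp 4060 RuM.E) (ht : orderOf t = 2) : IsConj (ν 1) t ∨ IsConj (ν 30) t := by
  simpa [ev] using Cov.reps pc (by rw [RuM.card_grp]; norm_num) cov1 t ht

theorem charTwo : IsOfCharacteristicTwo (centralizer {ν 1}) := by
  have := Fact.mk Nat.prime_two
  have h1 : allL (fun s => D.eqW ([s] ++ [1]) [1, s]) (List.range' 1 11) = true := by decide +kernel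
  refine charTwo_of_primes (Q := gen ν 11) (gen_le.2 fun s h3 h4 => ev_single ν s ▸
    mem_cent ok (allL_iff.1 h1 s (List.mem_range'_1.2 ⟨h3, by omega⟩))) ?_
    (IsPGroup.of_card (pc.card 11 (by decide))) fun p hp e => ?_
  · rw [gen_eq_wgen]
    exact cz_c.trans (le_norm (orc ok) nq)
  · rw [cz_n] at e ⊢
    have : p ∈ (245760 : ℕ).primeFactorsList := (Nat.mem_primeFactorsList (by decide)).2 ⟨hp, e⟩
    simp only [Nat.primeFactorsList_ofNat, List.mem_cons, List.not_mem_nil, or_false,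
      or_self_left] at this
    rcases this with rfl | rfl | rfl
    exacts [Or.inl rfl, Or.inr ⟨by norm_num, odd_spec ok [16, 20] 2 (by decide +kernel)⟩,
      Or.inr ⟨by norm_num, odd_spec ok [19, 21, 15] 2 (by decide +kernel)⟩]

theorem centE : ∀ g ∈ E4, g ≠ 1 → centralizer {g} ≤ centralizer {ν 30} := fun g hg h1 => by
  have h2 : centralizer {ν 30} ≤ centralizer {g} := fun c hc =>
    mem_centralizer_singleton_iff.2 (cenE g hg c hc)
  have h3 := card_dvd_of_le h2
  rcases cls g (orderOf_eq_prime (by rw [pow_two, dat.sq g hg]) h1) with e | e <;>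
    have h4 := Nat.card_congr (nonempty_centEquiv e).some.toEquiv
  · rw [← h4, cz_n, cb_n] at h3
    omega
  · exact (eq_of_le_of_card_ge h2 h4.ge).ge

theorem cardE : Nat.card E4 ≤ 4 := by
  classical
  refine (Set.ncard_le_ncard (t := ↑({1, ν 30, μ 8, ν 30 * μ 8} : Finset _))
    (fun y hy => by simpa using four_cases ss ee es y hy)).trans ?_
  rw [Set.ncard_coe_finset]
  exact Finset.card_le_four

theorem rank3 : ¬ PRankLE 3 1 (grp 4060 RuM.E) := fun h => by
  have h1 := H83.EA_closure (p := 3) (s := {ev ν [14, 22, 6], ev ν [1, 19, 43, 1, 19, 43]}) (by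
    have := eqs.get ([14, 22, 6] ++ [1, 19, 43, 1, 19, 43]) ([1, 19, 43, 1, 19, 43] ++ [14, 22, 6])
      (by decide)
    rw [ev_append, ev_append] at this
    rintro _ (rfl | rfl) _ (rfl | rfl)
    exacts [rfl, this, this.symm, rfl]) (by
    rintro _ (rfl | rfl) <;> rw [pow_three, ← ev_append, ← ev_append] <;>
      exact eqs.get _ [] (by decide))
  have h2 := length_le_card (ok.nodup chk9) (K := closure {ev ν [14, 22, 6],
    ev ν [1, 19, 43, 1, 19, 43]}) (by
      have a := subset_closure (k := {ev ν [14, 22, 6], ev ν [1, 19, 43, 1, 19, 43]}) (Or.inl rfl)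
      have b := subset_closure (k := {ev ν [14, 22, 6], ev ν [1, 19, 43, 1, 19, 43]}) (Or.inr rfl)
      simp only [List.map_cons, List.map_nil, List.mem_cons, List.not_mem_nil, or_false, ev_append]
      rintro _ (rfl | rfl | rfl | rfl)
      exacts [one_mem _, b, mul_mem b b, a])
  exact absurd (h2.trans (h _ h1.1 h1.2)) (by decide)

theorem bij : Function.Bijective (MulAut.conj : grp 4060 RuM.E →* MulAut (grp 4060 RuM.E)) :=
  haveI := H46.Ru.isSimple_Ru
  haveI := RuM.equiv.symm.isSimpleGroup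
  conj_bijective (fun h => by
    have := card_dvd_of_le (H := ⊤) (K := centralizer {ν 30}) fun x _ =>
      mem_centralizer_singleton_iff.2 (h.is_comm.comm _ _)
    rw [card_top, RuM.card_grp, cb_n] at this
    omega) ((card_out_congr RuM.equiv).symm.trans S2077.result)

theorem idx : (centralizer ({ν 30} : Set (grp 4060 RuM.E))).index = 1252800 := by
  have := (centralizer ({ν 30} : Set (grp 4060 RuM.E))).card_mul_index
  rw [cb_n, RuM.card_grp] at this
  omega

theorem ks : KS (grp 4060 RuM.E) := KS.of_reps _ (reps bij cls) (by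
  rintro _ (rfl | rfl) L hp <;> have hL := fixed_conj (G := grp 4060 RuM.E) _ ▸ hp.comp
  · exact (no_comp charTwo hL).elim
  exact ⟨by rw [fixed_conj, idx]; decide, dat.center_bot hL hp.two,
    dat.k2 hL bij cardE (by rw [cb_n]; decide) rank3, (dat.ky' hL bij centE).ky, Or.inl (dat.kf hL)⟩)

open H41.Ru2 H46.Ru in
theorem lift4 {J : Type u} [Group J] {π : J →* grp 4060 RuM.E} (h : Cover π) :
    Lift4 π (ν 30) := fun y hy => by
  have := h.perf
  have := Fact.mk Nat.prime_two
  let ε := RuM.equiv.symm.trans equivGG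
  obtain ⟨f, hf⟩ := H80.exists_surjective_stemKer
    (H80.hasSchurMultiplier_congr_left H78.MRu.mult_Ru RuM.equiv) ⟨h.surj, h.cen⟩
  obtain ⟨⟨z, hz⟩, z1⟩ := ne_bot_iff_exists_ne_one.1 h.ne
  have hc : H41.Ru2.Cov ((ε : _ →* GG).comp π) z := by
    refine ⟨h.perf, ε.surjective.comp h.surj, h.cen hz, fun e => z1 (Subtype.ext e), fun a => ?_⟩
    rw [MonoidHom.comp_apply, MonoidHom.coe_coe, map_eq_one_iff _ ε.injective]
    refine ⟨fun e => ?_, by rintro (rfl | rfl); exacts [map_one _, hz]⟩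
    obtain ⟨i, hi⟩ := hf ⟨a, (H80.stemKer_eq_ker_of_perfect π).ge e⟩
    obtain ⟨j, hj⟩ := hf ⟨z, (H80.stemKer_eq_ker_of_perfect π).ge hz⟩
    rcases two_cases i j with rfl | rfl | rfl
    · exact z1.elim (Subtype.ext (congrArg (fun a : H80.stemKer π => (a : J))
        (hj.symm.trans (map_one f))))
    · exact Or.inl (congrArg Subtype.val (hi.symm.trans (map_one f)))
    · exact Or.inr (congrArg Subtype.val (hi.symm.trans hj))
  have h2 : y * y ≠ 1 := by
    rcases invol (g := ε (ν 30)) (by rw [← map_mul, ss, map_one]) with e | e | e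
    · have := idx
      rw [(map_eq_one_iff _ ε.injective).1 e, centralizer_eq_top_iff_subset.2 (by simp),
        index_top] at this
      omega
    · have h1 : P 0 ≤ centralizer {t} := by
        have k : ∀ g : GG, (∃ n, g ^ n = t) → g ∈ centralizer {t} := by
          rintro g ⟨n, hn⟩
          exact mem_centralizer_singleton_iff.2 (hn ▸ Commute.self_pow g n)
        rw [P_eq, closure_le]
        rintro _ ⟨j, hj, rfl⟩
        obtain ⟨w, h1, h2⟩ := gen_good hj.2
        simpa using mul_mem (k _ h2) (inv_mem (k _ h1))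
      have h3 := (centralizer ({t} : Set GG)).card_mul_index
      rw [Nat.card_congr (nonempty_centEquiv e).some.toEquiv,
        ← Nat.card_congr (centEquiv ε (ν 30)).toEquiv, cb_n, card_GG] at h3
      exact absurd (dvd_trans (by omega) (index_dvd_of_le h1)) odd_index
    · obtain ⟨c, hc'⟩ := isConj_iff.1 e.symm
      obtain ⟨d, rfl⟩ := hc.surj c
      refine fun e => hc.lifts.2 (d * y * d⁻¹) ?_ (by rw [conj_mul, e]; simp)
      rw [map_mul, map_mul, map_inv, ← hc', ← hy]
      rfl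
  have h3 := ((hc.ker (y * y)).1 (by
    rw [MonoidHom.comp_apply, map_mul π, hy, ss, map_one])).resolve_left h2
  exact orderOf_eq_prime_pow (p := 2) (n := 1) (by rwa [pow_one, pow_two])
    (by rw [show 2 ^ (1 + 1) = 2 * 2 from rfl, pow_mul, pow_two, pow_two, h3, hc.zz])

theorem kc : KCU.{u} (grp 4060 RuM.E) := KCU.of_reps _ (reps bij cls) fun J _ _ π hπ => by
  rintro _ (rfl | rfl) L hp <;> have hL := fixed_conj (G := grp 4060 RuM.E) _ ▸ hp.comp
  · exact (no_comp charTwo hL).elim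
  exact ⟨dat.kf hL, Or.inl ⟨dat.ey hL bij, _, rfl, lift4 hπ⟩⟩

end Ru

theorem ksRu : KSFor.{u} fun S _ => Spor.IsoRu S := fun _ _ _ _ _ ⟨e⟩ =>
  Ru.ks.congr (e.trans RuM.equiv).symm

theorem kcRu : KCFor.{u} fun S _ => Spor.IsoRu S := fun _ _ _ _ _ ⟨e⟩ =>
  Ru.kc.kc (e.trans RuM.equiv).symm

end Cfsg.Agent.H90.Ev
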