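import Cfsg.Agent.H17.LPDefs2
import Cfsg.Agent.H73.LpTb4

/-! Project LP, piece SY1. -/

set_option autoImplicit false

namespace Cfsg.Agent.H90.LpSy1

open Cfsg.Agent.H17.LP Cfsg.Agent.H73.LpB Subgroup

universe u

variable {G : Type u} [Group G] {φ : N0 →* G}

/-- `m` is the image of `n` under conjugation by `g` -/
def Rl (φ : N0 →* G) (g : G) (n m : N0) : Prop := φ m = g * φ n * g⁻¹

theorem Rl.symm {g : G} {n m : N0} (h : Rl φ g n m) : Rl φ g⁻¹ m n := by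
  unfold Rl at *; rw [h]; group

theorem Rl.mul {g : G} {n m n' m' : N0} (h : Rl φ g n m) (h' : Rl φ g n' m') :
    Rl φ g (n * n') (m * m') := by
  unfold Rl at *; rw [map_mul, map_mul, h, h']; group

theorem Rl.inv {g : G} {n m : N0} (h : Rl φ g n m) : Rl φ g n⁻¹ m⁻¹ := by
  unfold Rl at *; rw [map_inv, map_inv, h]; group

theorem Rl.trans {g g' : G} {n m k : N0} (h : Rl φ g n m) (h' : Rl φ g' m k) :
    Rl φ (g' * g) n k := by
  unfold Rl at *; rw [h', h]; group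

theorem Rl.uq (hi : Function.Injective φ) {g : G} {n m m' : N0} (h : Rl φ g n m)
    (h' : Rl φ g n m') : m = m' := hi (Eq.trans h (Eq.symm h'))

theorem Rl.symm' {g : G} {n m : N0} (h : Rl φ g⁻¹ m n) : Rl φ g n m := by
  simpa using h.symm

theorem exr {g : G} {Y : Subgroup N0} (hg : g ∈ NG φ Y) {n : N0} (hn : n ∈ Y) :
    ∃ m ∈ Y, Rl φ g n m :=
  (mem_normalizer_iff.1 hg (φ n)).1 ⟨n, hn, rfl⟩

theorem Rl.mem (hi : Function.Injective φ) {g : G} {Y : Subgroup N0} (hg : g ∈ NG φ Y) {n m : N0}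
    (h : Rl φ g n m) (hn : n ∈ Y) : m ∈ Y := by
  obtain ⟨m', hm, h'⟩ := exr hg hn
  rwa [h.uq hi h']

/-- the standing hypotheses on `g` -/
structure Gd (φ : N0 →* G) (g : G) : Prop where
  inj : Function.Injective φ
  cz : centralizer (Q0 : Set N0) = Z0
  nQ : g ∈ NG φ Q0
  nT : g ∈ NG φ T0

theorem Gd.inv {g : G} (h : Gd φ g) : Gd φ g⁻¹ := ⟨h.inj, h.cz, inv_mem h.nQ, inv_mem h.nT⟩

theorem Gd.mul {g g' : G} (h : Gd φ g) (h' : Gd φ g') : Gd φ (g * g') :=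
  ⟨h.inj, h.cz, mul_mem h.nQ h'.nQ, mul_mem h.nT h'.nT⟩

theorem Gd.memZ {g : G} (d : Gd φ g) {n m : N0} (h : Rl φ g n m) (hn : n ∈ Z0) : m ∈ Z0 := by
  rw [← d.cz] at hn ⊢
  intro q hq
  obtain ⟨q', hq', r⟩ := exr d.inv.nQ hq
  have e : q' * n = n * q' := hn q' hq'
  exact (r.symm'.mul h).uq d.inj (e ▸ h.mul r.symm')

theorem Gd.sig {g : G} (d : Gd φ g) {s s' : N0} (h : Rl φ g s s') (hs : Sig s) : Sig s' := by
  refine ⟨(h.mul h).mem d.inj d.nQ hs.1, fun v hv hc => ?_⟩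
  obtain ⟨v', hv', r⟩ := exr d.inv.nQ hv
  have e := hs.2 v' hv' (d.inv.memZ (((r.mul h.symm).mul r.inv).mul h.symm.inv) hc)
  have r2 := r.symm'.mul r.symm'
  rw [e] at r2
  exact r2.uq d.inj (by simp [Rl])

/-- the conjugate subgroup, pulled back to the model -/
def P (φ : N0 →* G) (g : G) (Y : Subgroup N0) : Subgroup N0 := (H49.cj (Y.map φ) g).comap φ

theorem mem_P {g : G} {Y : Subgroup N0} {m : N0} : m ∈ P φ g Y ↔ ∃ n ∈ Y, Rl φ g n m := by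
  constructor
  · rintro ⟨_, ⟨n, hn, rfl⟩, e⟩
    exact ⟨n, hn, Eq.symm e⟩
  · rintro ⟨n, hn, e⟩
    exact ⟨_, ⟨n, hn, rfl⟩, Eq.symm e⟩

theorem Gd.map_P {g : G} (d : Gd φ g) {Y : Subgroup N0} (hY : Y ≤ T0) :
    (P φ g Y).map φ = H49.cj (Y.map φ) g := by
  refine map_comap_eq_self ?_
  rintro _ ⟨_, ⟨n, hn, rfl⟩, rfl⟩
  obtain ⟨m, -, r⟩ := exr d.nT (hY hn)
  exact ⟨m, r⟩

theorem Gd.card_P {g : G} (d : Gd φ g) {Y : Subgroup N0} (hY : Y ≤ T0) :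
    Nat.card (P φ g Y) = Nat.card Y := by
  rw [← card_map_of_injective (K := P φ g Y) d.inj, d.map_P hY, H49.card_cj,
    card_map_of_injective d.inj]

theorem Gd.el_P {g : G} (d : Gd φ g) {Y : Subgroup N0} (hY : El Y) : El (P φ g Y) := by
  refine ⟨fun q hq => ?_, fun m hm => ?_, fun m hm => ?_⟩
  · obtain ⟨q', hq', r⟩ := exr d.inv.nQ hq
    exact mem_P.2 ⟨q', hY.1 hq', r.symm'⟩
  · obtain ⟨n, hn, r⟩ := mem_P.1 hm
    exact r.mem d.inj d.nT (hY.2.1 hn)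
  · obtain ⟨n, hn, r⟩ := mem_P.1 hm
    exact (r.mul r).mem d.inj d.nQ (hY.2.2 n hn)

theorem Gd.cq_P {g : G} (d : Gd φ g) (Y : Subgroup N0) :
    (CQ Y).ncard ≤ (CQ (P φ g Y)).ncard := by
  have hf : ∀ n ∈ CQ Y, Rl φ g n (Function.invFun φ (g * φ n * g⁻¹)) := fun n hn => by
    obtain ⟨m, -, r⟩ := exr d.nQ hn.1
    exact Function.invFun_eq ⟨m, r⟩
  refine Set.ncard_le_ncard_of_injOn (fun n => Function.invFun φ (g * φ n * g⁻¹))
    (fun n hn => ⟨(hf n hn).mem d.inj d.nQ hn.1, fun s hs => ?_⟩) (fun n hn n' hn' e => ?_)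
  · obtain ⟨s', hs', r⟩ := mem_P.1 hs
    exact d.memZ ((((hf n hn).mul r).mul (hf n hn).inv).mul r.inv) (hn.2 s' hs')
  · have e' : Function.invFun φ (g * φ n * g⁻¹) = Function.invFun φ (g * φ n' * g⁻¹) := e
    exact (hf n hn).symm.uq d.inj (e' ▸ (hf n' hn').symm)

theorem elA : El QA := by
  refine ⟨fun n hn => ?_, QA_T, fun n hn => ?_⟩
  · obtain ⟨u, rfl⟩ := ex (Q_T hn)
    rw [mem_Q0] at hn
    simp [mem_QA, hn]
  · obtain ⟨u, rfl⟩ := ex (QA_T hn)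
    rw [mem_QA] at hn
    simp [sqQ, hn]

theorem elP (q : QKStmt) : El (Q0 ⊔ Ap) := by
  refine ⟨le_sup_left, sup_le Q_T Ap_T, fun n hn => ?_⟩
  obtain ⟨u, rfl⟩ := ex (sup_le Q_T Ap_T hn)
  rw [mem_QAp q] at hn
  simp [sqQ, hn]

theorem not_le (q : QKStmt) : ¬ QA ≤ Q0 ⊔ Ap := fun h => by
  have := (mem_QAp q ⟨0, 0, 0, 0, 0, 0, 0, 0, 1, 0, 0, 0, 0, 0, 0, 0, 0, 0, 0, 0⟩).1
    (h ((mem_QA _).2 ⟨rfl, rfl, rfl, rfl⟩))
  simp at this

theorem x12 : xx 1 2 ∈ T0 := by unfold T0; decide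

theorem Gd.ne_pp (mf : MF) {g : G} (d : Gd φ g) : P φ g QA ≠ Q0 ⊔ App := fun e => by
  obtain ⟨s, hs, r⟩ := exr d.nT x12
  obtain ⟨a, ha, hn⟩ := mf.sig.2 s hs
  obtain ⟨a', ha', r'⟩ := mem_P.1 (e ▸ ha)
  exact hn (d.sig (r.mul r') (mf.sig.1 a' ha'))

theorem Gd.three (mf : MF) {g : G} (d : Gd φ g) {Y : Subgroup N0} (hY : El Y)
    (c : Nat.card Y = 2 ^ 16) (c' : (CQ Y).ncard = 2 ^ 7) :
    P φ g Y = QA ∨ P φ g Y = Q0 ⊔ Ap ∨ P φ g Y = Q0 ⊔ App :=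
  (mf.t2 _ (d.el_P hY) (by rw [d.card_P hY.2.1, c])).2
    (lt_of_lt_of_le (by rw [c']; norm_num) (d.cq_P Y))

theorem sy1 : Sy1Stmt.{u} := by
  intro mf G _ _ φ fr cq g gQ gT
  have d : Gd φ g := ⟨fr.inj, mf.nrm.2.2.2.2.2.2.2.2.2.2.2.1, gQ, gT⟩
  obtain ⟨-, -, -, -, -, -, -, -, cA, -, -, -, -, -, c1⟩ := mf.kit
  obtain ⟨t1, t2, -, t4, -, -, -, t8, -⟩ := mf.t4
  have eA := elA
  have eP := elP mf.qk
  rcases d.three mf eA cA (by rw [t1]; exact c1) with e | e | e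
  · left
    have h1 : g ∈ NG φ QA := H49.cj_eq_iff.1 (by rw [← d.map_P eA.2.1, e])
    obtain ⟨n, rfl⟩ := cq.nQA h1
    refine ⟨n, ?_, rfl⟩
    have nT : normalizer (T0 : Set N0) = T0 := mf.nrm.2.2.2.2.1
    rw [SetLike.mem_coe, ← nT]
    exact mem_normalizer_fintype fun t ht =>
      Rl.mem fr.inj gT (n := t) (by simp [Rl]) ht
  · refine .inr ⟨by rw [← d.map_P eA.2.1, e], ?_⟩
    rcases d.three mf eP t8 (by rw [t2]; exact t4) with e' | e' | e'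
    · rw [← d.map_P eP.2.1, e']
    · refine absurd (fun n hn => ?_) (not_le mf.qk)
      obtain ⟨m, -, r⟩ := exr gT (eA.2.1 hn)
      have h1 : m ∈ P φ g (Q0 ⊔ Ap) := by rw [e', ← e]; exact mem_P.2 ⟨n, hn, r⟩
      obtain ⟨n', hn', r'⟩ := mem_P.1 h1
      rwa [r.symm.uq fr.inj r'.symm]
    · refine absurd ?_ ((d.mul d).ne_pp mf)
      rw [← e', ← e]
      ext k
      simp only [mem_P]
      constructor
      · rintro ⟨n, hn, r⟩
        obtain ⟨m, -, r'⟩ := exr gT (eA.2.1 hn)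
        refine ⟨m, ⟨n, hn, r'⟩, ?_⟩
        simpa using r'.symm.trans r
      · rintro ⟨m, ⟨n, hn, r⟩, r'⟩
        exact ⟨n, hn, r.trans r'⟩
  · exact absurd e (d.ne_pp mf)

end Cfsg.Agent.H90.LpSy1
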