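import Cfsg.Agent.H68.SpDefs

/-!
# The step `NFStmt`: centralizers in the normalizer of a symplectic model
-/

set_option autoImplicit false

namespace Cfsg.Agent.H90.SpNF

open Cfsg Cfsg.Agent.H63 Cfsg.Agent.H63.SL Cfsg.Agent.H26 Cfsg.Agent.H78 Subgroup Module
open Cfsg.Agent.H68.Sp Cfsg.Agent.H26.PForm
open scoped commutatorElement

universe u v

variable {F V : Type v} [Field F] [AddCommGroup V] [Module F V] {G : Type u} [Group G]
  {P : PForm F V} {φ : P.E →* G} {L : Subgroup G} {k : ℕ}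

section Basic

variable (hS : SG P φ L k)
include hS

theorem eps : P.ε = 1 := by
  rcases P.ε_cases with h | h
  · exact h
  · rw [h]; linear_combination -hS.two

theorem fs (x y : V) : P.f y x = P.f x y := by rw [P.herm, eps hS, hS.sig, one_mul]

theorem sing (x : V) : P.Sing x := by
  unfold PForm.Sing
  rw [hS.lam]
  exact AddSubgroup.mem_top _

theorem fxx (x : V) : P.f x x = 0 := (sing hS x).f_self

theorem fsr (c : F) (x y : V) : P.f x (c • y) = c * P.f x y := by rw [f_smul_right, hS.sig]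

theorem ev {e y : V} (h : P.f y e = 0) (ν : F) : P.EV e y ν :=
  ⟨sing hS e, h, by rw [hS.lam]; exact AddSubgroup.mem_top _⟩

theorem app {e y : V} (h : P.f y e = 0) (ν : F) (x : V) :
    eT P e y ν x = x + P.f x e • y - (P.f x y + ν * P.f x e) • e := by
  rw [eT_apply (ev hS h ν), eps hS, one_mul]

theorem sq_one {a : F} (h : a * a = 1) : a = 1 := by
  have h1 : (a - 1) ^ 2 = 0 := by linear_combination h + (1 - a) * hS.two
  exact sub_eq_zero.1 (pow_eq_zero_iff two_ne_zero |>.1 h1)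

theorem ET_inj {e y e' y' : V} {ν ν' : F} (h : ET P φ e y ν = ET P φ e' y' ν') (x : V) :
    eT P e y ν x = eT P e' y' ν' x := by
  have h1 := congrArg Subtype.val (hS.inj h)
  exact congrArg (fun a : V ≃ₗ[F] V => a x) h1

theorem conj_ET {g : G} {T : V ≃+ V} {ψ : F ≃+* F} (hI : Ind P φ g T ψ) {e y : V}
    (h : P.f y e = 0) (ν : F) :
    g * ET P φ e y ν * g⁻¹ = ET P φ (T e) (T y) (ψ ν) := by
  obtain ⟨e', h1, h2⟩ := hI.conj ⟨eT P e y ν, eT_mem_E e y ν⟩
  rw [ET, h2, ET]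
  congr 1
  refine Subtype.ext (LinearEquiv.ext fun x => ?_)
  obtain ⟨w, rfl⟩ := T.surjective x
  have h3 : P.f (T y) (T e) = 0 := by rw [hI.form, h, map_zero]
  rw [h1]
  change T (eT P e y ν w) = eT P (T e) (T y) (ψ ν) (T w)
  rw [app hS h, app hS h3, map_sub, map_add, hI.smul, hI.smul, hI.form, hI.form, map_add, map_mul]

theorem conj_tv {g : G} {T : V ≃+ V} {ψ : F ≃+* F} (hI : Ind P φ g T ψ) (v : V) (c : F) :
    g * tv P φ v c * g⁻¹ = tv P φ (T v) (ψ c) := by
  rw [H68.Sp.tv, conj_ET hS hI (P.f_zero_left v), map_zero]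

theorem conj_Es {g : G} {T : V ≃+ V} {ψ : F ≃+* F} (hI : Ind P φ g T ψ) {u v : V}
    (h : P.f v u = 0) : g * Es P φ u v * g⁻¹ = Es P φ (T u) (T v) := by
  rw [Es, conj_ET hS hI h, map_zero]

theorem tv_pt {v w : V} {a b : F} (h : tv P φ w a = tv P φ v b) (x : V) :
    (a * P.f x w) • w = (b * P.f x v) • v := by
  have h1 := ET_inj hS h x
  rw [app hS (P.f_zero_left w), app hS (P.f_zero_left v)] at h1
  simpa [f_zero_right] using h1

theorem tv_vec {v w : V} {c : F} (hv : v ≠ 0) (hc : c ≠ 0) (h : tv P φ w c = tv P φ v c) :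
    w = v := by
  obtain ⟨x, hx⟩ := P.exists_f_left_eq hv 1
  have h1 := tv_pt hS h x
  rw [hx, mul_one, mul_smul] at h1
  have h2 : P.f x w • w = v := smul_right_injective V hc h1
  have h3 : P.f x w * P.f x w = 1 := by rw [← fsr hS, h2, hx]
  rw [← h2, sq_one hS h3, one_smul]

theorem tv_sc {v : V} {a b : F} (hv : v ≠ 0) (h : tv P φ v a = tv P φ v b) : a = b := by
  obtain ⟨x, hx⟩ := P.exists_f_left_eq hv 1
  have h1 := tv_pt hS h x
  rw [hx, mul_one, mul_one] at h1
  exact smul_left_injective F hv h1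

theorem Es_pt {u v u' v' : V} (h0 : P.f v u = 0) (h0' : P.f v' u' = 0)
    (h : Es P φ u' v' = Es P φ u v) (x : V) :
    P.f x u' • v' - P.f x v' • u' = P.f x u • v - P.f x v • u := by
  have h1 := ET_inj hS h x
  rw [app hS h0, app hS h0', zero_mul, add_zero, zero_mul, add_zero, add_sub_assoc,
    add_sub_assoc] at h1
  exact add_left_cancel h1

omit hS in
theorem ind_phi (e : P.E) : Ind P φ (φ e) e.1.toAddEquiv (RingEquiv.refl F) where
  smul c x := e.1.map_smul c x
  form x y := isom_f (E_le_isom e.2) x y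
  hq x := isom_h (E_le_isom e.2) x
  lam _ := Iff.rfl
  cs _ := rfl
  conj a := ⟨e * a * e⁻¹, fun v => by
    change e.1 (a.1 (e.1⁻¹ (e.1 v))) = _
    rw [PForm.inv_apply_apply]; rfl, by rw [map_mul, map_mul, map_inv]⟩

theorem lin (g1 : G1 P k) {g : G} {T : V ≃+ V} {ψ : F ≃+* F} (hI : Ind P φ g T ψ)
    (hψ : ∀ c, ψ c = c) : ∃ e : P.E, ∃ κ ∈ C[L], (∀ x, e.1 x = T x) ∧ g = φ e * κ := by
  let Tl : V ≃ₗ[F] V := { T with map_smul' := fun c x => by simp [hI.smul, hψ] }
  have hT : Tl ∈ P.isom := ⟨fun x y => (hI.form x y).trans (hψ _), fun x => by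
    rw [hS.lam]; exact AddSubgroup.mem_top _⟩
  let e : P.E := ⟨Tl, g1.full hT⟩
  refine ⟨e, (φ e)⁻¹ * g, fun l hl => ?_, fun _ => rfl, by group⟩
  obtain ⟨a, rfl⟩ : l ∈ φ.range := hS.rng.symm ▸ hl
  obtain ⟨a', h1, h2⟩ := hI.conj a
  have h3 : a' * e = e * a := Subtype.ext (LinearEquiv.ext fun x => h1 x)
  have h4 : φ a' * φ e = φ e * φ a := by rw [← map_mul, h3, map_mul]
  calc φ a * ((φ e)⁻¹ * g) = (φ e)⁻¹ * (φ e * φ a) * (φ e)⁻¹ * g := by group
    _ = (φ e)⁻¹ * (g * φ a * g⁻¹) * g := by rw [← h4, h2]; group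
    _ = _ := by group

theorem cent_tv {g : G} {T : V ≃+ V} {ψ : F ≃+* F} (hI : Ind P φ g T ψ) {v : V} (hv : v ≠ 0)
    (h : ∀ c, Commute g (tv P φ v c)) : (∀ c, ψ c = c) ∧ T v = v := by
  have h1 : ∀ c, tv P φ (T v) (ψ c) = tv P φ v c := fun c => by
    rw [← conj_tv hS hI, (h c).eq, mul_inv_cancel_right]
  have h2 : T v = v := tv_vec hS hv one_ne_zero (by rw [← h1 1, map_one])
  exact ⟨fun c => tv_sc hS hv (by rw [← h1 c, h2]), h2⟩

theorem cent_Es {g : G} {T : V ≃+ V} {ψ : F ≃+* F} (hI : Ind P φ g T ψ) {v y : V} (hv : v ≠ 0)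
    (hT : T v = v) (hy : P.f y v = 0) (h : Commute g (Es P φ v y)) :
    ∃ a : F, T y - y = a • v := by
  have h1 : Es P φ v (T y) = Es P φ v y := by
    conv_lhs => rw [← hT]
    rw [← conj_Es hS hI hy, h.eq, mul_inv_cancel_right]
  have h2 : P.f (T y) v = 0 := by rw [← hT, hI.form, hy, map_zero]
  obtain ⟨x, hx⟩ := P.exists_f_left_eq hv 1
  have h3 := Es_pt hS hy h2 h1 x
  rw [hx, one_smul, one_smul] at h3
  exact ⟨P.f x (T y) - P.f x y, by rw [sub_smul]; linear_combination (norm := module) h3⟩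

omit hS in
theorem li2 {u v : V} (h : LinearIndependent F ![u, v]) {a b : F} (e : a • u + b • v = 0) :
    a = 0 ∧ b = 0 := LinearIndependent.pair_iff.1 h a b e

omit hS in
theorem li_ne {u v : V} (h : LinearIndependent F ![u, v]) : u ≠ 0 ∧ v ≠ 0 :=
  ⟨fun e => one_ne_zero (li2 h (a := 1) (b := 0) (by rw [e]; simp)).1,
    fun e => one_ne_zero (li2 h (a := 0) (b := 1) (by rw [e]; simp)).2⟩

omit hS in
theorem ET_mem {S : Set V} {e y : V} (he : e ∈ S) (hy : y ∈ P.perp (Submodule.span F S)) (c : F) :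
    ET P φ e y c ∈ QW P φ S :=
  subset_closure ⟨e, Submodule.subset_span he, y, hy, c, rfl⟩

theorem iso2 {u v : V} (h : I2 P u v) :
    ∀ x ∈ ({u, v} : Set V), ∀ y ∈ ({u, v} : Set V), P.f x y = 0 := by
  rintro x (rfl | rfl) y (rfl | rfl)
  exacts [fxx hS _, h.1, f_symm_zero h.1, fxx hS _]

end Basic

section Fin

variable [FiniteDimensional F V] (hS : SM P φ L k) (g1 : G1 P k) (g2 : G2 P φ)

omit [FiniteDimensional F V] in
include hS in
theorem exists_ne : ∃ v : V, v ≠ 0 := by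
  have h1 := hS.dim
  have h2 := hS.k3
  have : Nontrivial V := Module.nontrivial_of_finrank_pos (R := F) (by omega)
  exact _root_.exists_ne 0

include hS in
theorem exists_pair (u v : V) : ∃ z ∈ P.perp (Submodule.span F {u, v}),
    ∃ x ∈ P.perp (Submodule.span F {u, v}), P.f z x = 1 := by
  classical
  have h1 := P.finrank_perp (Submodule.span F {u, v})
  have h2 : finrank F (Submodule.span F ({u, v} : Set V)) ≤ 2 := by
    have h := finrank_span_finset_le_card (R := F) ({u, v} : Finset V)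
    rw [Set.finrank, Finset.coe_pair] at h
    exact h.trans Finset.card_le_two
  have h3 := hS.dim
  have h4 := hS.k3
  obtain ⟨x, hx, hx'⟩ : ∃ x ∈ P.perp (Submodule.span F {u, v}), x ∉ Submodule.span F {u, v} := by
    by_contra hc
    push Not at hc
    have := Submodule.finrank_mono (show P.perp (Submodule.span F {u, v}) ≤ _ from hc)
    omega
  obtain ⟨z, hz, h5⟩ := P.exists_perp_f_left hx' 1
  exact ⟨z, hz, x, hx, h5⟩

include hS g1 g2 in
theorem cW {u v : V} (huv : I2 P u v) {g : G} (hg : g ∈ N[L])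
    (h : ∀ y ∈ QW P φ {u, v}, ⁅g, y⁆ ∈ S2 P φ {u, v}) :
    ∃ s ∈ QW P φ {u, v}, ∃ κ ∈ C[L], g = s * κ := by
  have hG := hS.toSG
  obtain ⟨T, ψ, hI⟩ := hS.aut g hg
  set l := Submodule.span F ({u, v} : Set V) with hl
  have hlp : ∀ e ∈ ({u, v} : Set V), e ∈ P.perp l := fun e he =>
    mem_perp_span.2 (iso2 hG huv e he)
  have hne : ∀ e ∈ ({u, v} : Set V), e ≠ 0 := by
    rintro e (rfl | rfl)
    exacts [(li_ne huv.2).1, (li_ne huv.2).2]
  have key : ∀ e ∈ ({u, v} : Set V), ∀ x ∈ P.perp l, ∀ c, ∀ z ∈ P.perp l,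
      P.f z (T e) • T x - (P.f z (T x) + ψ c * P.f z (T e)) • T e = -P.f z x • e := by
    intro e he x hx c z hz
    have hxe : P.f x e = 0 := hx e (Submodule.subset_span he)
    have hze : P.f z e = 0 := hz e (Submodule.subset_span he)
    have h1 := h _ (ET_mem he hx c)
    rw [commutatorElement_def, conj_ET hG hI hxe, ET, ET, ← map_inv, ← map_mul, g2.memS] at h1
    have h2 : eT P e x c z = z - P.f z x • e := by
      rw [app hG hxe, hze]; simp
    have h3 := h1 (eT P e x c z) (by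
      rw [h2]; exact sub_mem hz (Submodule.smul_mem _ _ (hlp e he)))
    change eT P (T e) (T x) (ψ c) ((eT P e x c)⁻¹ (eT P e x c z)) = _ at h3
    rw [PForm.inv_apply_apply, h2, app hG (by rw [hI.form, hxe, map_zero])] at h3
    rw [neg_smul]
    linear_combination (norm := module) h3
  have k1 : ∀ e ∈ ({u, v} : Set V), ∀ z ∈ P.perp l, P.f z (T e) = 0 := by
    intro e he z hz
    have h1 := key e he 0 (zero_mem _) 1 z hz
    simp only [map_zero, smul_zero, f_zero_right, map_one, one_mul, zero_add, zero_sub, neg_zero,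
      zero_smul, neg_eq_zero, smul_eq_zero] at h1
    exact h1.resolve_right fun h2 => hne e he (T.injective (h2.trans (map_zero T).symm))
  have k2 : ∀ e ∈ ({u, v} : Set V), ∀ x ∈ P.perp l, ∀ z ∈ P.perp l,
      P.f z (T x) • T e = P.f z x • e := by
    intro e he x hx z hz
    have h1 := key e he x hx 0 z hz
    rw [k1 e he z hz, zero_smul, mul_zero, add_zero, zero_sub, neg_smul] at h1
    exact neg_injective h1
  obtain ⟨z0, hz0, x0, hx0, h1⟩ := exists_pair hS u v
  set a := P.f z0 (T x0) with ha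
  have k3 : ∀ e ∈ ({u, v} : Set V), a • T e = e := fun e he => by
    rw [ha, k2 e he x0 hx0 z0 hz0, h1, one_smul]
  have hu : u ∈ ({u, v} : Set V) := Or.inl rfl
  have hTu : T u ≠ 0 := fun h2 => hne u hu (T.injective (h2.trans (map_zero T).symm))
  have ha0 : a ≠ 0 := fun h2 => hne u hu (by rw [← k3 u hu, h2, zero_smul])
  have k4 : ∀ x ∈ P.perp l, ∀ z ∈ P.perp l, P.f z (T x) = P.f z x * a := fun x hx z hz => by
    have h2 := k2 u hu x hx z hz
    conv_rhs at h2 => rw [← k3 u hu, smul_smul]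
    exact smul_left_injective F hTu h2
  have hψ : ∀ c, ψ c = c := fun c => by
    have h2 := k4 (c • x0) (Submodule.smul_mem _ c hx0) z0 hz0
    rw [hI.smul, fsr hG, fsr hG, h1, mul_one, ← ha] at h2
    exact mul_right_cancel₀ ha0 h2
  have k5 : T z0 ∈ P.perp l := mem_perp_span.2 fun e he => by
    rw [← k3 e he, fsr hG, hI.form, hz0 e (Submodule.subset_span he), map_zero, mul_zero]
  have ha1 : a = 1 := by
    refine sq_one hG ?_
    have h2 := k4 x0 hx0 _ k5
    rw [hI.form, h1, map_one, fs hG, k4 z0 hz0 x0 hx0, fs hG, h1, one_mul] at h2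
    exact h2.symm
  obtain ⟨e, κ, hκ, he, rfl⟩ := lin hG g1 hI hψ
  refine ⟨φ e, (g2.memQ _ (iso2 hG huv) e).2 ⟨fun x hx => ?_, fun x hx => ?_⟩, κ, hκ, rfl⟩
  · rw [he, ← one_smul F (T x), ← ha1, k3 x hx]
  · refine mem_of_forall_perp (P := P) fun z hz => ?_
    rw [fs hG, f_sub_right, he, k4 x hx z hz, ha1, mul_one, sub_self]

include hS in
theorem cs (e : P.E) {u v : V} (huv : I2 P u v) : Commute (φ e) (Es P φ u v) ↔
    ∃ a b c d : F, a * d + b * c = 1 ∧ e.1 u = a • u + b • v ∧ e.1 v = c • u + d • v := by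
  have hG := hS.toSG
  have h0 : P.f v u = 0 := f_symm_zero huv.1
  have h0' : P.f (e.1 v) (e.1 u) = 0 := by rw [isom_f (E_le_isom e.2), h0]
  have hc : φ e * Es P φ u v * (φ e)⁻¹ = Es P φ (e.1 u) (e.1 v) := conj_Es hG (ind_phi e) h0
  constructor
  · intro h
    rw [h.eq, mul_inv_cancel_right] at hc
    have h1 := Es_pt hG h0 h0' hc.symm
    have h2 : ∀ z ∈ P.perp (Submodule.span F {u, v}), P.f z (e.1 v) = 0 ∧ P.f z (e.1 u) = 0 := by
      intro z hz
      have h3 := h1 z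
      rw [hz u (Submodule.subset_span (Or.inl rfl)), hz v (Submodule.subset_span (Or.inr rfl)),
        zero_smul, zero_smul, sub_zero] at h3
      have h4 : (-P.f z (e.1 v)) • u + P.f z (e.1 u) • v = 0 := by
        apply e.1.injective
        rw [map_add, map_smul, map_smul, map_zero, ← h3, neg_smul]
        abel
      exact ⟨neg_eq_zero.1 (li2 huv.2 h4).1, (li2 huv.2 h4).2⟩
    obtain ⟨a, b, hab⟩ := Submodule.mem_span_pair.1
      (mem_of_forall_perp (P := P) fun z hz => f_symm_zero (h2 z hz).2)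
    obtain ⟨c, d, hcd⟩ := Submodule.mem_span_pair.1
      (mem_of_forall_perp (P := P) fun z hz => f_symm_zero (h2 z hz).1)
    refine ⟨a, b, c, d, ?_, hab.symm, hcd.symm⟩
    obtain ⟨x, hx⟩ := P.exists_f_left_eq (li_ne huv.2).1 1
    have h3 := h1 x
    rw [← hab, ← hcd, f_add_right, f_add_right, fsr hG, fsr hG, fsr hG, fsr hG, hx] at h3
    have h4 := li2 huv.2 (a := (a * 1 + b * P.f x v) * c - (c * 1 + d * P.f x v) * a + P.f x v)
      (b := (a * 1 + b * P.f x v) * d - (c * 1 + d * P.f x v) * b - 1)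
      (by linear_combination (norm := module) h3)
    linear_combination h4.2 + b * c * hG.two
  · rintro ⟨a, b, c, d, h1, h2, h3⟩
    have h4 : Es P φ (e.1 u) (e.1 v) = Es P φ u v := by
      rw [Es, Es, ET, ET]
      congr 1
      refine Subtype.ext (LinearEquiv.ext fun x => ?_)
      change eT P (e.1 u) (e.1 v) 0 x = eT P u v 0 x
      rw [app hG h0', app hG h0, h2, h3, f_add_right, f_add_right, fsr hG, fsr hG, fsr hG, fsr hG]
      have h5 : a * d - b * c = 1 := by linear_combination h1 - b * c * hG.two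
      linear_combination (norm := module) (h5 • (P.f x u • v - P.f x v • u))
    rw [h4] at hc
    exact mul_inv_eq_iff_eq_mul.1 hc

omit [FiniteDimensional F V] in
include hS g1 in
theorem out : ∃ χ : N[L] →* (F ≃+* F), (∀ (g : N[L]) T ψ, Ind P φ g T ψ → χ g = ψ) ∧
    ∀ g, χ g = 1 ↔ (g : G) ∈ L ⊔ C[L] := by
  have hG := hS.toSG
  obtain ⟨v, hv⟩ := exists_ne hS
  choose T ψ hI using fun g : N[L] => hS.aut g g.2
  have uni : ∀ (g : N[L]) (w : V) (β : F → F), β 1 = 1 →
      (∀ c, g * tv P φ v c * (g : G)⁻¹ = tv P φ w (β c)) → ∀ c, ψ g c = β c := by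
    intro g w β hβ h c
    have hT : T g v ≠ 0 := fun h2 => hv ((T g).injective (h2.trans (map_zero _).symm))
    have h1 : ∀ c, tv P φ w (β c) = tv P φ (T g v) (ψ g c) := fun c => by
      rw [← h, conj_tv hG (hI g)]
    have h2 : w = T g v := tv_vec hG hT one_ne_zero (by simpa [hβ] using h1 1)
    exact (tv_sc hG hT (by rw [← h1 c, h2])).symm
  let χ : N[L] →* (F ≃+* F) := MonoidHom.mk' ψ fun g g' => RingEquiv.ext fun c =>
    uni (g * g') (T g (T g' v)) (fun c => ψ g (ψ g' c)) (by simp) (fun c => by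
      rw [← conj_tv hG (hI g), ← conj_tv hG (hI g'), Subgroup.coe_mul]; group) c
  have h1 : ∀ (g : N[L]) T' ψ', Ind P φ g T' ψ' → χ g = ψ' := fun g T' ψ' h =>
    RingEquiv.ext fun c => uni g (T' v) ψ' (map_one _) (conj_tv hG h v) c
  refine ⟨χ, h1, fun g => ⟨fun h => ?_, fun h => ?_⟩⟩
  · obtain ⟨e, κ, hκ, -, he⟩ := lin hG g1 (hI g) fun c => by
      change χ g c = c
      rw [h]; rfl
    rw [he]
    exact mul_mem_sup (hS.rng ▸ ⟨e, rfl⟩) hκ
  · have h2 : L ⊔ C[L] ≤ χ.ker.map (N[L]).subtype := by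
      refine sup_le (fun l hl => ⟨⟨l, le_normalizer hl⟩, ?_, rfl⟩)
        fun κ hκ => ⟨⟨κ, centralizer_le_normalizer _ hκ⟩, ?_, rfl⟩
      · obtain ⟨e, rfl⟩ : l ∈ φ.range := hS.rng.symm ▸ hl
        exact h1 _ _ _ (ind_phi e)
      · refine RingEquiv.ext fun c => uni _ v id rfl (fun c => ?_) c
        have h3 : tv P φ v c ∈ L := hS.rng ▸ ⟨_, rfl⟩
        change κ * tv P φ v c * κ⁻¹ = tv P φ v c
        rw [← hκ _ h3, mul_inv_cancel_right]
    obtain ⟨g', h3, h4⟩ := h2 h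
    rw [← show g' = g from Subtype.ext h4]
    exact h3

end Fin

theorem nf : NFStmt.{u, v} := by
  intro F V _ _ _ _ _ G _ _ P φ L k hG hS g1 g2
  refine ⟨fun g hg v hv h => ?_, fun g hg u v huv h => ?_, fun S h0 g hg => ?_,
    fun v hv g hg => ?_, fun u v huv g hg => ?_, fun u v huv g hg h => cW hS g1 g2 huv hg.1 h,
    fun e v c hv hc h => ?_, fun e u v huv => cs hS e huv, out hS g1⟩
  · obtain ⟨T, ψ, hI⟩ := hS.aut g hg
    obtain ⟨h1, h2⟩ := cent_tv hG hI hv h
    obtain ⟨e, κ, hκ, he, h3⟩ := lin hG g1 hI h1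
    exact ⟨e, κ, hκ, (he v).trans h2, h3⟩
  · obtain ⟨T, ψ, hI⟩ := hS.aut g hg
    have h0 : ∀ c : F, P.f (c • v) u = 0 := fun c => by
      rw [P.f_smul_left, f_symm_zero huv.1, mul_zero]
    have h1 : ∀ (c : F) x, ψ c • (P.f x (T u) • T v - P.f x (T v) • T u) =
        c • (P.f x u • v - P.f x v • u) := fun c x => by
      have h2 := Es_pt hG (h0 c) (u' := T u) (v' := T (c • v)) (by rw [hI.form, h0, map_zero])
        (by rw [← conj_Es hG hI (h0 c), (h c).eq, mul_inv_cancel_right]) x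
      rw [hI.smul, fsr hG, fsr hG] at h2
      linear_combination (norm := module) h2
    obtain ⟨x, hx⟩ := P.exists_f_left_eq (li_ne huv.2).1 1
    have h2 : P.f x u • v - P.f x v • u ≠ 0 := fun h3 =>
      one_ne_zero (hx.symm.trans (li2 huv.2 (a := -P.f x v) (b := P.f x u)
        (by linear_combination (norm := module) h3)).2)
    have h3 := h1 1 x
    rw [map_one, one_smul, one_smul] at h3
    obtain ⟨e, κ, hκ, -, h4⟩ := lin hG g1 hI fun c =>
      smul_left_injective F h2 (by have := h1 c x; rwa [h3] at this)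
    rw [h4]
    exact mul_mem_sup (hS.rng ▸ ⟨e, rfl⟩) hκ
  · obtain ⟨T, ψ, hI⟩ := hS.aut g hg.1
    have h1 : ∀ w ∈ P.perp (Submodule.span F S), ∀ c, Commute g (tv P φ w c) := fun w hw c =>
      Commute.symm (hg.2 _ (show _ ∈ YW P φ S by
        rw [g2.gen]; exact subset_closure ⟨w, Submodule.subset_span hw, c, rfl⟩))
    obtain ⟨w0, hw0, hw0'⟩ := Submodule.exists_mem_ne_zero_of_ne_bot h0
    obtain ⟨e, κ, hκ, he, h2⟩ := lin hG g1 hI (cent_tv hG hI hw0' (h1 w0 hw0)).1
    refine ⟨φ e, (g2.memS S e).2 fun w hw => ?_, κ, hκ, h2⟩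
    by_cases h3 : w = 0
    · rw [h3, map_zero]
    · exact (he w).trans (cent_tv hG hI h3 (h1 w hw)).2
  · obtain ⟨T, ψ, hI⟩ := hS.aut g hg.1
    obtain ⟨h1, h2⟩ := cent_tv hG hI hv fun c => Commute.symm (hg.2 _ (ET_mem (Set.mem_singleton v) (zero_mem _) c))
    obtain ⟨e, κ, hκ, he, h3⟩ := lin hG g1 hI h1
    refine ⟨φ e, (g2.memQ {v} ?_ e).2 ⟨?_, fun y hy => ?_⟩, κ, hκ, h3⟩
    · rintro _ rfl _ rfl
      exact fxx hG _
    · rintro _ rfl
      exact (he _).trans h2
    · obtain ⟨a, ha⟩ := cent_Es hG hI hv h2 (mem_perp_span_singleton.1 hy)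
        (Commute.symm (hg.2 _ (ET_mem (Set.mem_singleton v) hy 0)))
      rw [he, ha]
      exact Submodule.smul_mem _ a (Submodule.mem_span_singleton_self v)
  · obtain ⟨T, ψ, hI⟩ := hS.aut g hg.1
    obtain ⟨hu, hv⟩ := li_ne huv.2
    obtain ⟨h1, h2⟩ := cent_tv hG hI hu fun c =>
      Commute.symm (hg.2 _ (ET_mem (S := {u, v}) (Or.inl rfl) (zero_mem _) c))
    obtain ⟨-, h2'⟩ := cent_tv hG hI hv fun c =>
      Commute.symm (hg.2 _ (ET_mem (S := {u, v}) (Or.inr rfl) (zero_mem _) c))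
    obtain ⟨e, κ, hκ, he, h3⟩ := lin hG g1 hI h1
    refine ⟨φ e, (g2.memS _ e).2 fun y hy => ?_, κ, hκ, h3⟩
    obtain ⟨a, ha⟩ := cent_Es hG hI hu h2 (hy u (Submodule.subset_span (Or.inl rfl)))
      (Commute.symm (hg.2 _ (ET_mem (S := {u, v}) (Or.inl rfl) hy 0)))
    obtain ⟨b, hb⟩ := cent_Es hG hI hv h2' (hy v (Submodule.subset_span (Or.inr rfl)))
      (Commute.symm (hg.2 _ (ET_mem (S := {u, v}) (Or.inr rfl) hy 0)))
    have h4 := (li2 huv.2 (a := a) (b := -b) (by rw [neg_smul, ← ha, ← hb, add_neg_cancel])).1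
    rw [h4, zero_smul, sub_eq_zero] at ha
    exact (he y).trans ha
  · refine tv_vec hG hv hc ?_
    have h1 := conj_tv hG (ind_phi e) v c
    rw [h.eq, mul_inv_cancel_right] at h1
    exact h1.symm

end Cfsg.Agent.H90.SpNF
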