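import Cfsg.Agent.H34.UDefs2
import Cfsg.Agent.H34.UKit0
import Cfsg.Agent.H65.WrH

/-! Project UM, piece WL: the basic facts on a Sylow `2`-subgroup of the unitary group. -/

set_option autoImplicit false
set_option linter.unusedSectionVars false

namespace Cfsg.Agent.H90.UmWL

open Cfsg Cfsg.Agent.H63 Cfsg.Agent.H63.SL Cfsg.Agent.H34 Cfsg.Agent.H34.TW Cfsg.Agent.H31
  Cfsg.Agent.H34.UM Subgroup Module
open Cfsg.Agent.H8 (IsSylowIn exists_isSylowIn_ge)
open Cfsg.Agent.H27.End (mem_C comm_of_C conj_mem is2_of_sq mem_N_of_conj)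
open Cfsg.Agent.H65
open scoped commutatorElement

universe u v w

section Free

variable {G : Type u} [Group G] [Finite G] {F : Type v} [Field F] {W : Type w} [AddCommGroup W]
  [Module F W] {L U Q Z : Subgroup G} {ζ : F → G} {π : G → W} {B : W →ₗ[F] W →ₗ[F] F} {Qf : W → F}
  (H : Heis L Q Z ζ π B Qf) (zodd : ∀ z ∈ Z[L], Odd (orderOf z)) (syl : IsSylowIn 2 U L)
  (UC : U ≤ C[Z])
include H syl UC

theorem Q_le : Q ≤ U :=
  syl.le_of_le_normalizer (fun y => by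
      obtain ⟨k, hk⟩ := is2Q (h0_of H) y.2
      exact ⟨k, Subtype.ext hk⟩) H.QL
    fun _ hu => H.nQ ⟨le_normalizer (syl.le hu), centralizer_le_normalizer _ (UC hu)⟩

include zodd

theorem N_le : N[U] ≤ N[Z] := fun g hg => mem_N_of_conj fun z hz =>
  WrH.cen_le H syl.le (Q_le H syl UC) (WrH.eq_one zodd syl)
    (conj_mem hg (Q_le H syl UC (H.ZQ hz))) (mem_C fun x hx => by
      have h := (comm_of_C (UC (conj_mem (inv_mem hg) hx)) hz).symm
      have e : x = g * (g⁻¹ * x * g⁻¹⁻¹) * g⁻¹ := by group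
      rw [e]
      exact h.map (MulAut.conj g))

theorem wl2 (qs : IsQuasisimple L)
    (ab : ∀ P : Subgroup G, P ≤ N[L] → IsPGroup 2 P → ⁅P, P⁆ ≤ L ⊔ C[L]) {y0 : G} (h1 : y0 ∈ Q)
    (h2 : y0 * y0 = 1) (h3 : y0 ∉ Z) (h4 : y0 ∈ ⁅U, U⁆) (h5 : Q ≤ ⁅U, L ⊓ N[U]⁆) : WL2 L U :=
  have U1 := WrH.eq_one zodd syl
  have QU := Q_le H syl UC
  have NU : N[L] ⊓ N[U] ≤ N[Z] := inf_le_right.trans (N_le H zodd syl UC)
  ⟨qs, zodd, syl, fun e => WrH.Z_ne H (H.ZQ.trans QU) (H.ZQ.trans QU) (by rw [e, inf_idem]),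
    fun _ hz => commutator_mono QU QU (WrH.Z_le_der H (WrH.cen_le H syl.le QU U1 hz.1 hz.2)),
    WrH.ind H syl.le QU UC U1,
    ⟨_, le_rfl, le_inf syl.le le_normalizer,
      WrH.bc H syl.le QU UC U1 h1 h2 h3 (inf_le_left.trans h5)⟩, ab,
    fun _ _ a1 b1 _ _ a2 b2 _ h => WrH.nt H (le_inf (a1.trans inf_le_left) (a1.trans NU))
      (le_inf (b1.trans inf_le_left) (b1.trans NU)) (QU.trans a2) (QU.trans b2) h,
    fun z hz _ _ => by
      obtain ⟨a, rfl⟩ := (H.ζmem z).1 (WrH.cen_le H syl.le QU U1 hz.1 hz.2)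
      obtain ⟨y, hy, e⟩ := WrH.onto (h0_of H) h1 h3 a
      refine ⟨y0, h4, h2, y, H.QL hy, ?_⟩
      rw [← e, commutatorElement_def, inv_eq_of_mul_eq_one_right h2, ← mul_assoc, ← mul_assoc,
        ← mul_assoc, h2, one_mul]⟩

end Free

variable {F E V : Type v} [Field F] [Field E] [AddCommGroup V] [Module E V] [Finite E]
  [FiniteDimensional E V] {i : F →+* E}
  {σ : E ≃+* E} {B : V →ₛₗ[(σ : E →+* E)] V →ₗ[E] E} {G : Type u} [Group G] [Finite G]
  {φ : sisom B →* G} {L : Subgroup G} (c : UCtx i φ L)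
include c

theorem eq_scal {s s' : sisom B} (e : φ s = φ s') : ∃ d : E, ∀ x, s.1 x = d • s'.1 x := by
  obtain ⟨d, -, h⟩ := c.scal (s := s * s'⁻¹) (by
    rw [map_mul, map_inv, e, mul_inv_cancel]; exact one_mem _)
  exact ⟨d, fun x => by rw [← h, mul_app, inv_app]⟩

theorem fix_pt {v : V} (hv : Pt B v) {s : sisom B} (h : φ s ∈ N[ZV i φ v]) :
    ∃ l : E, s.1 v = l • v := by
  have h1 := conj_mem h (TT_mem_ZV (i := i) (φ := φ) v 1)
  rw [c.TT_conj s hv.1, c.mem_ZV hv.1] at h1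
  obtain ⟨b, h1⟩ := h1
  obtain ⟨s1, k1, e1⟩ := c.tt (hv.map s).1 1
  obtain ⟨s2, k2, e2⟩ := c.tt hv.1 b
  obtain rfl := c.inj2 (is2_of_sq (c.tt_sq (hv.map s).1 k1)) (is2_of_sq (c.tt_sq hv.1 k2))
    (e1.trans (h1.trans e2.symm))
  obtain ⟨x, hx⟩ := c.herm.exists_eq_one (hv.map s).2
  have := (k1 x).symm.trans (k2 x)
  rw [hx, map_one, mul_one, one_smul, add_right_inj] at this
  exact ⟨_, this⟩

theorem EE_one (v : V) : EE φ v 0 0 = 1 := by
  have := UCtx.EE_zero (i := i) (φ := φ) v 0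
  rwa [map_zero, UCtx.TT_zero] at this

theorem EE_Z {v : V} {d : E} (h : d + σ d = 0) : EE φ v 0 d ∈ ZV i φ v := by
  obtain ⟨a, rfl⟩ := (c.qf.fix d).1 (add_left_cancel (h.trans (c.qf.add_self d).symm))
  rw [UCtx.EE_zero]
  exact TT_mem_ZV v a

theorem EE_inv {v w : V} {d : E} (h1 : B v v = 0) (h2 : B v w = 0) (h3 : d + σ d = B w w) :
    (EE φ v w d)⁻¹ = EE φ v w (σ d) :=
  inv_eq_of_mul_eq_one_right (by
    rw [c.EE_mul h1 h2 h3 h2 (by rw [c.qf.sq, add_comm, h3]), c.add_self, h3, c.qf.add_self,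
      EE_one c])

/-- An element with different eigenvalues on `v` and `a`. -/
theorem exists_tau {v a : V} (hv : Pt B v) (h : B v a = 0) (ha : a ∉ E ∙ v) :
    ∃ (τ : sisom B) (l m : E), l ≠ m ∧ τ.1 v = l • v ∧ τ.1 a = m • a := by
  obtain ⟨ε, h1, h2⟩ := c.qf.exists_norm_one
  have h0 : ε ≠ 0 := by rintro rfl; simp at h1
  by_cases h3 : B a a = 0
  · obtain ⟨f, f', k⟩ := c.exists_fr2' hv h3 h ha
    obtain ⟨τ, k1, -, k2, -⟩ := c.diag2 k h0 (inv_ne_zero h0) (by rw [mul_inv_cancel₀ h0, map_one])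
    refine ⟨τ, ε, ε⁻¹, fun e => h2 (c.qf.eq_one_of_pow (k := 1) ?_), k1, k2⟩
    rw [pow_one, pow_two]
    nth_rewrite 2 [e]
    exact mul_inv_cancel₀ h0
  · have hs := c.herm.toIsHermSymm
    have n1 := nondegOn_span_singleton h3
    obtain ⟨v', k1, -, k3⟩ := hs.exists_hyperbolic_of_nondegOn (c.herm.nondegOn_perp n1) hv.1 hv.2
      (mem_perp_span_singleton.2 (c.flip h))
    obtain ⟨n2, n3⟩ := c.perp_pair hv.1 k3
    have hle : (E ∙ a) ≤ perp B (Submodule.span E {v, v'}) :=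
      (Submodule.span_singleton_le_iff_mem _ _).2
        (UCtx.mem_perp_pair.2 ⟨h, c.flip (mem_perp_span_singleton.1 k1)⟩)
    have n4 := c.herm.finrank_inf_perp n1 hle
    obtain ⟨d, k4, k5⟩ := hs.exists_norm_ne_zero (c.herm.nondegOn_inf_perp n1 n2 hle) fun e => by
      rw [e, finrank_bot, finrank_span_singleton (by rintro rfl; simp at h3)] at n4
      have := c.four
      omega
    obtain ⟨g, g1, -, g2, g3⟩ := hs.exists_quasiRefl h3 h1
    obtain ⟨g', g4, g5, -⟩ := c.herm.exists_sisom_of_isom g1 k5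
    refine ⟨⟨g', g4⟩, 1, ε, h2.symm, ?_, ?_⟩
    · rw [one_smul]
      exact (g5 v (c.flip (UCtx.mem_perp_pair.1 k4.1).1)).trans (g3 v (c.flip h))
    · exact (g5 a (c.flip (mem_perp_span_singleton.1 k4.2))).trans g2

omit c [Finite E] [FiniteDimensional E V] in
variable (B) in
/-- The elements with the same eigenvalue on `v` and on `a` modulo `v`. -/
def K0 {v : V} (hv : v ≠ 0) (a : V) : Subgroup (sisom B) where
  carrier := {s | ∃ l m : E, s.1 v = l • v ∧ s.1 a = l • a + m • v}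
  one_mem' := ⟨1, 0, by simp, by simp⟩
  mul_mem' := by
    rintro s s' ⟨l, m, h1, h2⟩ ⟨l', m', k1, k2⟩
    refine ⟨l' * l, l' * m + m' * l, ?_, ?_⟩
    · rw [mul_app, k1, map_smul, h1, smul_smul]
    · rw [mul_app, k2, map_add, map_smul, map_smul, h1, h2]
      module
  inv_mem' := by
    rintro s ⟨l, m, h1, h2⟩
    have l0 : l ≠ 0 := by
      rintro rfl
      exact hv (by simpa using h1)
    have h3 : (s⁻¹).1 v = l⁻¹ • v := by
      rw [eq_inv_smul_iff₀ l0, ← map_smul, ← h1, inv_app]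
    refine ⟨l⁻¹, -(l⁻¹ * m * l⁻¹), h3, ?_⟩
    have h4 := inv_app s a
    rw [h2, map_add, map_smul, map_smul, h3] at h4
    have h5 : (s⁻¹).1 a = l⁻¹ • (a - m • l⁻¹ • v) := by
      rw [eq_inv_smul_iff₀ l0, eq_sub_iff_add_eq, h4]
    rw [h5]
    module

theorem no_fix {U : Subgroup G} (syl : IsSylowIn 2 U L) {v a : V} (hv : Pt B v) (h : B v a = 0)
    (hK : L ⊓ N[U] ≤ (K0 B hv.2 a).map φ) : a ∈ E ∙ v := by
  by_contra ha
  obtain ⟨τ, l, m, h1, h2, h3⟩ := exists_tau c hv h ha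
  have a0 : a ≠ 0 := fun e => ha (e ▸ Submodule.zero_mem _)
  have l0 : l ≠ 0 := by
    rintro rfl
    exact hv.2 (by simpa using h2)
  have m0 : m ≠ 0 := by
    rintro rfl
    exact a0 (by simpa using h3)
  have h4 : (τ⁻¹).1 v = l⁻¹ • v := by rw [eq_inv_smul_iff₀ l0, ← map_smul, ← h2, inv_app]
  have h5 : (τ⁻¹).1 a = m⁻¹ • a := by rw [eq_inv_smul_iff₀ m0, ← map_smul, ← h3, inv_app]
  have hN : φ τ ∈ N[(K0 B hv.2 a).map φ] := mem_N_of_conj (by
    rintro _ ⟨s, ⟨l', m', k1, k2⟩, rfl⟩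
    refine ⟨τ * s * τ⁻¹, ⟨l', m⁻¹ * m' * l, ?_, ?_⟩, by rw [map_mul, map_mul, map_inv]⟩
    · rw [mul_app, mul_app, h4, map_smul, k1, map_smul, map_smul, h2, smul_smul, smul_smul]
      congr 1
      field_simp
    · rw [mul_app, mul_app, h5, map_smul, k2, map_smul, map_add, map_smul, map_smul, h2, h3,
        smul_add, smul_smul, smul_smul, smul_smul, smul_smul]
      congr 2
      field_simp)
  have hL : (K0 B hv.2 a).map φ ≤ L := by
    rintro _ ⟨s, -, rfl⟩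
    exact c.mem s
  obtain ⟨k, hk, n, hn, e⟩ :=
    (syl.mono ((le_inf syl.le le_normalizer).trans hK) hL).frattini hN
  have h6 : n ∈ L := (Subgroup.mul_mem_cancel_left _ (hL hk)).1 (e ▸ c.mem τ)
  obtain ⟨s, ⟨l', m', k1, k2⟩, e'⟩ := mul_mem hk (hK ⟨h6, hn⟩)
  obtain ⟨d, hd⟩ := eq_scal c (e.trans e'.symm)
  have h7 := hd v
  have h8 := hd a
  rw [h2, k1, smul_smul] at h7
  rw [h3, k2, smul_add, smul_smul, ← smul_left_injective E hv.2 h7] at h8
  refine ha (Submodule.mem_span_singleton.2 ⟨(m - l)⁻¹ * (d * m'), ?_⟩)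
  rw [mul_smul, inv_smul_eq_iff₀ (sub_ne_zero.2 h1.symm), sub_smul, h8]
  module

theorem QV_le {U D : Subgroup G} (syl : IsSylowIn 2 U L) {v : V} (hv : Pt B v)
    (NU : N[U] ≤ N[ZV i φ v]) (hZ : ZV i φ v ≤ D)
    (hD : ∀ n ∈ L ⊓ N[U], ∀ y ∈ QV φ v, ⁅n, y⁆ ∈ D) : QV φ v ≤ D := by
  have tr : ∀ w : V, ∃ d : E, d + σ d = B w w := fun w => c.qf.invol.exists_trace_eq (c.symm w w)
  have one : ∀ w d, B v w = 0 → d + σ d = B w w → EE φ v w d ∈ D →
      ∀ d', d' + σ d' = B w w → EE φ v w d' ∈ D := fun w d h1 h2 h3 d' h4 => by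
    have h5 : d' + d + σ (d' + d) = 0 := by
      rw [map_add]; linear_combination h2 + h4 + c.qf.add_self (B w w)
    have h6 := c.EE_mul (w := 0) (d := d' + d) hv.1 (map_zero _) (by simpa using h5) h1 h2
    rw [zero_add, zero_left, add_zero, add_assoc, c.qf.add_self, add_zero] at h6
    exact h6 ▸ mul_mem (hZ (EE_Z c h5)) h3
  let A : Submodule E V :=
    { carrier := {w | B v w = 0 ∧ ∀ e d : E, d + σ d = B (e • w) (e • w) → EE φ v (e • w) d ∈ D}
      zero_mem' := ⟨map_zero _, fun e d h => by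
        rw [smul_zero] at h ⊢
        exact hZ (EE_Z c (by simpa using h))⟩
      add_mem' := by
        rintro w w' ⟨h1, h2⟩ ⟨k1, k2⟩
        refine ⟨by rw [map_add, h1, k1, add_zero], fun e => ?_⟩
        obtain ⟨d, hd⟩ := tr (e • w)
        obtain ⟨d', hd'⟩ := tr (e • w')
        have h3 : B v (e • w) = 0 := by rw [sm_right, h1, mul_zero]
        have k3 : B v (e • w') = 0 := by rw [sm_right, k1, mul_zero]
        have h4 := mul_mem (h2 e d hd) (k2 e d' hd')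
        rw [c.EE_mul hv.1 h3 hd k3 hd'] at h4
        rw [smul_add]
        refine one _ _ (by rw [map_add, h3, k3, add_zero]) ?_ h4
        rw [map_add, map_add, c.symm, add_left, map_add, map_add]
        linear_combination hd + hd'
      smul_mem' := by
        rintro e w ⟨h1, h2⟩
        exact ⟨by rw [sm_right, h1, mul_zero], fun e' d => by rw [smul_smul]; exact h2 _ d⟩ }
  have hvA : v ∈ A := ⟨hv.1, fun e d h => by
    have h1 := UCtx.EE_shift (φ := φ) v 0 d e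
    rw [zero_add] at h1
    rw [isotropic_smul hv.1] at h
    rw [h1]
    refine hZ (EE_Z c ?_)
    rw [map_add, map_add, c.qf.sq]
    linear_combination h + c.qf.add_self (e + σ e)⟩
  have hsA : ∀ (s : sisom B) (l : E), φ s ∈ L ⊓ N[U] → s.1 v = l • v → ∀ w, B v w = 0 →
      σ l • s.1 w + w ∈ A := fun s l hs hl w hw => by
    have key : ∀ w, B v w = 0 → B v (σ l • s.1 w) = 0 := fun w hw => by
      rw [sm_right, ← sm_left, ← hl, iso_map, hw]
    refine ⟨by rw [map_add, key w hw, hw, add_zero], fun e => ?_⟩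
    obtain ⟨d, hd⟩ := tr (e • w)
    have h3 : B v (e • w) = 0 := by rw [sm_right, hw, mul_zero]
    have h4 := hD _ hs _ ((c.mem_QV hv).2 ⟨_, d, h3, hd, rfl⟩)
    have h5 : d * (l * σ l) + σ (d * (l * σ l)) = B (σ l • s.1 (e • w)) (σ l • s.1 (e • w)) := by
      rw [sm_left, sm_right, iso_map, ← hd, map_mul, map_mul, c.qf.sq]
      ring
    have h6 : σ d + σ (σ d) = B (e • w) (e • w) := by rw [c.qf.sq, add_comm, hd]
    rw [commutatorElement_def, c.EE_conj s hv.1 h3 hd, hl, c.EE_smul, EE_inv c hv.1 h3 hd,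
      c.EE_mul hv.1 (key _ h3) h5 h3 h6] at h4
    rw [smul_add, smul_comm, ← map_smul]
    refine one _ _ (by rw [map_add, key _ h3, h3, add_zero]) ?_ h4
    rw [map_add σ, map_add σ, c.symm, add_left, map_add (B _), map_add (B _)]
    linear_combination h5 + h6
  have hA : perp B A ≤ perp B (perp B (E ∙ v)) := fun a ha => by
    rw [c.herm.perp_perp]
    refine no_fix c syl hv (ha v hvA) fun n hn => ?_
    obtain ⟨s, rfl⟩ := c.surj hn.1
    obtain ⟨l, hl⟩ := fix_pt c hv (NU hn.2)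
    have h1 : s.1 a + l • a ∈ perp B (perp B (E ∙ v)) := fun x hx => by
      have h2 : B v ((s⁻¹).1 x) = 0 := by
        rw [← iso_map s, app_inv, hl, sm_left, mem_perp_span_singleton.1 hx, mul_zero]
      have h3 := ha _ (hsA s l hn hl _ h2)
      rw [add_left, sm_left, c.qf.sq, app_inv, ← iso_map s ((s⁻¹).1 x), app_inv] at h3
      rw [map_add, sm_right, add_comm, h3]
    rw [c.herm.perp_perp] at h1
    obtain ⟨m, hm⟩ := Submodule.mem_span_singleton.1 h1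
    exact ⟨s, ⟨l, m, hl, by rw [hm, add_left_comm, c.add_self, add_zero]⟩, rfl⟩
  intro y hy
  obtain ⟨w, d, h1, h2, rfl⟩ := (c.mem_QV hv).1 hy
  have h3 := (c.herm.perp_le_perp_iff.1 hA (mem_perp_span_singleton.2 h1)).2 1 d
  rw [one_smul] at h3
  exact h3 h2

omit c in
theorem wl (h1 : UM.HeisStmt.{u, v}) (h2 : UM.SIStmt.{u, v}) : UM.WLStmt.{u, v} := by
  intro F E V _ _ _ _ _ _ _ _ i σ B G _ _ φ L c ka kb
  obtain ⟨v, hv⟩ := c.exists_pt
  obtain ⟨v', k1, k2⟩ := c.hyp hv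
  obtain ⟨u, u', fr⟩ := c.exists_fr2 hv.1 k1 k2
  obtain ⟨W, _, _, p, B', Qf, H, fy, -⟩ := h1 i σ B φ L c ka kb v hv
  have si := (h2 i σ B φ L c ka kb).1 v hv
  obtain ⟨S, hS, SC⟩ := fy.syl
  have ht : TT i φ u 1 ∈ L ⊓ C[ZV i φ v] := ⟨c.TT_mem fr.ee' 1, mem_C fun z hz => by
    obtain ⟨a, rfl⟩ := (c.mem_ZV hv.1).1 hz
    exact (c.TT_comm hv.1 fr.ee' fr.o1 a 1).symm⟩
  obtain ⟨U, hU, tU⟩ := exists_isSylowIn_ge
    (H27.End.isPGroup_zpowers (is2_of_sq (c.TT_sq fr.ee' 1)))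
    (zpowers_le.2 ht)
  have syl : IsSylowIn 2 U L := hS.of_card_ge hU.isPGroup (hU.le.trans inf_le_left)
    (hU.card_le hS.isPGroup (le_inf hS.le SC))
  have UC : U ≤ C[ZV i φ v] := hU.le.trans inf_le_right
  have QU := Q_le H syl UC
  have e0 : (0 : E) + σ 0 = B u' u' := by rw [map_zero, add_zero, fr.ff']
  have e1 : (1 : E) + σ 1 = B u u := by rw [map_one, c.qf.add_self, fr.ee']
  have e2 : ⁅TT i φ u 1, EE φ v u' 0⁆ = EE φ v u 1 := by
    obtain ⟨s, hs, e⟩ := c.tt fr.ee' 1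
    rw [commutatorElement_def, ← e, c.EE_conj s hv.1 fr.o2 e0, EE_inv c hv.1 fr.o2 e0, hs, hs,
      c.flip fr.o1, fr.ef', mul_zero, zero_smul, add_zero, map_one, mul_one, one_smul, map_zero,
      c.EE_mul hv.1 (by rw [map_add, fr.o1, fr.o2, add_zero])
        (by simp [fr.ee', fr.ff', fr.ef', c.flip1 fr.ef', c.qf.add_self]) fr.o2 e0,
      add_comm u', add_assoc, c.add_self, add_zero, add_left, fr.ef', fr.ff']
    simp
  refine ⟨U, wl2 H fy.zodd syl UC c.mod.qs si.ab ((c.mem_QV hv).2 ⟨u, 1, fr.o1, e1, rfl⟩) ?_ ?_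
    (e2 ▸ commutator_mem_commutator (tU (mem_zpowers _))
      (QU ((c.mem_QV hv).2 ⟨u', 0, fr.o2, e0, rfl⟩))) ?_⟩
  · rw [c.EE_mul hv.1 fr.o1 e1 fr.o1 e1, c.add_self, c.qf.add_self, fr.ee', add_zero, EE_one c]
  · intro h
    obtain ⟨a, h⟩ := (c.mem_ZV hv.1).1 h
    obtain ⟨s1, l1, m1⟩ := c.ee hv.1 fr.o1 e1
    obtain ⟨s2, l2, m2⟩ := c.tt hv.1 a
    obtain ⟨d, hd⟩ := eq_scal c (m1.trans (h.trans m2.symm))
    have := congrArg (B v') (hd u')
    simp [l1, l2, fr.o2, fr.o4, fr.ef', c.flip1 k2] at this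
  · refine QV_le c syl hv (N_le H fy.zodd syl UC)
      ((WrH.Z_le_der H).trans (commutator_mono QU (QU.trans (le_inf syl.le le_normalizer))))
      fun n hn y hy => ?_
    rw [commutator_comm]
    exact commutator_mem_commutator hn (QU hy)

end Cfsg.Agent.H90.UmWL
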