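import Cfsg.Agent.H42.HtDefs

/-! HT-F2: centralisers in the symmetric group on ten points. -/

set_option autoImplicit false
set_option synthInstance.maxSize 2048

namespace Cfsg.Agent.H90.HtF2

open Cfsg Cfsg.Agent.H42.HT Subgroup
open Cfsg.Agent.H7.AA (d2 d2_conj nodup4 fix_of_comm_c3)
open Cfsg.Agent.H78
open Equiv (swap Perm)
open Equiv.Perm (sign)

theorem cen (s : Finset (Fin 10)) (h4 : 4 ≤ s.card) (p : P) (h : ∀ σ ∈ altOn s, Commute p σ) :
    ∀ k ∈ s, p k = k := fun k hk => by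
  have : 2 < (s.erase k).card := by rw [Finset.card_erase_of_mem hk]; omega
  obtain ⟨b, hb, c, hc, d, hd, bc, bd, cd⟩ := Finset.two_lt_card.1 this
  obtain ⟨bk, hb⟩ := Finset.mem_erase.1 hb
  obtain ⟨ck, hc⟩ := Finset.mem_erase.1 hc
  obtain ⟨dk, hd⟩ := Finset.mem_erase.1 hd
  exact (fix_of_comm_c3 (nodup4.2 ⟨bk.symm, ck.symm, dk.symm, bc, bd, cd⟩)
    (h _ (c3_mem_altOn hk hb hc bk.symm bc)) (h _ (c3_mem_altOn hk hb hd bk.symm bd))).1

theorem two {i j : Fin 10} (hij : i ≠ j) {p : P} (h : ∀ k, k ≠ i → k ≠ j → p k = k) :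
    p = 1 ∨ p = swap i j := by
  have hp : p ∈ symOn {i, j} := fun k hk => by
    simp only [Finset.mem_insert, Finset.mem_singleton, not_or] at hk
    exact h k hk.1 hk.2
  have hi := symOn_apply_mem hp (x := i) (by simp)
  have hj := symOn_apply_mem hp (x := j) (by simp)
  have hn := p.injective.ne hij
  simp only [Finset.mem_insert, Finset.mem_singleton] at hi hj
  by_cases e : p i = i
  · refine Or.inl (Equiv.ext fun k => ?_)
    have := h k
    rw [Equiv.Perm.one_apply]; grind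
  · refine Or.inr (Equiv.ext fun k => ?_)
    have := h k
    rw [Equiv.swap_apply_def]; grind

theorem moved {p τ : P} (h : Commute p τ) {x : Fin 10} (hx : τ x ≠ x) : τ (p x) ≠ p x := fun e =>
  hx (p.injective (by rw [← Equiv.Perm.mul_apply, h.eq, Equiv.Perm.mul_apply, e]))

theorem app {p τ : P} (h : Commute p τ) (x : Fin 10) : p (τ x) = τ (p x) := by
  rw [← Equiv.Perm.mul_apply, h.eq, Equiv.Perm.mul_apply]

theorem conj_off {p τ σ : P} {X : Finset (Fin 10)} (hX : ∀ x, x ∉ X ↔ τ x ≠ x) (h : Commute p τ)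
    (hσ : σ ∈ altOn X) : p * σ * p⁻¹ ∈ altOn X := by
  refine ⟨fun x hx => ?_, (alternatingGroup.normal).conj_mem σ hσ.2 p⟩
  rw [Equiv.Perm.mul_apply, Equiv.Perm.mul_apply,
    hσ.1 _ ((hX _).2 (moved h.inv_left ((hX x).1 hx)))]
  simp

theorem gen (s : Finset (Fin 10)) (h5 : 5 ≤ s.card) (S : Subgroup P)
    (h : ∀ a ∈ s, ∀ b ∈ s, ∀ c ∈ s, ∀ d ∈ s, [a, b, c, d].Nodup → d2 a b c d ∈ S) :
    altOn s ≤ S := by
  refine altOn_le_of_forall_c3 fun a ha b hb c hc ab ac bc => ?_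
  have : 1 < (s \ {a, b, c}).card := by
    have h1 := Finset.le_card_sdiff ({a, b, c} : Finset (Fin 10)) s
    have h2 : ({a, b, c} : Finset (Fin 10)).card ≤ 3 := Finset.card_le_three
    omega
  obtain ⟨d, hd, e, he, de⟩ := Finset.one_lt_card.1 this
  simp only [Finset.mem_sdiff, Finset.mem_insert, Finset.mem_singleton, not_or] at hd he
  have k : c3 a b c = d2 a b d e * d2 d e b c := by
    rw [c3_def, d2, d2, mul_assoc, Equiv.swap_mul_self_mul]
  rw [k]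
  exact mul_mem
    (h a ha b hb d hd.1 e he.1
      (nodup4.2 ⟨ab, Ne.symm hd.2.1, Ne.symm he.2.1, Ne.symm hd.2.2.1, Ne.symm he.2.2.1, de⟩))
    (h d hd.1 e he.1 b hb c hc (nodup4.2 ⟨de, hd.2.2.1, hd.2.2.2, he.2.2.1, he.2.2.2, bc⟩))

/-- The dihedral group of order eight. -/
abbrev L8 : Fin 8 → P := ![1, w, v, v * w, swap 0 1, swap 2 3, swap 0 1 * v, swap 2 3 * v]

theorem key {p : P} (h : Commute p w) :
    ∃ i q, q = L8 i ∧ p 0 = q 0 ∧ p 1 = q 1 ∧ p 2 = q 2 ∧ p 3 = q 3 := by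
  have k : ∀ a b : Fin 10, w a ≠ a → w b ≠ b → b ≠ a → b ≠ w a →
      ∃ i, a = L8 i 0 ∧ w a = L8 i 1 ∧ b = L8 i 2 ∧ w b = L8 i 3 := by decide +kernel
  have e1 : p 1 = w (p 0) := app h 0
  have e3 : p 3 = w (p 2) := app h 2
  rw [e1, e3]
  obtain ⟨i, hi⟩ := k (p 0) (p 2) (moved h (by decide)) (moved h (by decide))
    (p.injective.ne (by decide)) (by rw [← e1]; exact p.injective.ne (by decide))
  exact ⟨i, _, rfl, hi⟩

theorem cw (p : P) (h : Commute p w) :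
    (p * v * p⁻¹ = v ∨ p * v * p⁻¹ = v * w) ∧ ∀ σ ∈ B6, p * σ * p⁻¹ ∈ B6 := by
  refine ⟨?_, fun σ hσ => conj_off (by decide) h hσ⟩
  obtain ⟨i, q, hq, e0, e1, e2, e3⟩ := key h
  have k : ∀ i, d2 (L8 i 0) (L8 i 2) (L8 i 1) (L8 i 3) = v ∨
      d2 (L8 i 0) (L8 i 2) (L8 i 1) (L8 i 3) = v * w := by
    decide +kernel
  have : p * v * p⁻¹ = d2 (q 0) (q 2) (q 1) (q 3) := by rw [v, d2_conj, e0, e1, e2, e3]
  rw [this, hq]
  exact k i

theorem d8 (p : P) (h : Commute p w) (hB : ∀ σ ∈ B6, Commute p σ) :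
    (p * p = 1 → p = 1 ∨ p = w ∨ p = v ∨ p = v * w ∨ p = swap 0 1 ∨ p = swap 2 3) ∧
      (Odd (orderOf p) → p = 1) := by
  obtain ⟨i, q, hq, e0, e1, e2, e3⟩ := key h
  have f := cen _ (by decide) p hB
  have k : ∀ i, (∀ x ∈ ({0, 1, 2, 3}ᶜ : Finset (Fin 10)), L8 i x = x) ∧ L8 i ^ 4 = 1 ∧
      (L8 i * L8 i = 1 → L8 i = 1 ∨ L8 i = w ∨ L8 i = v ∨ L8 i = v * w ∨ L8 i = swap 0 1 ∨
        L8 i = swap 2 3) := by
    decide +kernel
  obtain ⟨k1, k2, k3⟩ := hq ▸ k i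
  clear hq
  obtain rfl : p = q := Equiv.ext fun x => by
    by_cases hx : x ∈ ({0, 1, 2, 3}ᶜ : Finset (Fin 10))
    · rw [f x hx, k1 x hx]
    · simp only [Finset.mem_compl, not_not, Finset.mem_insert, Finset.mem_singleton] at hx
      rcases hx with rfl | rfl | rfl | rfl <;> assumption
  refine ⟨k3, fun ho => orderOf_eq_one_iff.1 ?_⟩
  have := Nat.le_of_dvd (by decide) (orderOf_dvd_of_pow_eq_one k2)
  have h2 := orderOf_dvd_of_pow_eq_one k2
  generalize orderOf p = n at *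
  interval_cases n <;> first | rfl | exact absurd ho (by decide) | exact absurd h2 (by decide)

theorem fix4 {p : P} (h3 : p ^ 3 = 1) (h : Commute p w) :
    p 0 = 0 ∧ p 1 = 1 ∧ p 2 = 2 ∧ p 3 = 3 := by
  obtain ⟨i, q, hq, e0, e1, e2, e3⟩ := key h
  have e : ∀ x, w x ≠ x → p x = q x := fun x hx => by
    have : x = 0 ∨ x = 1 ∨ x = 2 ∨ x = 3 := by revert x; decide
    rcases this with rfl | rfl | rfl | rfl <;> assumption
  have c : ∀ x, w x ≠ x → q (q (q x)) = x := fun x hx => by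
    rw [← e x hx, ← e _ (moved h hx), ← e _ (moved h (moved h hx))]
    have := congrArg (· x) h3
    simpa [pow_three] using this
  have k : ∀ i, L8 i (L8 i (L8 i 0)) = 0 → L8 i (L8 i (L8 i 2)) = 2 → L8 i = 1 := by
    decide +kernel
  subst hq
  rw [e0, e1, e2, e3, k i (c 0 (by decide)) (c 2 (by decide))]
  exact ⟨rfl, rfl, rfl, rfl⟩

theorem r3 (p : P) (h3 : p ^ 3 = 1) (h : Commute p (swap 0 1 * v * w2)) : p = 1 := by
  have hw : Commute p w := by
    have := h.mul_right h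
    rwa [show swap 0 1 * v * w2 * (swap 0 1 * v * w2) = w by decide +kernel] at this
  obtain ⟨f0, f1, f2, f3⟩ := fix4 h3 hw
  have h1 : Commute p (swap 0 1) := by
    refine mul_inv_eq_iff_eq_mul.1 ?_
    rw [← Equiv.swap_apply_apply, f0, f1]
  have h2 : Commute p v := by
    refine mul_inv_eq_iff_eq_mul.1 ?_
    rw [v, d2_conj, f0, f1, f2, f3]
  have h4 : Commute p w2 := by
    have := (h1.mul_right h2).inv_right.mul_right h
    rwa [inv_mul_cancel_left] at this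
  obtain ⟨c, hc, c0, c1, c2, c3⟩ : ∃ c : P, c⁻¹ * w2 * c = w ∧ c 0 = 4 ∧ c 1 = 5 ∧ c 2 = 6 ∧
      c 3 = 7 := ⟨d2 0 4 1 5 * d2 2 6 3 7, by decide +kernel⟩
  obtain ⟨g0, g1, g2, g3⟩ := fix4 (p := c⁻¹ * p * c)
    (by rw [show (c⁻¹ * p * c) ^ 3 = c⁻¹ * p ^ 3 * c by simp only [pow_three]; group, h3]; group)
    (by
      rw [← hc]
      show _ * _ = _ * _
      calc c⁻¹ * p * c * (c⁻¹ * w2 * c) = c⁻¹ * (p * w2) * c := by group
        _ = c⁻¹ * w2 * c * (c⁻¹ * p * c) := by rw [h4.eq]; group)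
  simp only [Equiv.Perm.mul_apply, Equiv.Perm.inv_eq_iff_eq, c0, c1, c2, c3] at g0 g1 g2 g3
  rcases two (i := 8) (j := 9) (p := p) (by decide) (fun k a b => by
    have : k = 0 ∨ k = 1 ∨ k = 2 ∨ k = 3 ∨ k = 4 ∨ k = 5 ∨ k = 6 ∨ k = 7 := by revert k; decide
    rcases this with rfl | rfl | rfl | rfl | rfl | rfl | rfl | rfl <;> assumption) with e | e
  · exact e
  · rw [e] at h3; exact absurd h3 (by decide +kernel)

theorem dec0 {p : P} (h2 : p 2 = 2) (h3 : p 3 = 3) : ∃ a ∈ A8, ∃ e : ℕ, p = a * swap 0 1 ^ e := by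
  have m : ∀ a : P, a 2 = 2 → a 3 = 3 → sign a = 1 → a ∈ A8 := fun a a2 a3 s =>
    mem_altOn.2 ⟨fun x hx => by
      simp only [Finset.mem_compl, not_not, Finset.mem_insert, Finset.mem_singleton] at hx
      rcases hx with rfl | rfl <;> assumption, s⟩
  rcases Int.units_eq_one_or (sign p) with s | s
  · exact ⟨p, m p h2 h3 s, 0, by simp⟩
  · refine ⟨p * swap 0 1, m _ h2 h3 ?_, 1, by simp [mul_assoc]⟩
    rw [map_mul, s, Equiv.Perm.sign_swap (by decide)]; rfl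

theorem dec (p : P) (h : Commute p (swap 2 3)) :
    ∃ a ∈ A8, ∃ e f : ℕ, p = a * swap 0 1 ^ e * swap 2 3 ^ f := by
  have e3 : p 3 = swap 2 3 (p 2) := app h 2
  have m : swap (2 : Fin 10) 3 (p 2) ≠ p 2 := moved h (by decide)
  have k : ∀ a : Fin 10, swap (2 : Fin 10) 3 a ≠ a → a = 2 ∨ a = 3 := by decide
  rcases k _ m with e | e <;> rw [e] at e3
  · obtain ⟨a, ha, n, r⟩ := dec0 e e3
    exact ⟨a, ha, n, 0, by simpa using r⟩
  · obtain ⟨a, ha, n, r⟩ := dec0 (p := p * swap 2 3) e3 e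
    exact ⟨a, ha, n, 1, by rw [← r]; simp [mul_assoc]⟩

theorem f2 : F2 where
  cen := cen
  c8 i j hij p h := two hij fun k a b =>
    cen _ (by rw [Finset.card_compl, Finset.card_pair hij]; decide) p h k (by simp [a, b])
  sw i j hij p h σ hσ := conj_off (fun x => by
    simp only [Finset.mem_compl, not_not, Finset.mem_insert, Finset.mem_singleton,
      Equiv.swap_apply_def]; grind) h hσ
  gen := gen
  cw := cw
  d8 := d8
  r3 := r3
  dec := dec

end Cfsg.Agent.H90.HtF2
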