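import Cfsg.Agent.H46.L40Defs
import Cfsg.Agent.H44.L33T1
import Cfsg.Agent.H64.L33T2

/-! Project L40, piece T12: the models of the Sylow subgroup with the involution `t` kept. -/

set_option autoImplicit false
set_option linter.unusedSectionVars false
set_option linter.unusedSimpArgs false
set_option synthInstance.maxSize 2000

noncomputable section

namespace Cfsg.Agent.H90.L40T12

open Subgroup Cfsg.Agent.H83 Cfsg.Agent.H40.L3 Cfsg.Agent.H46.L40

universe u

section One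

open Cfsg.Agent.H44.L33

theorem t1t : T1tS.{u} := by
  intro G _ _ t h hg
  obtain ⟨β, b2, bt, bw, bq, ba⟩ := exists_beta h hg
  have y8 : h.y ^ 8 = 1 := h.y8 ▸ pow_orderOf_eq_one _
  have y4 : h.y ^ 4 ≠ 1 := pow_ne_one_of_lt_orderOf (by norm_num) (by rw [h.y8]; norm_num)
  have ty : t * h.y = h.y * t := by have := h.ry; rwa [h.rt] at this
  have ta : t * h.a = h.a * t := by have := h.ra; rwa [h.rt] at this
  obtain ⟨φ, eY, eA, eT, -⟩ := P.exists_hom y8 h.a2 h.ay h.t2 ty ta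
  have eW : h.y ^ 2 = φ .W := by rw [← eY, ← map_pow]; rfl
  have eZ : h.y ^ 4 = φ .Z := by rw [← eY, ← map_pow]; rfl
  have eQ : h.y * h.a = φ .Q := by rw [← eY, ← eA, ← map_mul]; rfl
  obtain ⟨e, c, hc, cb⟩ : ∃ (e : Bool) (c : P), c = (bif e then .A * .T else .A) ∧
      φ c * β = β * φ c := by
    rcases ba with k | k
    · exact ⟨false, .A, rfl, by rw [eA, mul_inv_eq_iff_eq_mul.1 k]⟩
    · refine ⟨true, .A * .T, rfl, (mul_inv_eq_iff_eq_mul.1 ?_).symm⟩
      rw [map_mul, eA, eT, ← conj_mul, k, bt, eZ, ← eA, ← eT, ← map_mul, ← map_mul, ← map_mul,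
        ← map_mul]
      rfl
  rw [eZ] at b2 bt y4
  rw [eW, mul_inv_eq_iff_eq_mul] at bw
  rw [eQ, mul_inv_eq_iff_eq_mul] at bq
  have bz : β * φ .Z = φ .Z * β := by rw [← b2, mul_assoc]
  have R : Rel1 (φ .T) β (φ .W) (φ .Q) (φ c) (φ .Z) := by
    refine ⟨?_, b2, ?_, ?_, ?_, ?_, by
      rw [eT, mul_inv_eq_iff_eq_mul.1 bt, mul_assoc, ← bz, mul_assoc], ?_, ?_, ?_, bw.symm, bq.symm,
      cb, ?_, ?_, ?_, ?_, ?_⟩ <;>
    simp only [← map_mul] <;> first | rw [← map_one φ] | skip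
    all_goals subst hc; cases e <;> rfl
  obtain ⟨ι, iT, iB, iW, iQ, iC, iZ⟩ := N.exists_hom R
  have inj := N.inj_of ι (iZ ▸ y4)
  have iA : ι (.A e) = h.a := by
    rw [← eA]
    cases e
    · exact iC.trans (congrArg φ hc)
    · rw [show N.A true = .C * .T from rfl, map_mul, iC, iT, ← map_mul, hc]; rfl
  have iY : ι (.Q * .A e) = h.y := by rw [map_mul, iQ, iA, ← eQ, mul_assoc, h.a2, mul_one]
  rw [eT] at iT
  have DL : closure {h.y, h.a} ≤ (N.sD e).map ι := (closure_le _).2 (by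
    rintro _ (rfl | rfl)
    exacts [mem_map.2 ⟨_, by cases e <;> decide, iY⟩, mem_map.2 ⟨_, by cases e <;> decide, iA⟩])
  have eS : N.sS.map ι = h.S := h.syl.max _ (by
      rintro _ ⟨m, hm, rfl⟩
      rw [SetLike.mem_coe] at hm
      rw [mem_centralizer_singleton_iff, ← iT, ← map_mul, ← map_mul]
      exact congrArg ι (by revert m; decide +kernel))
    (((IsPGroup.of_card (n := 6) N.card_all).to_subgroup _).map ι) fun x hx =>
      sup_le (zpowers_le.2 (mem_map.2 ⟨.T, by decide, iT.trans h.rt.symm⟩))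
        (DL.trans (map_mono fun m => by revert m; cases e <;> decide +kernel)) ((h.cov x hx).elim id (by simp [hg]))
  have syl : IsSylowIn 2 (N.sS.map ι) (centralizer ({ι .T} : Set G)) := by rw [eS, iT]; exact h.syl
  have fus : ∀ g : G, g * ι .T = ι .T * g → ∀ m n : N, m ∈ N.sD e → g * ι m * g⁻¹ = ι n →
      n ∈ N.sD e := fun g gt m n hm k => by
    have hy : h.y ∈ h.S ⊓ h.L := h.SL ▸ subset_closure (by simp)
    have ha : h.a ∈ h.S ⊓ h.L := h.SL ▸ subset_closure (by simp)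
    have mL : ι m ∈ h.L := by
      obtain ⟨i, rfl | rfl⟩ := sd_word e m hm
      · rw [map_pow, iY]; exact pow_mem hy.2 _
      · rw [map_mul, map_pow, iY, iA]; exact mul_mem (pow_mem hy.2 _) ha.2
    have nT : n * .T = .T * n := inj (by
      have : m * .T = .T * m := by clear k mL; revert m; cases e <;> decide +kernel
      rw [map_mul, map_mul, ← k]
      exact (((show Commute g _ from gt).mul_left (show Commute (ι m) (ι .T) by
        rw [Commute, SemiconjBy, ← map_mul, this, map_mul])).mul_left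
          (show Commute g _ from gt).inv_left).eq)
    have nS : ι n ∈ h.S := eS ▸ mem_map_of_mem ι (by clear k; revert n; decide +kernel)
    obtain ⟨n', k1, k2⟩ := DL (h.SL ▸ ⟨nS, k ▸ h.Ln g (iT ▸ gt) _ mL⟩ : ι n ∈ closure {h.y, h.a})
    exact inj k2 ▸ k1
  rw [← eZ] at iZ
  rw [← eW] at iW
  rw [← eQ] at iQ
  obtain ⟨κ, k1, k2, k3, k4, k5⟩ := H44.L33.kappa ι inj syl fus h.κ (iT ▸ h.κt)
    (by simpa only [ez1, map_mul, iW, iQ, iZ] using h.κ1)
    (by simpa only [ez1, map_mul, iW, iQ, iZ] using h.κ2)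
  exact ⟨e, ⟨ι, inj, syl, fus, by rw [iZ, iT]; exact h.nz, h.ρ, iT ▸ h.ρt,
    by rw [iZ, iA, h.ρ1], by rw [map_mul, iZ, iA, h.ρ2], κ, k1, k2, k3, k4, k5⟩, iT⟩

end One

section Two

open Cfsg.Agent.H64.T2

variable {G : Type*} [Group G] [Finite G]

section P

open Cfsg.Agent.H64.T2.P

theorem start' {t : G} (h : H1 G t) (g1 : h.g ≠ 1) : ∃ j : P →* G, j T = t ∧ Sit j h.ρ h.κ ∧
    h.α ∈ normalizer (j.range : Set G) ∧ Ac j h.α T (T * Z) ∧ h.α * h.α ∈ j.range := by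
  obtain ⟨⟨y, a, r, g, ρ, κ, S, L, K, t1, t2, syl, y8, a2, ay, Ln, Kn, SL, SK, tr, ry, ra, dis, ρt, ρ1,
    ρ2, κt, κ1, κ2, gS, cov, out⟩, rt, nz, g2, α, αS, αt, α2⟩ := h
  replace rt : r = t := rt
  dsimp only at nz g2 αS αt α2 g1 ⊢
  subst rt
  obtain ⟨-, gy, ga, -⟩ := out.resolve_left g1
  have y1 : y ^ 8 = 1 := y8 ▸ pow_orderOf_eq_one y
  have r1 : ∀ x, a * (y * x) = y * (y * (y * (a * x))) := fun x => by
    calc a * (y * x) = a * y * (a * a) * x := by rw [a2]; group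
      _ = a * y * a * (a * x) := by group
      _ = _ := by rw [ay]; simp only [pow_succ, pow_zero, one_mul, mul_assoc]
  have r2 : ∀ x, g * (y * x) = y * (y * (y * (y * (y * (g * x))))) := fun x => by
    calc g * (y * x) = g * y * g⁻¹ * (g * x) := by group
      _ = _ := by rw [gy]; simp only [pow_succ, pow_zero, one_mul, mul_assoc]
  have r3 : ∀ x, y * (y * (y * (y * (y * (y * (y * (y * x))))))) = x := fun x => by
    conv_rhs => rw [← one_mul x, ← y1]
    simp only [pow_succ, pow_zero, one_mul, mul_assoc]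
  have gr : g * r = r * g := mem_centralizer_singleton_iff.1 (syl.le gS)
  have R : Rel0 r (y ^ 6 * g) (y ^ 2) (y * a) a (y ^ 4) := by
    constructor <;> refine ext_r fun x => ?_ <;>
      simp only [pow_succ, pow_zero, one_mul, mul_assoc, r1, r2, r3, tl t2, tl a2, tl g2, tl ga,
        tl ry.symm, tl ra.symm, tl gr]
  obtain ⟨j, jt, jd, jw, jq, ja, jz⟩ := exists_hom R
  have z1 : y ^ 4 ≠ 1 := fun e => by
    have := orderOf_dvd_of_pow_eq_one e
    rw [y8] at this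
    omega
  have inj : Function.Injective j := by
    rw [injective_iff_map_eq_one]
    intro m hm
    rcases ker_aux m with e | e | e | e | ⟨g, -, e | ⟨k, -, e⟩⟩
    · exact e
    · exact absurd (by rw [← jz, ← e, hm]) z1
    · exact absurd (by rw [← jt, ← e, hm]) t1
    · rw [e, map_mul, jt, jz] at hm
      exact absurd (by rw [eq_inv_of_mul_eq_one_right hm, inv_eq_of_mul_eq_one_right t2]) nz
    · exact absurd (by rw [← jz, ← e]; simp [hm]) z1
    · exact absurd (by rw [← jz, ← e]; simp [hm]) z1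
  have yD : y ∈ S ⊓ L := SL ▸ subset_closure (by simp)
  have aD : a ∈ S ⊓ L := SL ▸ subset_closure (by simp)
  have jy : j (Q * A) = y := by rw [map_mul, jq, ja, mul_assoc, a2, mul_one]
  have cl : ∀ x ∈ closure {y, a}, ∃ m : P, m.1 ∈ M.sD ∧ j m = x := fun x hx => by
    refine (closure_le ((M.sD.comap (M.sS.subtype)).map j)).2 ?_ hx
    rintro _ (rfl | rfl)
    · exact ⟨Q * A, show (Q * A).1 ∈ M.sD by decide +kernel, jy⟩
    · exact ⟨A, show A.1 ∈ M.sD by decide +kernel, ja⟩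
  have rg : j.range = S := by
    refine le_antisymm ?_ fun x hx => ?_
    · rintro _ ⟨m, rfl⟩
      rw [nf m, map_E, jt, jd, jw, jq, ja, jz]
      exact mul_mem (mul_mem (mul_mem (mul_mem (mul_mem
        (bp_mem (SK.ge (mem_zpowers r)).1 _) (bp_mem (mul_mem (pow_mem yD.1 _) gS) _))
        (bp_mem (pow_mem yD.1 _) _)) (bp_mem (mul_mem yD.1 aD.1) _)) (bp_mem aD.1 _))
        (bp_mem (pow_mem yD.1 _) _)
    · have k : zpowers r ⊔ closure {y, a} ≤ j.range := sup_le (zpowers_le.2 ⟨T, jt⟩) fun x hx => by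
        obtain ⟨m, -, e⟩ := cl x hx
        exact ⟨m, e⟩
      rcases cov x hx with e | e
      · exact k e
      · refine (mul_mem_cancel_right (inv_mem (show g ∈ j.range from ⟨D * W, ?_⟩))).1 (k e)
        rw [map_mul, jd, jw]
        refine ext_r fun x => ?_
        simp only [pow_succ, pow_zero, one_mul, mul_assoc, r2, r3]
  refine ⟨j, jt, ⟨inj, by rwa [rg, jt], fun h m n ht hm hD => ?_, by rwa [jz, jt], .of_comm (by rwa [jt]),
    by rwa [Ac, jz, ja], by rwa [Ac, map_mul, jz, ja], .of_comm (by rwa [jt]), ?_, ?_⟩,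
    by rwa [rg], by rwa [Ac, map_mul, jt, jz], by rwa [rg]⟩
  · have : j m ∈ L := by
      rw [sD_nf m hD, map_mul, map_mul, map_mul, map_bp, map_bp, map_bp, map_bp, jw, jq, ja, jz]
      exact mul_mem (mul_mem (mul_mem (bp_mem (pow_mem yD.2 _) _) (bp_mem (mul_mem yD.2 aD.2) _))
        (bp_mem aD.2 _)) (bp_mem (pow_mem yD.2 _) _)
    have := Ln h (jt ▸ ht.comm) _ this
    rw [hm] at this
    obtain ⟨n', h1, e⟩ := cl (j n) (SL ▸ ⟨rg ▸ ⟨n, rfl⟩, this⟩)
    exact inj e ▸ h1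
  · simpa only [Ac, map_mul, jw, jq, jz] using κ1
  · simpa only [Ac, map_mul, jw, jq, jz] using κ2

variable {j : P →* G} {ρ κ β : G}

theorem delta' (h : Sit j ρ κ) (b : Bt j β) :
    ∃ j' : P →* G, j' T = j T ∧ Sit j' ρ κ ∧ Bt j' β ∧ Ac j' β D D := by
  obtain ⟨d, e⟩ := b.nm D
  obtain ⟨n, -, -, en⟩ := b.sq'
  have e2 : Ac j (β * β) D D := (en D).to rfl (d_aux' n ((en W).uniq h.inj (b.w.comp b.w))
    ((en Q).uniq h.inj (b.q.comp b.q)))
  rcases d_aux d (((e.mul b.w).to (by decide +kernel) rfl).uniq h.inj (b.w.mul e))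
    (((e.mul b.q).to (by decide +kernel) rfl).uniq h.inj (b.q.mul e))
    (((e.mul e).to (by decide +kernel) rfl).uniq h.inj b.z) with rfl | rfl | rfl | rfl
  · exact ⟨j, rfl, h, b, e⟩
  · exact ⟨j.comp θT, congrArg j thT.t, h.comp thT, b.comp thT,
      (e.mul b.t).to (m' := θT D) (n' := θT D) (by decide +kernel) (by decide +kernel)⟩
  · exact absurd ((e.comp (b.t.mul e)).uniq h.inj e2) (by decide +kernel)
  · exact absurd ((e.comp ((b.t.mul e).mul b.z)).uniq h.inj e2) (by decide +kernel)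

theorem rho' (h : Sit j ρ κ) (b : Bt j β) (hd : Ac j β D D) :
    ∃ (j' : P →* G) (ρ' : G), j' T = j T ∧ Sit j' ρ' κ ∧ Bt j' β ∧ Ac j' β D D ∧ Ac j' ρ' (D * W) (D * W) := by
  have sy := h.sylA
  have mt : ∀ {g}, Ac j g T T → g ∈ centralizer ({j T} : Set G) := fun e =>
    mem_centralizer_singleton_iff.2 e.comm
  obtain ⟨c, hc, r, hr, rfl⟩ := sy.frattini (g := ρ) (le_norm_inf (H := zpowers ρ)
    (le_norm_of_le (zpowers_le.2 (mt h.ρt))) (le_norm_cent (zpowers_le.2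
      (normV h.ρa h.ρz (by decide +kernel) (by decide +kernel)))) (mem_zpowers ρ))
  have cv : ∀ n ∈ pV, Ac j c⁻¹ n n := fun n hn => (Ac.of_comm (hc.2 _ ⟨n, hn, rfl⟩).symm).symm
  have ct : Ac j c⁻¹ T T := (Ac.of_comm (mem_centralizer_singleton_iff.1 hc.1)).symm
  have rt : Ac j r T T := by simpa using h.ρt.comp ct
  have rz : Ac j r Z A := by simpa using h.ρz.comp (cv _ (by decide +kernel))
  have ra : Ac j r A (A * Z) := by simpa using h.ρa.comp (cv _ (by decide +kernel))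
  have h' : Sit j r κ := ⟨h.inj, h.syl, h.fus, h.nz, rt, rz, ra, h.κt, h.κw, h.κq⟩
  obtain ⟨g, hg, e⟩ := Ac.of_norm hr (show D * W ∈ pA by decide +kernel)
  have a1 : ∀ {n}, n ∈ pA → Ac j r n (fρ g n) := acA rt e ra rz
  have a2 : ∀ {n}, n ∈ pA → Ac j (j W * r) n (fw g n) := fun hn => (a1 hn).comp (.inn W _)
  have m1 : ∀ {n}, n ∈ pA → fρ g n ∈ pA := fun hn => (fρ_mem g hg _ hn).1
  have m2 : ∀ {n}, n ∈ pA → fw g n ∈ pA := fun hn => (fρ_mem g hg _ hn).2
  have gA : D * W ∈ pA := by decide +kernel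
  have key : ∀ {x : G} {f : P → P}, (∀ {n}, n ∈ pA → Ac j x n (f n)) → (∀ {n}, n ∈ pA → f n ∈ pA) →
      (∀ n ∈ [T, A, Z], n ∈ pA ∧ f n = n) → f (f (D * W)) = D * W → f (D * W) = D * W := by
    intro x f a m v e
    have v' : ∀ n ∈ [T, A, Z], Ac j x n n := fun n hn => (a (v n hn).1).to rfl (v n hn).2
    refine (a gA).uniq h.inj (.of_comm (comm_of_sq sy ⟨mt (v' _ (by simp)), ?_⟩
      (Ac.norm fun n hn => ⟨_, m hn, a hn⟩) ?_ (((a gA).comp (a (m gA))).to rfl e).comm))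
    · rintro _ ⟨n, hn, rfl⟩
      exact ((((v' A (by simp)).bp _).mul ((v' Z (by simp)).bp _)).to (nfV n hn).symm
        (nfV n hn).symm).comm.symm
    · rintro _ ⟨n, hn, rfl⟩
      rw [← map_mul, ← map_mul, (by decide +kernel : ∀ n ∈ pA, n * (D * W) = D * W * n) n hn]
  have eg : fρ g (D * W) = g := (a1 gA).uniq h.inj e
  rcases g_aux g hg (fun n hn k => ((a1 hn).to rfl k).uniq' h.inj e) with rfl | rfl | ⟨k1, k2⟩ | ⟨k1, k2⟩
  · exact ⟨j, r, rfl, h', b, hd, e⟩
  · exact ⟨j.comp θZ, r, congrArg j thZ.t, h'.comp thZ, b.comp thZ,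
      (hd.mul b.z).to (m' := θZ D) (n' := θZ D) (by decide +kernel) (by decide +kernel),
      (e.mul rz).to (m' := θZ (D * W)) (n' := θZ (D * W)) (by decide +kernel) (by decide +kernel)⟩
  · have := key (f := fun n => fρ g (fρ g (fρ g n)))
      (fun hn => ((a1 hn).comp (a1 (m1 hn))).comp (a1 (m1 (m1 hn)))) (fun hn => m1 (m1 (m1 hn)))
      (fun n hn => ⟨(fV g hg n hn).1, (fV g hg n hn).2.1⟩) (by rw [eg]; exact k2)
    rw [eg] at this
    exact absurd this k1
  · exact absurd (key (f := fun n => fw g (fw g n)) (fun hn => (a2 hn).comp (a2 (m2 hn)))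
      (fun hn => m2 (m2 hn)) (fun n hn => ⟨(fV g hg n hn).1, (fV g hg n hn).2.2⟩) k2) k1

end P

theorem t2t : T2tS.{u} := by
  intro G _ _ t h g1
  obtain ⟨j0, e0, s0, a1, a2, a3⟩ := start' h g1
  obtain ⟨β0, b0⟩ := s0.beta a1 a2 a3
  obtain ⟨j1, e1, s1, b1, d1⟩ := delta' s0 b0
  obtain ⟨j, ρ, e2, s, b, d, g⟩ := rho' s1 b1 d1
  obtain ⟨o, β, R⟩ := s.rel b d g
  obtain ⟨ι, it, ib, id, iw, iq, ia, iz⟩ := M.exists_hom R
  have z1 : ι .Z ≠ 1 := iz ▸ fun e => absurd (s.inj (e.trans (map_one j).symm)) (by decide +kernel)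
  have inj := M.inj_of ι z1
  have ca : ∀ m hm, ι m = j (cast m hm) := fun m hm => by
    refine (congrArg ι (nfM o m hm)).trans (Eq.trans ?_ (congrArg j (P.nf (cast m hm))).symm)
    rw [map_E, map_E, it, id, iw, iq, ia, iz]
    rfl
  have syl : IsSylowIn 2 (M.sS.map ι) (centralizer ({ι .T} : Set G)) := by
    rw [it]
    convert s.syl using 1
    refine le_antisymm ?_ ?_
    · rintro _ ⟨m, hm, rfl⟩
      exact ⟨_, (ca m hm).symm⟩
    · rintro _ ⟨m, rfl⟩
      exact ⟨⟨m.1.v, m.1.h⟩, m.2, ca _ m.2⟩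
  have fus : ∀ h m n, Ac ι h .T .T → Ac ι h m n → m ∈ (M.sD : Subgroup (M o)) →
      n ∈ (M.sD : Subgroup (M o)) := fun h m n ht e hm => by
    have m1 : m ∈ (M.sS : Subgroup (M o)) :=
      (by cases o <;> decide +kernel : ∀ m ∈ (M.sD : Subgroup (M o)), m ∈ (M.sS : Subgroup (M o))) m hm
    have n1 := (cT o n).1 (((e.mul ht).to ((cT o m).2 m1) rfl).uniq inj (ht.mul e))
    rw [Ac, it] at ht
    rw [Ac, ca m m1, ca n n1] at e
    exact s.fus h _ _ ht e hm
  obtain ⟨κ, kt, kz, kb, kd, kw, kq⟩ := H64.T2.kappa (κ := h.κ) inj syl fus (by rw [Ac, it]; exact s.κt)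
    (by simpa only [Ez, Ac, map_mul, iw, iq, iz] using s.κw)
    (by simpa only [Ez, Ac, map_mul, iw, iq, iz] using s.κq)
  refine ⟨o, ⟨ι, inj, syl, fun h ht m n hm e => fus h m n (.of_comm ht) e hm,
    by rw [it, iz]; exact s.nz, ρ, by rw [it]; exact s.ρt.comm, by rw [iz, ia]; exact s.ρz,
    by rw [map_mul, iz, ia, ← map_mul]; exact s.ρa, fun _ => ?_, κ, kt.comm, kz.comm, kb, kd, kw, kq⟩,
    it.trans (e2.trans (e1.trans e0))⟩
  rw [M.Gm, map_mul, id, iw, ← map_mul]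
  exact g.comm

end Two

end Cfsg.Agent.H90.L40T12
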