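import Cfsg.Agent.H56.ZCDefs
import Cfsg.Agent.H60.Burnside2T

/-!
The step `Zc1aStmt`: an elementary abelian subgroup normalised by a point stabiliser.
-/

set_option autoImplicit false

namespace Cfsg.Agent.H90.ZcA

open Subgroup MulAction Cfsg.Agent.H56.FS Cfsg.Agent.H56.ZC

universe u v

variable {H : Type u} [Group H]

theorem cent_bot {N : Subgroup H} (hN : MinN N) (hc : ¬ IsMulCommutative N) :
    N ⊓ centralizer (N : Set H) = ⊥ := by
  have := hN.1
  rcases hN.2.2 (N ⊓ centralizer (N : Set H)) inferInstance inf_le_left with h | h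
  · exact h
  · exfalso
    apply hc
    refine ⟨⟨?_⟩⟩
    rintro ⟨a, ha⟩ ⟨b, hb⟩
    have h1 : a ∈ N ⊓ centralizer (N : Set H) := h.symm ▸ ha
    exact Subtype.ext (h1.2 b hb).symm

theorem prim [Finite H] {Γ : Type v} [Finite Γ] [MulAction H Γ]
    (h2 : IsMultiplyPretransitive H Γ 2) (b : Γ) {N : Subgroup H} (hN : MinN N)
    (hc : ¬ IsMulCommutative N) (hb : ¬ N ≤ stabilizer H b) : IsPreprimitive N Γ := by
  have := hN.1
  let f := toPermHom H Γ
  let q : H →* f.range := f.rangeRestrict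
  have hq : Function.Surjective q := f.rangeRestrict_surjective
  have hsm : ∀ (g : H) (x : Γ), q g • x = g • x := fun g x => rfl
  have hker : N ⊓ q.ker = ⊥ := by
    rcases hN.2.2 (N ⊓ q.ker) inferInstance inf_le_left with h | h
    · exact h
    · exfalso
      apply hb
      intro n hn
      have h1 : n ∈ N ⊓ q.ker := h.symm ▸ hn
      have h3 : q n = 1 := h1.2
      rw [mem_stabilizer_iff, ← hsm, h3, one_smul]
  have hinj : ∀ n ∈ N, q n = 1 → n = 1 := fun n hn h => by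
    have : n ∈ N ⊓ q.ker := ⟨hn, h⟩
    rwa [hker, mem_bot] at this
  have hG : IsMultiplyPretransitive f.range Γ 2 := by
    rw [is_two_pretransitive_iff] at h2 ⊢
    intro a b' c d hab hcd
    obtain ⟨g, h1, h3⟩ := h2 hab hcd
    exact ⟨q g, h1, h3⟩
  have hN' : (N.map q).Normal := Normal.map inferInstance q hq
  have hne : N.map q ≠ ⊥ := by
    intro h
    apply hN.2.1
    rw [eq_bot_iff]
    intro n hn
    have h1 : q n ∈ N.map q := mem_map_of_mem q hn
    rw [h, mem_bot] at h1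
    exact hinj n hn h1
  have hmin : ∀ M : Subgroup f.range, M.Normal → M ≤ N.map q → M = ⊥ ∨ M = N.map q := by
    intro M hM hle
    rcases hN.2.2 (N ⊓ M.comap q) inferInstance inf_le_left with h | h
    · left
      rw [eq_bot_iff]
      intro m hm
      obtain ⟨n, hn, rfl⟩ := hle hm
      have h1 : n ∈ N ⊓ M.comap q := ⟨hn, hm⟩
      rw [h, mem_bot] at h1
      rw [h1, map_one]
      exact one_mem _
    · right
      refine le_antisymm hle ?_
      rintro _ ⟨n, hn, rfl⟩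
      have h1 : n ∈ N ⊓ M.comap q := h.symm ▸ hn
      exact h1.2
  rcases H60.burnside_minimal_normal hG (N.map q) hne hmin with h | h
  · exfalso
    apply hc
    refine ⟨⟨?_⟩⟩
    rintro ⟨x, hx⟩ ⟨y, hy⟩
    have h1 := congrArg Subtype.val
      (h.1.is_comm.comm ⟨q x, mem_map_of_mem q hx⟩ ⟨q y, mem_map_of_mem q hy⟩)
    have h3 : q (x * y) = q (y * x) := by rw [map_mul, map_mul]; exact h1
    have h4 : q ((y * x)⁻¹ * (x * y)) = 1 := by rw [map_mul, map_inv, h3, inv_mul_cancel]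
    have h5 := hinj _ (N.mul_mem (N.inv_mem (N.mul_mem hy hx)) (N.mul_mem hx hy)) h4
    exact Subtype.ext (inv_mul_eq_one.1 h5).symm
  · let φ : N → N.map q := fun n => ⟨q n, mem_map_of_mem q n.2⟩
    have hφ : Function.Surjective φ := by
      rintro ⟨_, n, hn, rfl⟩
      exact ⟨⟨n, hn⟩, rfl⟩
    let e : Γ →ₑ[φ] Γ := ⟨id, fun _ _ => rfl⟩
    exact (isPreprimitive_congr (f := e) hφ Function.bijective_id).2 h.2.1

theorem max_stab {Γ : Type v} [Nontrivial Γ] [MulAction H Γ] (b : Γ) {N : Subgroup H}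
    (hp : IsPreprimitive N Γ) (L : Subgroup H) (h1 : N ⊓ stabilizer H b ≤ L) (h2 : L ≤ N) :
    L = N ⊓ stabilizer H b ∨ L = N := by
  have hco : IsCoatom (stabilizer N b) := (isCoatom_stabilizer_iff_preprimitive N b).2 hp
  have hle : stabilizer N b ≤ L.subgroupOf N := fun n hn => h1 ⟨n.2, hn⟩
  rcases hle.eq_or_lt with h | h
  · left
    refine le_antisymm (fun x hx => ⟨h2 hx, ?_⟩) h1
    have h3 : (⟨x, h2 hx⟩ : N) ∈ L.subgroupOf N := hx
    rw [← h] at h3
    exact h3
  · right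
    refine le_antisymm h2 fun x hx => ?_
    have h3 : (⟨x, hx⟩ : N) ∈ L.subgroupOf N := by rw [hco.2 _ h]; exact mem_top _
    exact h3

theorem zc1a : Zc1aStmt.{u, v} := by
  intro H _ _ Γ _ _ _ h2 b N R hN hc hRN hR0 hnorm heq
  have := hN.1
  have hZ := cent_bot hN hc
  have hZ' : ∀ z ∈ N, (∀ n ∈ N, n * z = z * n) → z = 1 := fun z hz h => by
    have h1 : z ∈ N ⊓ centralizer (N : Set H) := ⟨hz, h⟩
    rwa [hZ, mem_bot] at h1
  have hcR : ∀ x ∈ N ⊓ stabilizer H b, ∀ r ∈ R, r * x = x * r := fun x hx r hr => by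
    rw [heq] at hx
    exact hx.2 r hr
  have hb : ¬ N ≤ stabilizer H b := by
    intro h
    apply hR0
    rw [eq_bot_iff]
    intro r hr
    exact hZ' r (hRN hr) fun n hn => (hcR n ⟨hn, h hn⟩ r hr).symm
  have hmax := max_stab b (prim h2 b hN hc hb)
  have hpH : IsPreprimitive H Γ := isPreprimitive_of_is_two_pretransitive h2
  have hco : IsCoatom (stabilizer H b) := (isCoatom_stabilizer_iff_preprimitive H b).2 hpH
  have hRb : R ≤ stabilizer H b := by
    rcases hnorm.eq_or_lt with h | h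
    · rw [h]; exact le_normalizer
    · exfalso
      have hRn : R.Normal := normalizer_eq_top_iff.1 (hco.2 _ h)
      have hRN' : R = N := (hN.2.2 R hRn hRN).resolve_left hR0
      rw [hRN', hZ] at heq
      obtain ⟨⟨x, hx⟩, hx1⟩ := (ne_bot_iff_exists_ne_one).1 hN.2.1
      have hx1' : x ≠ 1 := fun e => hx1 (Subtype.ext e)
      rcases hmax (zpowers x) (by rw [heq]; exact bot_le) (zpowers_le.2 hx) with h3 | h3
      · rw [heq, zpowers_eq_bot] at h3
        exact hx1' h3
      · apply hc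
        rw [← h3]
        infer_instance
  obtain ⟨⟨r, hr⟩, hr1⟩ := (ne_bot_iff_exists_ne_one).1 hR0
  have hr1' : r ≠ 1 := fun e => hr1 (Subtype.ext e)
  have ho : orderOf r ≠ 1 := fun e => hr1' (orderOf_eq_one_iff.1 e)
  obtain ⟨p, hp, k, hk⟩ := Nat.exists_prime_and_dvd ho
  let W : Subgroup H :=
    { carrier := {x | x ∈ N ⊓ stabilizer H b ∧ (∀ y ∈ N ⊓ stabilizer H b, y * x = x * y) ∧
        x ^ p = 1}
      one_mem' := ⟨one_mem _, fun y _ => by rw [mul_one, one_mul], one_pow p⟩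
      mul_mem' := by
        rintro x y ⟨hx1, hx2, hx3⟩ ⟨hy1, hy2, hy3⟩
        refine ⟨mul_mem hx1 hy1, fun w hw => ?_, ?_⟩
        · rw [← mul_assoc, hx2 w hw, mul_assoc, hy2 w hw, mul_assoc]
        · rw [Commute.mul_pow (hy2 x hx1), hx3, hy3, mul_one]
      inv_mem' := by
        rintro x ⟨hx1, hx2, hx3⟩
        refine ⟨inv_mem hx1, fun w hw => ?_, ?_⟩
        · exact (Commute.inv_right (hx2 w hw)).eq
        · rw [inv_pow, hx3, inv_one] }
  have hconj : ∀ g ∈ stabilizer H b, ∀ y ∈ N ⊓ stabilizer H b,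
      g * y * g⁻¹ ∈ N ⊓ stabilizer H b := fun g hg y hy =>
    ⟨hN.1.conj_mem y hy.1 g, (stabilizer H b).mul_mem ((stabilizer H b).mul_mem hg hy.2)
      ((stabilizer H b).inv_mem hg)⟩
  have hWc : ∀ g ∈ stabilizer H b, ∀ x ∈ W, g * x * g⁻¹ ∈ W := by
    rintro g hg x ⟨hx1, hx2, hx3⟩
    refine ⟨hconj g hg x hx1, fun y hy => ?_, ?_⟩
    · have h1 := hx2 _ (hconj g⁻¹ (inv_mem hg) y hy)
      calc y * (g * x * g⁻¹) = g * (g⁻¹ * y * g⁻¹⁻¹ * x) * g⁻¹ := by group
        _ = g * x * g⁻¹ * y := by rw [h1]; group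
    · rw [conj_pow, hx3, mul_one, mul_inv_cancel]
  refine ⟨p, W, hp, ?_, fun x hx => hx.1.1, fun x hx => hx.2.2, fun x hx => hx.1.2, ?_, ?_⟩
  · intro hW
    have hk0 : 0 < k := by
      rcases Nat.eq_zero_or_pos k with h | h
      · rw [h, mul_zero] at hk
        exact absurd hk (orderOf_pos r).ne'
      · exact h
    have h1 : r ^ k ∈ W := by
      refine ⟨(N ⊓ stabilizer H b).pow_mem ⟨hRN hr, hRb hr⟩ k, fun y hy => ?_, ?_⟩
      · exact (hcR y hy _ (pow_mem hr k)).symm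
      · rw [← pow_mul, mul_comm, ← hk, pow_orderOf_eq_one]
    rw [hW, mem_bot] at h1
    have h3 := Nat.le_of_dvd hk0 (orderOf_dvd_of_pow_eq_one h1)
    have h4 := hp.two_le
    nlinarith
  · intro g hg
    rw [mem_normalizer_iff]
    intro x
    refine ⟨hWc g hg x, fun h => ?_⟩
    have h1 := hWc g⁻¹ (inv_mem hg) _ h
    have h3 : g⁻¹ * (g * x * g⁻¹) * g⁻¹⁻¹ = x := by group
    rwa [h3] at h1
  · intro z hz hz1
    rcases hmax (N ⊓ Ce z) (fun y hy => ⟨hy.1, mem_centralizer_singleton_iff.2 (hz.2.1 y hy)⟩)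
      inf_le_left with h | h
    · exact h
    · exfalso
      apply hz1
      refine hZ' z hz.1.1 fun n hn => ?_
      have h1 : n ∈ N ⊓ Ce z := h.symm ▸ hn
      exact mem_centralizer_singleton_iff.1 h1.2

end Cfsg.Agent.H90.ZcA
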