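import Cfsg.Agent.H56.ZCCl
import Cfsg.Agent.H56.ZCN1

/-!
The step `N1gStmt`: the block lemma modulo the centre.
-/

set_option autoImplicit false

namespace Cfsg.Agent.H90.ZcN

open Subgroup Cfsg.Agent.H56.FS Cfsg.Agent.H56.ZC Cfsg.Agent.H91.FsInd
open scoped commutatorElement

universe u

theorem map_LL_le {G H : Type*} [Group G] [Group H] (f : G →* H) (D : Set (Subgroup G))
    {X : Subgroup G} {Y : Subgroup H} (h : (LL D X).map f ≤ Y) :
    (LL D X).map f ≤ LL (map f '' D) Y :=
  map_le_iff_le_comap.2 (LL_le_of fun B hB hBX => map_le_iff_le_comap.1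
    (le_LL ⟨B, hB, rfl⟩ ((map_mono (le_LL hB hBX)).trans h)))

theorem n1g : N1gStmt.{u} := by
  intro G _ _ p D h
  let f : G →* G ⧸ center G := QuotientGroup.mk' _
  have hf : Function.Surjective f := QuotientGroup.mk'_surjective _
  have hker : f.ker = center G := QuotientGroup.ker_mk' _
  have hks : Group.IsSolvable f.ker := by
    rw [hker]
    exact H4.isSolvable_of_isMulCommutative _
  have hn : ∀ A ∈ D, ¬ A ≤ f.ker := by
    intro A hA hle
    rw [hker] at hle
    have h1 : (⊤ : Subgroup G) ≤ center G := h.gen.ge.trans (sSup_le fun B hB =>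
      (h.ncp A hA B hB fun b _ a ha => (mem_center_iff.1 (hle ha) b).symm).le.trans hle)
    exact h.nsol (Group.isSolvable_of_comm fun a b => (mem_center_iff.1 (h1 (mem_top b)) a))
  have hnsol : ¬ Group.IsSolvable (G ⧸ center G) := fun hs =>
    h.nsol (Group.isSolvable_of_ker_le_range f.ker.subtype f (by rw [range_subtype]))
  have hM : Mn2 p 2 (map f '' D) :=
    { cl_quo2 f hf hks h.toCl2 hn with
      gen := by
        rw [eq_top_iff, ← map_top_of_surjective f hf, ← h.gen, map_le_iff_le_comap]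
        exact sSup_le fun B hB => map_le_iff_le_comap.1 (le_sSup ⟨B, hB, rfl⟩)
      sol := fun X hX => by
        rw [← LL_quo]
        refine solv_map f (h.sol _ fun e => hX (top_le_iff.1 ?_))
        rw [← map_top_of_surjective f hf, ← e, map_comap_eq_self_of_surjective hf]
        exact LL_le _
      nsn := fun N hN hs => by
        have h1 := h.cz (N.comap f) inferInstance (solv_comap f hks hs)
        rw [← map_comap_eq_self_of_surjective hf N, Subgroup.map_eq_bot_iff, hker]
        exact h1
      nsol := hnsol }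
  refine { h with n1 := ?_ }
  intro ζ hζ X hX A hA hAX hAζ hnorm
  have hXs : Group.IsSolvable ((LL D X).map f) := solv_map f (h.sol X hX)
  have hXt : (LL D X).map f ≠ ⊤ := fun e => by
    rw [e] at hXs
    exact hnsol (Group.isSolvable_of_surjective (f := (⊤ : Subgroup (G ⧸ center G)).subtype)
      fun x => ⟨⟨x, mem_top x⟩, rfl⟩)
  have hLL : LL (map f '' D) ((LL D X).map f) = (LL D X).map f :=
    le_antisymm (LL_le _) (map_LL_le f D le_rfl)
  have hCe : (Ce ζ).map f ≤ Ce (f ζ) := by
    rintro _ ⟨x, hx, rfl⟩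
    rw [mem_Ce, ← map_mul, mem_Ce.1 hx, map_mul]
  have hGd : Gd (map f '' D) (f ζ) := by
    refine ⟨fun e => hζ.1 (hker ▸ (MonoidHom.mem_ker.2 e)), ?_⟩
    have h1 := mem_map_of_mem f hζ.2
    rw [RR, map_commutator] at h1
    have h2 := map_LL_le f D ((map_mono (LL_le (D := D) (Ce ζ))).trans hCe)
    exact commutator_mono h2 h2 h1
  have key := hM.n1 hGd hXt (A := A.map f) ⟨A, hA, rfl⟩ (map_mono (le_LL hA hAX))
    ((map_mono hAζ).trans hCe) (by
      rw [hLL, ← cj_eq_iff, ← map_cj, cj_eq_iff.2 hnorm])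
  rw [hLL] at key
  refine LL_le_of fun B hB hBX => h.fz B hB ζ fun b hb => ?_
  have h1 := mem_Ce.1 (key (mem_map_of_mem f (le_LL hB hBX hb)))
  rw [← hker, MonoidHom.mem_ker, map_commutatorElement, commutatorElement_eq_one_iff_mul_comm]
  exact h1.symm

end Cfsg.Agent.H90.ZcN
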