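import Cfsg.Agent.H90.CksQ24a

/-!
The window with parameters `(2, 4)`: a chamber transitive subgroup covers `U / Q_{jk}`.
-/

set_option autoImplicit false

namespace Cfsg.Agent.H90.Q24

open Cfsg.Agent.H35 Cfsg.Agent.Lead.T3 Cfsg.Agent.H74.Cks Subgroup

variable {G : Type} [Group G] {p n : ℕ} {S : Sys G p n}
variable {i j k : Fin n} {F : Type} [Field F] (D : S.Quad i j k F) (hy : Hy S j k F)

theorem rX {y : G} (h : y ∈ S.X k) : (S.s j)⁻¹ * y * S.s j ∈ S.Y k j := by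
  have := TX (inv_mem (ssT (S := S) j)) h
  rw [mem_cn]
  simpa only [mul_inv_rev, inv_inv, mul_assoc] using this

include D hy

theorem YQ {g : G} (h : g ∈ S.Y k j) : g ∈ S.Q {k} := by
  rw [← D.rel.mem2] at h
  obtain ⟨y, rfl⟩ := h
  exact aQ D hy y

theorem r3' (t : F) : (S.s j)⁻¹ * D.x3 t * S.s j = D.x3 t := by
  rcases hy.h01 t with rfl | rfl
  · simp [x30]
  · exact r3 D hy

/-- the `j`-ladder -/
theorem lad {x b y : G} (t : F) (hb : b ∈ S.B) (h : y ∈ S.X k) :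
    (x * S.s j * b)⁻¹ * (x * (D.x3 t * y) * x⁻¹) * (x * S.s j * b) ∈ S.Q {k} := by
  have := H4.inv_conj_mem_of_mem_normalizer (PN _ (BP _ hb))
    (mul_mem (r3' D hy t ▸ x3Q D hy t) (YQ D hy (rX h)))
  convert this using 1
  group

variable {H K : Subgroup G} (hK : H ⊓ S.P {j, k} ≤ K) (hR : S.Q {j, k} ≤ K)
  (hl : ∀ i, ∀ y ∈ S.X i, ∃ b ∈ S.B, y * S.s i * b ∈ H)

omit D hy in
theorem hP {l : Fin n} {J : Finset (Fin n)} (h : l ∈ J) {y b : G} (hy : y ∈ S.X l) (hb : b ∈ S.B) :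
    y * S.s l * b ∈ S.P J :=
  mul_mem (mul_mem (BP _ (UB (XU l hy))) (s_mem.2 h)) (BP _ hb)

include hK hR hl

theorem case1 (h : ∀ a, e D a ∈ K) : S.U ≤ K := by
  have hQ : S.Q {k} ≤ K := fun c hc => by
    obtain ⟨s, y, t, m⟩ := memQ D hy hc
    refine m.mem hR ?_
    rcases vec D hy s y t with e | ⟨a, e⟩ | ⟨a, b, -, e⟩ <;> rw [e]
    · exact one_mem _
    · exact h a
    · exact mul_mem (h a) (h b)
  rw [← hy.sup k]
  refine sup_le (fun y hyk => ?_) hQ
  obtain ⟨b, hb, hH⟩ := hl j 1 (one_mem _)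
  have h1 := hK ⟨hH, hP (by simp) (one_mem _) hb⟩
  have h2 := mul_mem (mul_mem h1 (hQ (lad D hy (x := 1) 0 hb hyk))) (inv_mem h1)
  rw [x30] at h2
  convert h2 using 1
  group

theorem case2 (h : K ⊓ S.Q {k} ≤ S.Q {j, k}) : K ⊓ S.U ≤ S.Q {j, k} := by
  rintro v ⟨hv, hU⟩
  obtain ⟨s, y', t, y, ρ, hρ, rfl⟩ := D.nf v hU
  have h0 : ev D s y' t * y ∈ K := (mul_mem_cancel_right (hR hρ)).1 hv
  refine mul_mem ?_ hρ
  change ev D s y' t * y ∈ _
  by_cases h1 : y = 1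
  · rw [h1, coe_one, mul_one] at h0 ⊢
    exact h ⟨h0, evQ D hy _ _ _⟩
  exfalso
  have h2 := two0 hy.h01
  have q := Q_one D.d hy.h01 h1
  have yy : (y : G) * y = 1 := by rw [← coe_mul, Ysq D.d hy.h01, coe_one]
  have sq : ev D s y' t * y * (ev D s y' t * y) =
      ev D s y' t * ((y * D.x1 s * (y : G)⁻¹) * (D.a y' * D.x3 (D.d.Bf y y')) * D.x3 t) := by
    rw [← D.rel.r24]
    calc _ = ev D s y' t * (y * (D.x1 s * D.a y') * D.x3 t * y) := by rw [ev]; group
      _ = ev D s y' t * (y * (D.x1 s * D.a y') * (y * D.x3 t)) := by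
        rw [← D.rel.c34]; group
      _ = _ := by
        rw [inv_eq_of_mul_eq_one_right yy]
        calc _ = ev D s y' t * (y * D.x1 s * (y * y) * D.a y' * y * D.x3 t) := by rw [yy]; group
          _ = _ := by group
  have hsq := mul_mem h0 h0
  rw [sq] at hsq
  have ea : D.a y' * D.x3 (D.d.Bf y y') = ev D 0 y' (D.d.Bf y y') := by rw [ev, x10, one_mul]
  rcases hy.h01 s with rfl | rfl
  · rw [x10, mul_one, mul_inv_cancel, one_mul, ea, ← ev3, ev_mul D hy, ev_mul D hy] at hsq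
    have hB := (ev_uniq D (h ⟨hsq, evQ D hy _ _ _⟩)).2.2
    obtain ⟨x, hx, t', e⟩ : ∃ x ∈ S.X j, ∃ t', ev D 0 y' t * y = x * (D.x3 t' * y) * x⁻¹ := by
      by_cases h3 : y' = 1
      · exact ⟨1, one_mem _, t, by rw [h3, ev3]; group⟩
      · have h4 : y = y' := by
          by_contra h4
          rw [B_ne D.d hy.h01 h4, q, Q_one D.d hy.h01 h3] at hB
          exact one_ne_zero (α := F) (by linear_combination hB - (1 + t) * h2)
        subst h4
        refine ⟨D.x1 1, x1X D 1, t + 1, ?_⟩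
        have e := D.rel.r14 1 y
        rw [D.d.sm_one, one_mul, q] at e
        calc _ = ev D 0 1 (t + 1) * ev D 0 y 1 * y := by
              rw [ev_mul D hy, add_assoc, h2, add_zero, add_zero, one_mul]
          _ = D.x3 (t + 1) * (D.x1 1 * y * (D.x1 1)⁻¹) := by
              rw [e, ev3, ev, x10]; group
          _ = _ := by rw [← mul_assoc, ← mul_assoc, ← c13 D hy]; group
    obtain ⟨b, hb, hH⟩ := hl j x hx
    have m := hP (J := {j, k}) (by simp) hx hb
    have h5 := hK ⟨hH, m⟩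
    have h6 := h (mem_inf.2 ⟨by
      rw [← e]
      exact mul_mem (mul_mem (inv_mem h5) h0) h5, lad D hy (x := x) t' hb y.2⟩)
    rw [← e] at h6
    exact h1 (D.uniq 0 y' t y ((mem_normalizer_iff''.1 (PN _ m) _).2 h6)).2.2.2
  · rw [conj_x1 D hy, ea, ← ev3, ev_mul D hy, ev_mul D hy, ev_mul D hy] at hsq
    have := (ev_uniq D (h ⟨hsq, evQ D hy _ _ _⟩)).2.1
    rw [Ycomm D.d hy.h01 y, ← mul_assoc, ← mul_assoc, Ysq D.d hy.h01, one_mul, mul_one] at this
    exact h1 this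

omit hK hR hl

/-- the element which carries the base point to an opposite point -/
def nn (S : Sys G p n) (j k : Fin n) : G := S.s j * S.s k * S.s j

omit D hy in
theorem nnN : nn S j k ∈ S.bn.N := mul_mem (mul_mem (sN j) (sN k)) (sN j)

omit D hy in
theorem nnP : nn S j k ∈ S.P {j, k} :=
  mul_mem (mul_mem (s_mem.2 (by simp)) (s_mem.2 (by simp))) (s_mem.2 (by simp))

omit D hy in
theorem nn2 : nn S j k * nn S j k ∈ S.B := by
  rw [← BN.mkW_eq_one_iff (mul_mem nnN nnN)]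
  change S.w j * S.w k * S.w j * (S.w j * S.w k * S.w j) = 1
  have a := (BN.gens S.bn).s_mul_s (S.e j)
  have b := (BN.gens S.bn).s_mul_s (S.e k)
  calc _ = S.w j * (S.w k * (S.w j * S.w j) * S.w k) * S.w j := by group
    _ = 1 := by rw [a, mul_one, b, mul_one, a]

/-- the stabiliser of the opposite point -/
abbrev St (S : Sys G p n) (j k : Fin n) : Subgroup G := cn (nn S j k) (S.P {k})

omit D hy in
theorem s_St (hm : S.m j k = 4) : S.s k ∈ St S j k := by
  have m : (nn S j k)⁻¹ * S.s k * nn S j k ∈ S.bn.N := mul_mem (mul_mem (inv_mem nnN) (sN k)) nnN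
  have h : (S.s k)⁻¹ * ((nn S j k)⁻¹ * S.s k * nn S j k) ∈ S.B := by
    rw [← BN.mkW_eq_iff (sN k) m]
    change S.w k = (S.w j * S.w k * S.w j)⁻¹ * S.w k * (S.w j * S.w k * S.w j)
    have a := inv_eq_of_mul_eq_one_right ((BN.gens S.bn).s_mul_s (S.e j))
    have b := inv_eq_of_mul_eq_one_right ((BN.gens S.bn).s_mul_s (S.e k))
    have c : (S.w j * S.w k) ^ 4 = 1 := by rw [← hm]; exact pow_orderOf_eq_one _
    calc S.w k = (S.w j * S.w k) ^ 4 * (S.w k)⁻¹ := by rw [c, one_mul, b]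
      _ = _ := by
        rw [mul_inv_rev, mul_inv_rev, a]
        conv_rhs => rw [b]
        simp only [pow_succ, pow_zero]
        group
  exact mem_cn.2 ((mul_mem_cancel_left (inv_mem (s_mem.2 (by simp)))).1 (BP _ h))

omit hy in
theorem X_St : S.X k ≤ St S j k := fun y h => by
  have h1 : (S.s k)⁻¹ * ((S.s j)⁻¹ * y * S.s j) * S.s k ∈ S.Y k j := mem_cn.1 (D.wk.symm ▸ rX h)
  have h2 := BP {k} (UB (XU k (mem_cn.1 h1)))
  rw [mem_cn]
  convert h2 using 1
  rw [nn]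
  group

omit D hy in
theorem T_St : S.T ≤ St S j k := fun t h => by
  have := BP {k} (NT (inv_mem (nnN (S := S) (j := j) (k := k))) h).1
  rw [mem_cn]
  simpa using this

omit D in
theorem R_St : S.Q {j, k} ≤ St S j k := fun _ h =>
  mem_cn.2 (QP hy _ _ (H4.inv_conj_mem_of_mem_normalizer (PN _ nnP) h))

theorem x3_St : D.x3 1 ∉ St S j k := fun h => by
  have e : (nn S j k)⁻¹ * D.x3 1 * nn S j k = (S.s j)⁻¹ * D.x1 1 * S.s j := by
    calc _ = (S.s j)⁻¹ * ((S.s k)⁻¹ * ((S.s j)⁻¹ * D.x3 1 * S.s j) * S.s k) * S.s j := by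
          rw [nn]; group
      _ = _ := by rw [r3 D hy, ← s1 D hy]; group
  rw [mem_cn, e] at h
  have sj : S.s j ∈ S.P {j} := s_mem.2 (by simp)
  have h' : (S.s j)⁻¹ * D.x1 1 * S.s j ∈ S.P {j} :=
    mul_mem (mul_mem (inv_mem sj) (BP _ (UB (XU j (x1X D 1))))) sj
  rcases (hy.par j _).1 h' with h1 | ⟨y, h1, b, hb, e1⟩
  · exact x1ne D (hy.neg j _ (x1X D 1) h1)
  · rw [e1] at h
    have := (mul_mem_cancel_left (BP {k} (UB (XU j h1)))).1 ((mul_mem_cancel_right (BP _ hb)).1 h)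
    exact hy.jk (by simpa using s_mem.1 this)

theorem reg (hm : S.m j k = 4) : S.Q {k} ⊓ St S j k ≤ S.Q {j, k} := by
  refine (irr D hy (le_inf (RQk hy) (R_St hy)) inf_le_left fun y => ⟨1, one_mem _, ?_⟩).resolve_right
    fun h => x3_St D hy (h none).2
  refine inf_normalizer_le_normalizer_inf ⟨PN _ (hP (by simp) y.2 (one_mem _)), le_normalizer ?_⟩
  rw [mul_one]
  exact mul_mem (X_St D y.2) (s_St hm)

theorem dec (hm : S.m j k = 4) {g : G} (hg : g ∈ S.P {k}) :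
    ∃ c ∈ S.Q {k}, ∃ a ∈ St S j k, c * a = g := by
  have hX : S.X k ≤ S.Q {k} ⊔ (S.P {k} ⊓ St S j k) := fun y h =>
    mem_sup_right ⟨BP _ (UB (XU k h)), X_St D h⟩
  have hB : S.B ≤ S.Q {k} ⊔ (S.P {k} ⊓ St S j k) := fun b hb => by
    obtain ⟨u, hu, t, ht, rfl⟩ := hy.dec b hb
    refine mul_mem ?_ (mem_sup_right ⟨BP _ ht.1, T_St ht⟩)
    rw [← hy.sup k] at hu
    exact (sup_le hX le_sup_left : _ ≤ S.Q {k} ⊔ (S.P {k} ⊓ St S j k)) hu
  have h : g ∈ S.Q {k} ⊔ (S.P {k} ⊓ St S j k) := by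
    rcases (hy.par k g).1 hg with h | ⟨y, h, b, hb, rfl⟩
    · exact hB h
    · exact mul_mem (mul_mem (hX h) (mem_sup_right ⟨s_mem.2 (by simp), s_St hm⟩)) (hB hb)
  obtain ⟨c, hc, a, ha, e⟩ := (H4.mem_sup_iff_of_le_normalizer (inf_le_left.trans (PN _))).1 h
  exact ⟨c, hc, a, ha.2, e⟩

include hl in
/-- at most one opposite point is fixed -/
theorem uniq [Finite G] (hm : S.m j k = 4) {c c' : G} (hc : c ∈ S.Q {k}) (hc' : c' ∈ S.Q {k})
    (h : ∀ g ∈ H ⊓ S.P {k}, c⁻¹ * g * c ∈ St S j k) (h' : ∀ g ∈ H ⊓ S.P {k}, c'⁻¹ * g * c' ∈ St S j k) :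
    c⁻¹ * c' ∈ S.Q {j, k} := by
  let C : Subgroup G :=
    { carrier := {x | x ∈ S.Q {k} ∧ ∀ g ∈ H ⊓ S.P {k}, Md (S.Q {j, k}) x (g * x * g⁻¹)}
      one_mem' := ⟨one_mem _, fun g _ => by simpa using Md.refl _⟩
      mul_mem' := fun {a b} ha hb => ⟨mul_mem ha.1 hb.1, fun g hg => by
        rw [← conj_mul]
        exact (ha.2 g hg).mul (hb.2 g hg) (QN hy hb.1)⟩
      inv_mem' := fun {a} ha => ⟨inv_mem ha.1, fun g hg => by
        have h2 := H4.conj_mem_of_mem_normalizer (QN hy ha.1) (inv_mem (ha.2 g hg))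
        unfold Md
        convert h2 using 1
        group⟩ }
  have hRC : S.Q {j, k} ≤ C := fun x hx => ⟨RQk hy hx, fun g hg =>
    mul_mem (inv_mem hx) (H4.conj_mem_of_mem_normalizer (PN _ (Pk_le hg.2)) hx)⟩
  have hC : C ≤ S.Q {j, k} := by
    refine (irr D hy hRC (fun x hx => hx.1) fun y => ?_).resolve_right fun h => ?_
    · obtain ⟨b, hb, hH⟩ := hl k y y.2
      exact ⟨b, hb, mem_normalizer_fintype fun x hx =>
        (hx.2 _ ⟨hH, hP (by simp) y.2 hb⟩).mem hRC hx⟩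
    · obtain ⟨b, hb, hH⟩ := hl k 1 (one_mem _)
      have m := ((h none).2 _ ⟨hH, hP (by simp) (one_mem _) hb⟩).trans (hconj D hy 1 hb).symm
      unfold Md at m
      rw [inv_eq_of_mul_eq_one_right (e_sq D hy none)] at m
      simpa using e_inj D hy m
  have m : c * c'⁻¹ ∈ S.Q {k} := mul_mem hc (inv_mem hc')
  have h1 : c * c'⁻¹ ∈ C := ⟨m, fun g hg => by
    have h2 : c'⁻¹ * (g * (c' * c⁻¹) * g⁻¹) * c ∈ S.Q {k} ⊓ St S j k :=
      mem_inf.2 ⟨mul_mem (mul_mem (inv_mem hc')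
      (H4.conj_mem_of_mem_normalizer (PN _ hg.2) (mul_mem hc' (inv_mem hc)))) hc, by
        have := mul_mem (h' g hg) (inv_mem (h g hg))
        convert this using 1
        group⟩
    have h3 := H4.conj_mem_of_mem_normalizer (QN hy m)
      (inv_mem (H4.conj_mem_of_mem_normalizer (QN hy hc') (reg D hy hm h2)))
    have h4 := H4.inv_conj_mem_of_mem_normalizer (QN hy m) h3
    unfold Md
    convert h4 using 1
    group⟩
  have := inv_mem (H4.inv_conj_mem_of_mem_normalizer (QN hy hc') (hC h1))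
  convert this using 1
  group

omit D hy

/-- the `p`-elements of `H ⊓ P` lie in `R` -/
theorem two [Finite G] [Fact p.Prime] (U : Sylow p G) (hU : (U : Subgroup G) = S.U)
    (hB : S.B ≤ normalizer (S.U : Set G)) {J : Finset (Fin n)}
    (h3 : ∀ g ∈ S.P J, ∃ h ∈ H ⊓ S.P J, ∃ b ∈ S.B, g = h * b) (hV : H ⊓ S.U ≤ S.Q J) {x : G}
    (hx : x ∈ H ⊓ S.P J) {a : ℕ} (ha : x ^ p ^ a = 1) : x ∈ S.Q J := by
  have hUP : (U : Subgroup G) ≤ S.P J := hU ▸ UB.trans (BP J)
  have hp : IsPGroup p (zpowers (⟨x, hx.2⟩ : S.P J)) := by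
    obtain ⟨c, -, hc⟩ := (Nat.dvd_prime_pow (Fact.out : p.Prime)).1
      (orderOf_dvd_of_pow_eq_one (x := (⟨x, hx.2⟩ : S.P J)) (Subtype.ext ha))
    exact IsPGroup.of_card (by rw [Nat.card_zpowers, hc])
  obtain ⟨T, hT⟩ := hp.exists_le_sylow
  obtain ⟨c, hc⟩ := MulAction.exists_smul_eq (S.P J) T (U.subtype hUP)
  have h1 : c * ⟨x, hx.2⟩ * c⁻¹ ∈ (U.subtype hUP : Subgroup (S.P J)) := by
    rw [← hc, Sylow.coe_subgroup_smul]
    exact smul_mem_pointwise_smul _ (MulAut.conj c) _ (hT (mem_zpowers _))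
  have h2 : (c : G) * x * (c : G)⁻¹ ∈ S.U := hU ▸ h1
  obtain ⟨h, hh, b, hb, e⟩ := h3 (c : G)⁻¹ (inv_mem c.2)
  have h4 : h⁻¹ * x * h ∈ S.U := by
    have := H4.conj_mem_of_mem_normalizer (hB hb) h2
    rw [← inv_inv (c : G), e] at this
    convert this using 1
    group
  exact (mem_normalizer_iff''.1 (PN J hh.2) x).2
    (hV (mem_inf.2 ⟨mul_mem (mul_mem (inv_mem (mem_inf.1 hh).1) (mem_inf.1 hx).1) (mem_inf.1 hh).1,
      h4⟩))

include D hy hl in
theorem case3 [Finite G] [Fact p.Prime] (hp : p = 2) (hm : S.m j k = 4) (hF : S.Ft H)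
    (h2 : ∀ x ∈ H ⊓ S.P {j, k}, ∀ a, x ^ p ^ a = 1 → x ∈ S.Q {j, k}) : False := by
  -- a complement of odd order
  let L : Subgroup G := H ⊓ S.P {k}
  have hLP : L ≤ H ⊓ S.P {j, k} := inf_le_inf_left _ Pk_le
  let N : Subgroup L := (S.Q {j, k}).subgroupOf L
  have : N.Normal := ⟨fun x hx g =>
    H4.conj_mem_of_mem_normalizer (K := S.Q {j, k}) (k := x) (PN _ (hLP g.2).2) hx⟩
  have hidx : ¬ p ∣ N.index := by
    obtain ⟨T⟩ : Nonempty (Sylow p L) := inferInstance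
    refine fun h => T.not_dvd_index (h.trans (index_dvd_of_le fun x hx => ?_))
    obtain ⟨a, ha⟩ := T.2 ⟨x, hx⟩
    exact h2 x (hLP x.2) a (congrArg (fun z : T => ((z : L) : G)) ha)
  have cop : ∀ X : Subgroup G, IsPGroup p X → (Nat.card X).Coprime N.index := fun X hX => by
    obtain ⟨c, hc⟩ := IsPGroup.iff_card.1 hX
    rw [hc]
    exact Nat.Coprime.pow_left _ ((Nat.Prime.coprime_iff_not_dvd Fact.out).2 hidx)
  obtain ⟨A, hA⟩ := exists_right_complement'_of_coprime (N := N) (by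
    have hN : IsPGroup p N := IsPGroup.comap_subtype (K := L) (S.sp.U_pgroup _)
    obtain ⟨c, hc⟩ := IsPGroup.iff_card.1 hN
    rw [hc]
    exact Nat.Coprime.pow_left _ ((Nat.Prime.coprime_iff_not_dvd Fact.out).2 hidx))
  have hQ : IsPGroup p (S.Q {k}) := S.sp.U_pgroup _
  have hAL : A.map L.subtype ≤ L := map_subtype_le A
  have key : ∀ g : G, g • ((nn S j k : G) : G ⧸ S.P {k}) = ((nn S j k : G) : G ⧸ S.P {k}) ↔ g ∈ St S j k := by
    intro g
    rw [mem_cn, eq_comm, MulAction.Quotient.smul_coe, QuotientGroup.eq, smul_eq_mul, mul_assoc]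
  obtain ⟨c, hc, hfix⟩ := H4.exists_fixed_in_orbit (X := G ⧸ S.P {k}) (A := A.map L.subtype)
    (K := S.Q {k}) (fun a ha => PN _ (hAL ha).2)
    (by rw [card_map_of_injective L.subtype_injective, ← hA.symm.index_eq_card]
        exact (cop _ hQ).symm)
    (.inr (by have := hQ.isNilpotent; infer_instance)) (x := ((nn S j k : G) : G ⧸ S.P {k}))
    (fun a ha => by
      obtain ⟨c, hc, b, hb, e⟩ := dec D hy hm (hAL ha).2
      exact ⟨c, hc, by rw [← e, mul_smul, (key b).2 hb]⟩)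
  have hfx : ∀ g ∈ H ⊓ S.P {k}, c⁻¹ * g * c ∈ St S j k := fun g hg => by
    obtain ⟨⟨ρ, a⟩, e⟩ := hA.2 (⟨g, hg⟩ : L)
    have e' : ((ρ : L) : G) * ((a : L) : G) = g := congrArg Subtype.val e
    have m1 : c⁻¹ * ((ρ : L) : G) * c ∈ St S j k :=
      R_St hy (H4.inv_conj_mem_of_mem_normalizer (QN hy hc) ρ.2)
    have m2 : c⁻¹ * ((a : L) : G) * c ∈ St S j k := by
      rw [← key, mul_smul, mul_smul, hfix ((a : L) : G) ⟨a, a.2, rfl⟩, inv_smul_smul]
    have := mul_mem m1 m2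
    rw [← e']
    convert this using 1
    group
  obtain ⟨g, hg, b, hb, e⟩ := hF (c * nn S j k)
  have eg : g = c * nn S j k * b⁻¹ := by rw [e]; group
  have gP : g ∈ S.P {j, k} := eg ▸ mul_mem (mul_mem (QP hy _ _ hc) nnP) (inv_mem (BP _ hb))
  have gN : g⁻¹ ∈ normalizer (L : Set G) := mem_normalizer_fintype fun x hx =>
    mem_inf.2 ⟨mul_mem (mul_mem (inv_mem hg) (mem_inf.1 hx).1) (inv_mem (inv_mem hg)), by
      have := mul_mem (mul_mem (BP {k} hb) (mem_cn.1 (hfx x hx))) (inv_mem (BP {k} hb))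
      rw [eg]
      convert this using 1
      group⟩
  obtain ⟨c', hc', a, ha, e2⟩ := dec D hy hm (BP {k} hb)
  have m1 : (c' * nn S j k)⁻¹ * g⁻¹ ∈ S.P {k} := by
    have := mul_mem (mul_mem (mem_cn.1 ha) (inv_mem (BP {k} (nn2 (S := S) (j := j) (k := k)))))
      (inv_mem (QP hy _ {k} hc))
    rw [eg, ← e2]
    convert this using 1
    group
  have m2 := uniq D hy hl hm hc hc' hfx fun x hx => by
    have h3 : g * x * g⁻¹ ∈ L := by simpa using H4.inv_conj_mem_of_mem_normalizer gN hx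
    have := mul_mem (mul_mem m1 h3.2) (inv_mem m1)
    rw [mem_cn]
    convert this using 1
    group
  have m3 : g ^ 2 ∈ S.P {k} := by
    have := inv_mem (mul_mem (mul_mem (BP {k} hb) (mem_cn.1 (R_St hy m2))) m1)
    convert this using 1
    have e3 : c = g * b * (nn S j k)⁻¹ := by rw [← e]; group
    rw [e3]
    group
  have m4 : g ∉ S.P {k} := fun h => by
    have h3 : nn S j k ∈ S.P {k} :=
      (mul_mem_cancel_left (QP hy _ {k} hc)).1 (e ▸ mul_mem h (BP _ hb))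
    exact x3_St D hy (mem_cn.2 (mul_mem (mul_mem (inv_mem h3) (QP hy _ _ (x3Q D hy 1))) h3))
  obtain ⟨a', o, ho, eo⟩ := Nat.exists_eq_two_pow_mul_odd (orderOf_pos g).ne'
  have m5 := QP hy _ {k} (h2 (g ^ o) (pow_mem (mem_inf.2 ⟨hg, gP⟩) o) a' (by
    rw [← pow_mul, hp, mul_comm, ← eo, pow_orderOf_eq_one]))
  obtain ⟨r, rfl⟩ := ho
  rw [pow_succ, pow_mul] at m5
  exact m4 ((mul_mem_cancel_left (pow_mem m3 r)).1 m5)

theorem q24 (hb : Bas1Stmt) (hlad : LadStmt) : Q24Stmt := by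
  intro G _ _ _ p n _ S i j k _ hm _ F _ _ D hF hq H hH
  obtain ⟨b1, ⟨U, hU⟩, -, -, -, b6, -, -, b9, b10, b11, b12, b13, b14, -, -, -, b18, -⟩ := hb S
  obtain ⟨l1, l2, l3, -⟩ := hlad S H hH
  have hp : p = 2 := by
    obtain ⟨c, hc, e⟩ := (b11 k).2.2.2
    have : p ∣ 2 ^ 2 := by
      rw [show 2 ^ 2 = S.q k from hq.symm, e]
      exact dvd_pow_self p hc.ne'
    exact (Nat.prime_dvd_prime_iff_eq Fact.out Nat.prime_two).1
      ((Fact.out : p.Prime).dvd_of_dvd_pow this)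
  have hy : Hy S j k F :=
    { h01 := fun t => by
        obtain ⟨y, -, hy⟩ := (Nat.card_eq_two_iff' (0 : F)).1 hF
        by_cases h : t = 0
        · exact .inl h
        · exact .inr ((hy t h).trans (hy 1 one_ne_zero).symm)
      three := fun a b => by
        by_contra hc
        push Not at hc
        have : Nat.card (S.X k) ≤ Nat.card Bool :=
          Nat.card_le_card_of_surjective (fun x : Bool => if x then a else b) fun c => by
            by_cases h : c = a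
            · exact ⟨true, h.symm⟩
            · exact ⟨false, (hc c h).symm⟩
        rw [Nat.card_eq_fintype_card (α := Bool), Fintype.card_bool] at this
        change S.q k ≤ 2 at this
        omega
      jk := by
        rintro rfl
        rw [b18] at hm
        omega
      dec := b6, anti := b9, QU := b10, sup := fun i => (b11 i).1, inf := fun i => (b11 i).2.1
      XQ := b12, par := b13, neg := b14 }
  have hK : H ⊓ S.P {j, k} ≤ S.HJ H {j, k} := le_sup_left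
  have hR : S.Q {j, k} ≤ S.HJ H {j, k} := le_sup_right
  rcases irr D hy (W := S.HJ H {j, k} ⊓ S.Q {k}) (le_inf hR (RQk hy)) inf_le_right (fun y => by
    obtain ⟨b, hb, h⟩ := l1 k y y.2
    exact ⟨b, hb, inf_normalizer_le_normalizer_inf
      ⟨le_normalizer (hK ⟨h, hP (by simp) y.2 hb⟩), PN _ (hP (by simp) y.2 hb)⟩⟩) with h | h
  · have h1 := case2 D hy hK hR l1 h
    refine (case3 D hy l1 hp hm hH.1 fun x hx a ha => two U hU b1.ge (l3 _) ?_ hx ha).elim
    exact fun v hv => h1 ⟨hK ⟨hv.1, BP _ (UB hv.2)⟩, hv.2⟩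
  · have h1 := case1 D hy hK hR l1 fun a => (h a).1
    rw [Sys.Full, ← (l2 _).1]
    exact inf_eq_right.2 h1

end Cfsg.Agent.H90.Q24
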