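import Cfsg.Agent.H78.G40B

/-! Project L40G: the elements of `L₄(3)` inverted by the diagonal automorphism. -/

set_option autoImplicit false

namespace Cfsg.Agent.H90.G40Cls1

open Matrix Cfsg.Agent.H78.G40

abbrev M4 := Matrix (Fin 4) (Fin 4) (ZMod 3)

/-- a diagonal matrix of signs -/
def dm (S : Fin 4 → Bool) : M4 := diagonal fun i => if S i then -1 else 1

/-- an involution is diagonalised by an element of `SL₄(3)` -/
theorem diag {s : M4} (hs : s * s = 1) : ∃ (g : SL4) (S : Fin 4 → Bool), s * g.1 = g.1 * dm S := by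
  have h2 : (2 : ZMod 3) ≠ 0 := by decide
  classical
  have key : ⊤ ≤ Submodule.span (ZMod 3) {v : Fin 4 → ZMod 3 | s *ᵥ v = v ∨ s *ᵥ v = -v} := by
    intro v _
    have e : v = (2 : ZMod 3)⁻¹ • ((v + s *ᵥ v) + (v - s *ᵥ v)) := by
      rw [add_add_sub_cancel, ← two_smul (ZMod 3), smul_smul, inv_mul_cancel₀ h2, one_smul]
    have k2 : s *ᵥ s *ᵥ v = v := by rw [mulVec_mulVec, hs, one_mulVec]
    rw [e]
    refine Submodule.smul_mem _ _ (add_mem (Submodule.subset_span ?_) (Submodule.subset_span ?_))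
    · exact .inl (by rw [mulVec_add, k2, add_comm])
    · exact .inr (by rw [mulVec_sub, k2, neg_sub])
  let b0 := Module.Basis.ofSpan key
  let b := b0.reindex (b0.indexEquiv (Pi.basisFun (ZMod 3) (Fin 4)))
  have hb : ∀ j, s *ᵥ b j = b j ∨ s *ᵥ b j = -b j := fun j =>
    Module.Basis.ofSpan_subset key ⟨_, (b0.reindex_apply _ j).symm⟩
  let A : M4 := Matrix.of fun r j => b j r
  have hA : A.det ≠ 0 := ((isUnit_iff_isUnit_det A).1
    (linearIndependent_cols_iff_isUnit.1 b.linearIndependent)).ne_zero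
  refine ⟨⟨A * diagonal (Function.update 1 0 A.det⁻¹), by
    rw [det_mul, det_diagonal, Finset.prod_update_of_mem (Finset.mem_univ _)]
    simp [hA]⟩, fun j => decide (s *ᵥ b j = -b j), ?_⟩
  have : s * A = A * dm fun j => decide (s *ᵥ b j = -b j) := by
    ext r j
    rw [dm, mul_diagonal]
    change (s *ᵥ b j) r = b j r * _
    by_cases e : s *ᵥ b j = -b j
    · rw [if_pos (by simpa using e), e]; simp
    · rw [if_neg (by simpa using e), (hb j).resolve_right e, mul_one]
  change s * (A * _) = A * _ * _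
  rw [← Matrix.mul_assoc, this, Matrix.mul_assoc, Matrix.mul_assoc, dm, diagonal_mul_diagonal,
    diagonal_mul_diagonal]
  simp only [mul_comm]

/-- signed permutation matrices moving the last coordinate -/
def pm : Fin 4 → M4 := ![!![0, 0, 0, 2; 0, 1, 0, 0; 0, 0, 1, 0; 1, 0, 0, 0],
  !![1, 0, 0, 0; 0, 0, 0, 2; 0, 0, 1, 0; 0, 1, 0, 0],
  !![1, 0, 0, 0; 0, 1, 0, 0; 0, 0, 0, 2; 0, 0, 1, 0], 1]

theorem pm_det : ∀ i, (pm i).det = 1 := by decide +kernel

theorem dm_cases : ∀ S : Fin 4 → Bool, (∏ i, if S i then (-1 : ZMod 3) else 1) = -1 →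
    ∃ i, dm S * pm i = pm i * d4 ∨ dm S * pm i = -(pm i * d4) := by decide +kernel

theorem det_d4 : d4.det = -1 := by decide +kernel

theorem cls1 : Cls1S := by
  intro x hx
  obtain ⟨g, rfl⟩ := QuotientGroup.mk'_surjective _ x
  have h1 : mk1 (g * T1 g) = mk1 1 := by rw [map_mul, map_one]; exact hx
  have hd : (g.1 * d4).det = -1 := by rw [det_mul, g.2, one_mul, det_d4]
  have e0 : (g * T1 g).1 = g.1 * d4 * (g.1 * d4) := by
    change g.1 * (d4 * g.1 * d4) = _
    simp only [Matrix.mul_assoc]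
  rcases (mk1_eq _ _).1 h1 with h | h
  · rw [e0] at h
    obtain ⟨y, S, hy⟩ := diag (s := g.1 * d4) h
    have hS : (dm S).det = -1 := by
      have := congrArg det hy
      rw [det_mul, det_mul y.1, y.2, mul_one, one_mul, hd] at this
      exact this.symm
    rw [dm, det_diagonal] at hS
    obtain ⟨i, hi⟩ := dm_cases S hS
    let p : SL4 := ⟨pm i, pm_det i⟩
    refine ⟨mk1 (y * p), ?_⟩
    rw [eq_mul_inv_iff_mul_eq]
    change mk1 g * mk1 (T1 (y * p)) = mk1 (y * p)
    rw [← map_mul, mk1_eq]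
    have e : (g * T1 (y * p)).1 = y.1 * (dm S * pm i) * d4 := by
      change g.1 * (d4 * (y.1 * pm i) * d4) = _
      rw [← Matrix.mul_assoc y.1, ← hy]
      simp only [Matrix.mul_assoc]
    have e' : (y * p).1 = y.1 * pm i := rfl
    rw [e, e']
    refine hi.imp (fun k => ?_) fun k => ?_
    · rw [k, Matrix.mul_assoc, Matrix.mul_assoc, d4_sq, Matrix.mul_one]
    · rw [k, Matrix.mul_neg, Matrix.neg_mul, Matrix.mul_assoc, Matrix.mul_assoc, d4_sq,
        Matrix.mul_one]
  · exfalso
    rw [e0] at h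
    obtain ⟨a, ha⟩ : ∃ a, a = g.1 * d4 := ⟨_, rfl⟩
    rw [← ha] at h hd
    have h' : a * a = -1 := h
    have e : (1 + a) * (1 + a) = (2 : ZMod 3) • a := by
      rw [mul_add, add_mul, add_mul, h', two_smul]; simp; abel
    have := congrArg det e
    rw [det_mul, det_smul, hd] at this
    revert this
    generalize (1 + a).det = t
    revert t
    decide

end Cfsg.Agent.H90.G40Cls1
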