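import Cfsg.Agent.H60.AlHD
import Cfsg.Agent.H42.ACDefs

/-! Project AC: the data around `V` and `W` (the centre of `A` has odd order). -/

set_option autoImplicit false
set_option linter.unusedSectionVars false

namespace Cfsg.Agent.H90.AcT

open Cfsg Subgroup Cfsg.Agent.H28 Cfsg.Agent.H30 QuadraticMap Cfsg.Agent.H42.AL
open Cfsg.Agent.H42.AS (om)
open Cfsg.Agent.H72.ASB (f4_cases f4_add om_sq om_ne one_of_add sq_of_add mem_closure_range
  conj_closure comm_closure conj_of_eq)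
open Cfsg.Agent.H60.AsT (eq_one_of_odd)
open Cfsg.Agent.H60.AlT (vv2 ap ap_sm bq_zero sm_one q_vals refl_P refl_refl_mem refl_mul_mem par4
  xe_A xb_A ne_A nb_A rho_A xe_U xb_U xv_U xv_V K_comm U_ind St_mul St_swap St_div r_R r_K r_sq
  U_W r_W f_W W_ind π_v π_inv π_conj V_of_π notW Φ_one)
open scoped commutatorElement

universe u

variable {G : Type u} [Group G] {D D' D'' : RD G}

theorem he_A : D.he ∈ D.A :=
  mul_mem (mul_mem (mul_mem (mul_mem (mul_mem (xe_A _) ne_A) (xe_A _)) ne_A) (xe_A _)) ne_A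

theorem sig_A : D.swap.rho ∈ D.A := mul_mem he_A he_A

theorem rho_pow {ρ : G} {x : F4 → G} {a : F4} (k : ∀ t, ρ * x t = x (a * t) * ρ) (i : ℕ) (t : F4) :
    ρ ^ i * x t = x (a ^ i * t) * ρ ^ i := by
  induction i with
  | zero => simp
  | succ i ih => rw [pow_succ', mul_assoc, ih, ← mul_assoc, k, pow_succ' a, mul_assoc, mul_assoc]

theorem n_sq {ρ n : G} (r3 : ρ ^ 3 = 1) (n2 : n * n = 1) (nr : n * ρ * n = ρ ^ 2) (i : ℕ) :
    n * ρ ^ i * (n * ρ ^ i) = 1 := by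
  have ni : n⁻¹ = n := inv_eq_of_mul_eq_one_right n2
  have : n * ρ ^ i * n = (ρ ^ 2) ^ i := by
    rw [← nr]
    nth_rewrite 2 4 [← ni]
    rw [conj_pow]
  rw [← mul_assoc, this, ← pow_mul, ← pow_add, show 2 * i + i = 3 * i by ring, pow_mul, r3,
    one_pow]

/-- changing `ρ` by an element which commutes with all `x t` -/
theorem rho_mul {ρ z : G} {x : F4 → G} {a : F4} (k : ∀ t, ρ * x t = x (a * t) * ρ)
    (hz : ∀ t, x t * z = z * x t) (t : F4) : ρ * z⁻¹ * x t = x (a * t) * (ρ * z⁻¹) := by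
  rw [mul_assoc, ← (Commute.inv_right (hz t)).eq, ← mul_assoc, k, mul_assoc]

theorem sig_eq : D.swap.rho = D.rho * (D.swap.rho⁻¹ * D.rho)⁻¹ := by group

section

variable (h : D.Rel')
include h

theorem xv_A (t : F4) : D.xv t ∈ D.A :=
  conj_of_eq (h.nbe t) ▸ mul_mem (mul_mem nb_A (xe_A t)) (inv_mem nb_A)

theorem U_A : D.U ≤ D.A := U_ind xe_A xb_A (xv_A h)

theorem v_eq_one {t : F4} (e : D.xv t = 1) : t = 0 :=
  (h.nf 0 0 t (by rw [one_of_add h.bb, one_of_add h.ee, e]; simp)).2.2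

theorem memCV {g : G} (k : ∀ s, g * D.xv s = D.xv s * g) : g ∈ centralizer (D.V : Set G) :=
  fun _ hv => comm_closure (by rintro _ ⟨s, rfl⟩; exact (k s).symm) _ hv

theorem U_CV : D.U ≤ centralizer (D.V : Set G) :=
  U_ind (fun t => memCV h (h.ev t)) (fun t => memCV h (h.bv t))
    fun t => memCV h fun s => by rw [← h.vv, ← h.vv, add_comm]

theorem sig_x {x : F4 → G} {a : F4} (xA : ∀ t, x t ∈ D.A)
    (k : ∀ t, D.rho * x t = x (a * t) * D.rho) (t : F4) :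
    D.swap.rho * x t = x (a * t) * D.swap.rho := by
  rw [sig_eq]
  exact rho_mul k (fun t => K_comm h.zK (xA t)) t

theorem St_rho : D.St D D.rho om om false := by
  have key : ∀ ρ n : G, n * n = 1 → n * ρ * n = ρ ^ 2 → ∀ x y : G,
      ρ ^ 2 * x = y * ρ ^ 2 → ρ * (n * x * n) * ρ⁻¹ = n * y * n := by
    intro ρ n n2 nr x y e
    have e1 : ρ * n = n * ρ ^ 2 := by
      rw [← nr, ← mul_assoc, ← mul_assoc, n2, one_mul]
    have e2 : ρ ^ 2 * n = n * ρ := by rw [← nr, mul_assoc, n2, mul_one]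
    rw [← mul_assoc, ← mul_assoc, e1, mul_assoc n, e, ← mul_assoc, mul_assoc (n * y), e2]
    group
  refine ⟨om_ne, om_ne, fun t => conj_of_eq (h.re t), fun t => conj_of_eq (h.rb t), fun t => ?_,
    fun t => ?_, fun t => key _ _ h.nb2 h.nbr _ _ (rho_pow h.rb 2 t)⟩
  · rw [← pow_two]
    exact conj_of_eq (h.rv t)
  · refine Eq.trans ?_ (key _ _ h.ne2 h.ner _ _ (rho_pow (sig_x h xe_A h.re) 2 t))
    have := K_comm h.zK (mul_mem (mul_mem ne_A (xe_A (D := D) t)) ne_A)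
    calc _ = D.swap.rho * (D.swap.rho⁻¹ * D.rho * (D.ne * D.xe t * D.ne)) * D.rho⁻¹ := by group
      _ = _ := by rw [← this]; group

end

variable [Finite G] {R Od W : Subgroup G} {r f : F4 → G} {c v : F4} {π : G → N4 × N4}
  {Φ : G → O q4}

theorem UK (hF : D.Fa') {u : G} (hu : u ∈ D.U) (hk : u ∈ D.K) : u = 1 :=
  hF.par.AK u (U_A hF.rel hu) hk 6 (orderOf_dvd_iff_pow_eq_one.1 (by
    have h1 := D.U.orderOf_dvd_natCard hu
    rwa [hF.par.cardU] at h1))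

/-- an involution of `A K` is the product of involutions of `A` and `K` -/
theorem split2 (hF : D.Fa') {a k : G} (ha : a ∈ D.A) (hk : k ∈ D.K) (e : a * k * (a * k) = 1) :
    ∃ a' ∈ D.A, ∃ k' ∈ D.K, a * k = a' * k' ∧ k' * k' = 1 := by
  have cm : Commute a k := K_comm hk ha
  have e1 : a ^ 2 * k ^ 2 = 1 := by rw [← cm.mul_pow, pow_two, e]
  have ho := hF.par.AKo (k ^ 2) (by
    rw [eq_inv_of_mul_eq_one_right e1]; exact inv_mem (pow_mem ha _)) (pow_mem hk _)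
  refine ⟨_, pow_mem ha (orderOf (k ^ 2)), _, pow_mem hk (orderOf (k ^ 2)), ?_, ?_⟩
  · obtain ⟨j, hj⟩ := ho
    rw [← cm.mul_pow, hj, pow_succ, pow_mul, pow_two (a * k), e, one_pow, one_mul]
  · rw [← pow_two, ← pow_mul, mul_comm, pow_mul, pow_orderOf_eq_one]

section

variable (hF : D.Fa') (hP : PD D R) (hA : WA D R Od r f c)
include hP hA hF

/-- the centre of `A` centralises the translations -/
theorem Z_f {z : G} (ha : z ∈ D.A) (hk : z ∈ D.K) (t : F4) : f t * z = z * f t :=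
  hA.fI z hk (hF.par.AKo z ha hk) ⟨1, one_ne_zero, K_comm (r_K hP hA 1) ha⟩ t

theorem sig_f (t : F4) : D.swap.rho * f t = f (om ^ 2 * t) * D.swap.rho := by
  rw [sig_eq]
  exact rho_mul hA.rf (Z_f hF hP hA (mul_mem (inv_mem sig_A) rho_A) hF.rel.zK) t

variable (hB : WB D r f v) (v0 : v ≠ 0)
include hB v0

/-- an element of odd order of `K` commuting with some `r s` lies in `O` -/
theorem mem_O_of {k : G} (hk : k ∈ D.K) (ho : Odd (orderOf k)) {s : F4}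
    (hs : s ≠ 0) (hc : k * r s = r s * k) : k ∈ Od := by
  have hf : ∀ t, f t ∈ centralizer {k} := fun t =>
    mem_centralizer_singleton_iff.2 (hA.fI k hk ho ⟨s, hs, hc⟩ t)
  have hA' : ∀ a ∈ D.A, a ∈ centralizer {k} := fun a ha =>
    mem_centralizer_singleton_iff.2 (K_comm hk ha)
  have hr : ∀ t, r t ∈ centralizer {k} := fun t => by
    obtain ⟨x, e⟩ := hB.sb 1 (v ^ 2 * t)
    have h1 : sE D f 1 ∈ centralizer {k} := mul_mem (mul_mem (hA' _ nb_A) (hf 1)) (hA' _ nb_A)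
    have h2 := mul_mem (mul_mem h1 (hA' _ (xb_A (v ^ 2 * t)))) (inv_mem h1)
    have fin : ∀ v t : F4, v ≠ 0 → v * 1 ^ 2 * (v ^ 2 * t) = t := by decide
    rwa [e, mul_mem_cancel_right (hA' _ (xv_A hF.rel x)), mul_mem_cancel_right (hA' _ (xb_A _)),
      mul_mem_cancel_right (hA' _ (xe_A _)), mul_mem_cancel_right (hf _), fin v t v0] at h2
  obtain ⟨x, hx, o, hO, rfl⟩ := hA.cKR k hk fun x hx => by
    obtain ⟨t, rfl⟩ := (hA.r_mem x).1 hx
    exact (mem_centralizer_singleton_iff.1 (hr t)).symm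
  have cm : Commute x o := (hA.OR o hO x hx).symm
  have h1 : (x * o) ^ (orderOf (x * o) * Nat.card Od) = 1 := by
    rw [pow_mul, pow_orderOf_eq_one, one_pow]
  have h2 : o ^ (orderOf (x * o) * Nat.card Od) = 1 :=
    orderOf_dvd_iff_pow_eq_one.1 ((Od.orderOf_dvd_natCard hO).mul_left _)
  rw [cm.mul_pow, h2, mul_one] at h1
  rwa [eq_one_of_odd (ho.mul hA.oddO) h1 (hP.sq x hx), one_mul]

theorem oddn (B : Subgroup G) (hV : B ≤ centralizer (D.V : Set G))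
    (hN : centralizer (D.V : Set G) ≤ normalizer (B : Set G)) (ho : Odd (Nat.card B)) : B ≤ Od := by
  have h := hF.rel
  have BU : ∀ b ∈ B, b ∈ D.U → b = 1 := fun b hb hu => orderOf_eq_one_iff.1 (by
    have h1 := D.U.orderOf_dvd_natCard hu
    rw [hF.par.cardU] at h1
    exact Nat.eq_one_of_dvd_coprimes (Nat.Coprime.pow_right 6 ho.coprime_two_right)
      (B.orderOf_dvd_natCard hb) h1)
  have key : ∀ s, s ≠ 0 → B ⊓ centralizer {r s} ≤ Od := by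
    rintro s hs b ⟨hb, hc⟩
    have hc' : b * r s = r s * b := mem_centralizer_singleton_iff.1 hc
    have bN := hA.cr s hs b hc'
    have bU : ∀ q ∈ D.U, b * q * b⁻¹ ∈ D.U := by
      obtain ⟨u, hu, l, m, fr, k⟩ := hF.par.nU b bN (centralizer_le_normalizer _ (hV hb))
      have : ∀ q ∈ D.U, u * b * q * (u * b)⁻¹ ∈ D.U := conj_closure (by
        rintro _ ((⟨t, rfl⟩ | ⟨t, rfl⟩) | ⟨t, rfl⟩) <;> rcases k with k | k
        exacts [k.e t ▸ xe_U _, k.e t ▸ xb_U _, k.b t ▸ xb_U _, k.b t ▸ xe_U _, k.v t ▸ xv_U _,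
          k.v t ▸ xv_U _])
      intro q hq
      have := mul_mem (mul_mem (inv_mem hu) (this q hq)) hu
      rwa [show u⁻¹ * (u * b * q * (u * b)⁻¹) * u = b * q * b⁻¹ by group] at this
    obtain ⟨t, k, hk, rfl⟩ := hF.par.cU b bN fun q hq => by
      have m : q * b⁻¹ * q⁻¹ ∈ B := (mem_normalizer_iff.1 (hN (U_CV h hq)) _).1 (inv_mem hb)
      have := BU _ (mul_mem hb m) (by
        rw [← mul_assoc, ← mul_assoc]; exact mul_mem (bU q hq) (inv_mem hq))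
      rwa [← mul_assoc, ← mul_assoc, mul_inv_eq_one, mul_inv_eq_iff_eq_mul] at this
    have kp : Commute (D.xv t) k := K_comm hk (xv_A h t)
    have h1 : (D.xv t * k) ^ Nat.card B = 1 :=
      orderOf_dvd_iff_pow_eq_one.1 (B.orderOf_dvd_natCard hb)
    rw [kp.mul_pow] at h1
    have h2 : D.xv t ^ Nat.card B = 1 := UK hF (pow_mem (xv_U t) _)
      (eq_inv_of_mul_eq_one_left h1 ▸ inv_mem (pow_mem hk _))
    rw [eq_one_of_odd ho h2 (sq_of_add h.vv t), one_mul] at hb hc' ⊢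
    exact mem_O_of hF hP hA hB v0 hk (ho.of_dvd_nat (B.orderOf_dvd_natCard hb)) hs hc'
  have o2 : ∀ s, s ≠ 0 → orderOf (r s) = 2 := fun s hs =>
    orderOf_eq_prime (by rw [pow_two, r_sq hP hA]) fun e => hs (hA.r_inj s e)
  have rN : ∀ s, r s ∈ normalizer (B : Set G) := fun s =>
    hN (memCV h fun t => (K_comm (r_K hP hA s) (xv_A h t)).symm)
  refine (H10.Bender.le_sup_cent_four ho (o2 1 one_ne_zero) (o2 om om_ne) (fun e => ?_)
    (by rw [← hA.r_add, ← hA.r_add, add_comm]) (rN 1) (rN om)).trans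
    (sup_le (sup_le (key 1 one_ne_zero) (key om om_ne)) (hA.r_add 1 om ▸ key _ (by decide)))
  exact absurd (hA.r_inj (1 + om) (by rw [hA.r_add, e, r_sq hP hA])) (by decide)

theorem cent_R : D.K ⊓ centralizer {r 1} ≤ centralizer (R : Set G) := by
  set H := D.K ⊓ centralizer {r 1}
  have ab : ∀ x ∈ R, ∀ y ∈ R, x * y = y * x := fun x hx y hy => by
    obtain ⟨s, rfl⟩ := (hA.r_mem x).1 hx
    obtain ⟨t, rfl⟩ := (hA.r_mem y).1 hy
    rw [← hA.r_add, ← hA.r_add, add_comm]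
  have RH : R ≤ H := fun x hx =>
    ⟨hP.syl.le hx, mem_centralizer_singleton_iff.2 (ab x hx _ (r_R hP hA 1))⟩
  have hS := hP.syl.mono RH inf_le_left
  by_contra k
  obtain ⟨p, hp, dv⟩ := Nat.exists_prime_and_dvd fun e => k (relIndex_eq_one.1 e)
  have := Fact.mk hp
  have p2 : p ≠ 2 := by
    rintro rfl
    exact hS.not_dvd (dv.trans (relIndex_dvd_of_le_left H fun x hx y hy => ab y hy x hx))
  obtain ⟨P, hS'⟩ := H8.exists_isSylowIn p H
  refine hS'.not_dvd (dv.trans (relIndex_dvd_of_le_left H fun x hx y hy => ?_))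
  obtain ⟨n, hn⟩ := hS'.isPGroup ⟨x, hx⟩
  exact (hA.OR x (mem_O_of hF hP hA hB v0 (hS'.le hx).1 ((hp.odd_of_ne_two p2).pow.of_dvd_nat
    (orderOf_dvd_iff_pow_eq_one.2 (congrArg Subtype.val hn))) one_ne_zero
    (mem_centralizer_singleton_iff.1 (hS'.le hx).2)) y hy).symm

theorem inv_R {k : G} (hk : k ∈ D.K) (k2 : k * k = 1) (hc : k * r 1 = r 1 * k) : ∃ s, r s = k := by
  obtain ⟨x, hx, o, hO, rfl⟩ := hA.cKR k hk fun x hx =>
    (cent_R hF hP hA hB v0 ⟨hk, mem_centralizer_singleton_iff.2 hc⟩ x hx).symm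
  rw [mul_assoc, ← mul_assoc o, hA.OR o hO x hx, mul_assoc, ← mul_assoc, hP.sq x hx, one_mul] at k2
  rw [eq_one_of_odd hA.oddO (orderOf_dvd_iff_pow_eq_one.1 (Od.orderOf_dvd_natCard hO)) k2, mul_one]
  exact (hA.r_mem x).1 hx

/-- an involution centralizing `ρ` and `f` is not conjugate to `r 1` -/
theorem not_conj (hc : IsConj (r 1) (f 1)) {γ ρ : G} (ρf : ∀ t, ρ * f t = f (om ^ 2 * t) * ρ)
    (γr : γ * ρ = ρ * γ) (γf : ∀ s, γ * f s = f s * γ) : ¬ IsConj (r 1) γ := by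
  intro k
  obtain ⟨y, rfl⟩ := isConj_iff.1 k
  have h := hF.rel
  have back : ∀ x, y * r 1 * y⁻¹ * x = x * (y * r 1 * y⁻¹) →
      y⁻¹ * x * y⁻¹⁻¹ * r 1 = r 1 * (y⁻¹ * x * y⁻¹⁻¹) := fun x e => by
    rw [show y⁻¹ * x * y⁻¹⁻¹ * r 1 = y⁻¹ * (x * (y * r 1 * y⁻¹)) * y by group, ← e]
    group
  set p := y⁻¹ * ρ * y⁻¹⁻¹ with hp
  set F : F4 → G := fun s => y⁻¹ * f s * y⁻¹⁻¹ with hFd
  have pr : p * r 1 = r 1 * p := back _ γr
  have Fr : ∀ s, F s * r 1 = r 1 * F s := fun s => back _ (γf s)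
  have pN := hA.cr 1 one_ne_zero _ pr
  have FN := fun s => hA.cr 1 one_ne_zero _ (Fr s)
  have Fa : ∀ s t, F (s + t) = F s * F t := fun s t => by simp only [hFd, conj_mul, hB.f_add]
  have pF : ∀ s, p * F s * p⁻¹ = F (om ^ 2 * s) := fun s => conj_of_eq (by
    simp only [hp, hFd, conj_mul, ρf])
  have w : ⁅p, F (om ^ 2)⁆ = F 1 := by
    rw [commutatorElement_def, pF, inv_eq_of_mul_eq_one_right (sq_of_add Fa _), ← Fa]
    exact congrArg F (by decide)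
  obtain ⟨a0, ha0, k0, hk0, e0⟩ := hF.par.comm2 (F 1) (w ▸ commutator_mem_commutator pN (FN _))
    ⟨1, by rw [pow_one, pow_two, sq_of_add Fa]⟩
  obtain ⟨a, ha, k, hk, e, k2⟩ := split2 hF ha0 hk0 (by rw [← e0, sq_of_add Fa])
  replace e := e0.trans e
  have cA : ∀ a ∈ D.A, p * a * p⁻¹ ∈ D.A := fun a ha => (mem_normalizer_iff.1 pN a).1 ha
  have cK : ∀ k ∈ D.K, p * k * p⁻¹ ∈ D.K := fun k hk a ha => by
    have := K_comm hk ((mem_normalizer_iff''.1 pN a).1 ha)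
    rw [show a * (p * k * p⁻¹) = p * (p⁻¹ * a * p * k) * p⁻¹ by group, this]
    group
  have split : ∀ a ∈ D.A, ∀ s, a * r s = 1 → r s = 1 := fun a ha s e =>
    hF.par.AK _ (eq_inv_of_mul_eq_one_right e ▸ inv_mem ha) (r_K hP hA s) 1 (by
      rw [pow_one, pow_two, r_sq hP hA])
  have mm : ∀ a k, ∀ a' ∈ D.A, k ∈ D.K → ∀ k', a * k * (a' * k') = a * a' * (k * k') :=
    fun a k a' ha' hk k' => by rw [mul_assoc, ← mul_assoc k, ← K_comm hk ha']; group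
  have kr : k * r 1 = r 1 * k := by
    have := Fr 1
    rwa [e, mul_assoc, ← mul_assoc (r 1), ← K_comm (r_K hP hA 1) ha, mul_assoc,
      mul_right_inj] at this
  have step : ∀ s, ∃ s', r s' = p * r s * p⁻¹ ∧ (s = 0 ↔ s' = 0) ∧ (s = 1 ↔ s' = 1) := fun s => by
    obtain ⟨s', e⟩ := inv_R hF hP hA hB v0 (cK _ (r_K hP hA s)) (by
      rw [conj_mul, r_sq hP hA, mul_one, mul_inv_cancel]) (by
      rw [← conj_of_eq pr, conj_mul, conj_mul, ← hA.r_add, ← hA.r_add, add_comm])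
    have inj : ∀ s t, r s = r t → s = t := fun s t e => add_right_cancel
      ((hA.r_inj (s + t) (by rw [hA.r_add, e, r_sq hP hA])).trans (f4_add t).symm)
    have key : ∀ t, p * r t * p⁻¹ = r t → (s = t ↔ s' = t) := fun t ht =>
      ⟨fun k => inj _ _ (by rw [e, k, ht]), fun k => inj _ _ (by
        rwa [k, ← ht, mul_left_inj, mul_right_inj, eq_comm] at e)⟩
    exact ⟨s', e, key 0 (by rw [one_of_add hA.r_add, mul_one, mul_inv_cancel]),
      key 1 (conj_of_eq pr)⟩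
  obtain ⟨s0, rfl⟩ := inv_R hF hP hA hB v0 hk k2 kr
  obtain ⟨s1, e1, q1⟩ := step s0
  obtain ⟨s2, e2, q2⟩ := step s1
  have f1 : F (om ^ 2 * 1) = p * a * p⁻¹ * r s1 := by rw [← pF, e, e1, conj_mul]
  have f2 : F (om ^ 2 * (om ^ 2 * 1)) = p * (p * a * p⁻¹) * p⁻¹ * r s2 := by
    rw [← pF, f1, e2, conj_mul]
  have sum := hA.r_inj _ (split _ (mul_mem (mul_mem ha (cA a ha)) (cA _ (cA a ha)))
    (s0 + s1 + s2) (by
      rw [hA.r_add, ← mm _ _ _ (cA _ (cA a ha)) (r_K hP hA _), hA.r_add,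
        ← mm _ _ _ (cA a ha) (r_K hP hA _), ← e, ← f1, ← f2, ← Fa, ← Fa, ← one_of_add Fa]
      exact congrArg F (by decide)))
  have fin : ∀ s0 s1 s2 : F4, (s0 = 0 ↔ s1 = 0) ∧ (s0 = 1 ↔ s1 = 1) →
      (s1 = 0 ↔ s2 = 0) ∧ (s1 = 1 ↔ s2 = 1) → s0 + s1 + s2 = 0 → s0 = 0 := by decide
  rw [fin _ _ _ q1 q2 sum, one_of_add hA.r_add, mul_one] at e
  obtain ⟨z, hz⟩ := isConj_iff.1 hc
  refine one_ne_zero (hA.r_inj 1 (hP.noD (y⁻¹ * z) _ (r_K hP hA 1) (r_sq hP hA 1) ?_))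
  rw [show y⁻¹ * z * r 1 * (y⁻¹ * z)⁻¹ = y⁻¹ * (z * r 1 * z⁻¹) * y⁻¹⁻¹ by group, hz]
  exact (e ▸ ha : F 1 ∈ D.A)

end

section

variable (h4 : W4 D r f v W π)
include h4

theorem W_M0 (h : D.Rel') {a : G} (ha : a ∈ W) :
    a ∈ centralizer (D.V : Set G) ⊓ normalizer (W : Set G) :=
  Subgroup.mem_inf.2 ⟨memCV h fun s => by
    rw [h4.comm a ha _ (U_W h4 (xv_U s)), π_v h4, bq_zero, one_of_add h.vv, one_mul],
    le_normalizer ha⟩

variable (hΦ : PhiD D.V W Od π Φ)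
include hΦ

variable (hF : D.Fa') (hP : PD D R) (hA : WA D R Od r f c)
include hF hP hA

theorem O_W {o : G} (ho : o ∈ Od) : W ≤ centralizer {o} :=
  W_ind h4 (fun _ hq => mem_centralizer_singleton_iff.2 (K_comm (hA.OK ho) (U_A hF.rel hq)))
    (fun s => mem_centralizer_singleton_iff.2 (hA.OR o ho _ (r_R hP hA s)).symm)
    fun s => mem_centralizer_singleton_iff.2 (hA.fI o (hA.OK ho)
      (hA.oddO.of_dvd_nat (Od.orderOf_dvd_natCard ho))
      ⟨1, one_ne_zero, hA.OR o ho _ (r_R hP hA 1)⟩ s)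

theorem r_f : IsConj (r 1) (f 1) := by
  obtain ⟨m, hM, e, -⟩ := hΦ.Φ_surj _ (refl_refl_mem q_vals.1 q_vals.2.1)
  obtain ⟨r1, r2, -, -, r4, r5, -⟩ := refl_P
  obtain ⟨x, k⟩ := V_of_π h4 ((mem_normalizer_iff.1 hM.2 _).1 (r_W h4 1)) (f_W h4 1) (by
    rw [hΦ.act m hM _ (r_W h4 1), e, h4.πr, h4.πf, sm_one, sm_one, O_mul_apply, O_mul_apply, r5,
      r4, r2, r1])
  refine isConj_iff.2 ⟨r x * m, ?_⟩
  rw [show r x * m * r 1 * (r x * m)⁻¹ = r x * (m * r 1 * m⁻¹) * (r x)⁻¹ by group, k,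
    mul_inv_eq_iff_eq_mul, hA.fr, mul_one, mul_assoc]

theorem gam (hB : WB D r f v) (v0 : v ≠ 0) {g : G}
    (hg : g ∈ centralizer (D.V : Set G) ⊓ normalizer (W : Set G)) (k : Φ g ∉ kerDS hq4) :
    ∃ γ ∈ centralizer (D.V : Set G) ⊓ normalizer (W : Set G), Φ γ ∉ kerDS hq4 ∧ γ * γ = 1 ∧
      (∀ s, γ * r s = r s * γ) ∧ (∀ s, γ * f s = f s * γ) ∧ ¬ IsConj (r 1) γ := by
  have h := hF.rel
  set M := centralizer (D.V : Set G) ⊓ normalizer (W : Set G) with hM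
  obtain ⟨-, -, -, -, r4, r5, r6, -⟩ := refl_P
  have cW : ∀ g ∈ M, ∀ a ∈ W, g * a * g⁻¹ ∈ W := fun g hg a ha => (mem_normalizer_iff.1 hg.2 a).1 ha
  have cV : ∀ g ∈ M, ∀ s, g * D.xv s * g⁻¹ = D.xv s := fun g hg s =>
    conj_of_eq (hg.1 _ (xv_V s)).symm
  have mulW : ∀ a ∈ W, ∀ g, g ∈ M ∧ Φ g = refl q4 (vE + vF) →
      a * g ∈ M ∧ Φ (a * g) = refl q4 (vE + vF) := fun a ha g hg =>
    ⟨mul_mem (W_M0 h4 h ha) hg.1, by
      rw [hΦ.Φ_mul _ (W_M0 h4 h ha) _ hg.1, hg.2,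
        Φ_one h4 hΦ (W_M0 h4 h ha) fun b hb => π_conj h4 ha hb, one_mul]⟩
  have gr : ∀ g, g ∈ M ∧ Φ g = refl q4 (vE + vF) → ∀ s, ∃ t, g * r s * g⁻¹ = D.xv t * r s :=
    fun g hg s => V_of_π h4 (cW g hg.1 _ (r_W h4 s)) (r_W h4 s) (by
      rw [hΦ.act g hg.1 _ (r_W h4 s), hg.2, h4.πr]
      refine (ap_sm _ _ _).trans ?_
      rw [ap, r4, r5])
  have gf : ∀ g, g ∈ M ∧ Φ g = refl q4 (vE + vF) → ∀ s, ∃ t, g * f s * g⁻¹ = D.xv t * f s :=
    fun g hg s => V_of_π h4 (cW g hg.1 _ (f_W h4 s)) (f_W h4 s) (by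
      rw [hΦ.act g hg.1 _ (f_W h4 s), hg.2, h4.πf]
      refine (ap_sm _ _ _).trans ?_
      rw [ap, map_add, r4, r5])
  obtain ⟨m, hm, e, -⟩ := hΦ.Φ_surj _ (refl_mul_mem q_vals.2.1 (mt inv_mem_iff.1 k))
  have g1 : m * g ∈ M ∧ Φ (m * g) = refl q4 (vE + vF) :=
    ⟨mul_mem hm hg, by rw [hΦ.Φ_mul _ hm _ hg, e, inv_mul_cancel_right]⟩
  obtain ⟨t, ht⟩ := hA.nE (m * g) fun s => by
    obtain ⟨t, e⟩ := gr _ g1 s
    exact ⟨s, t, e.trans (K_comm (r_K hP hA s) (xv_A h t))⟩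
  have g2 := mulW _ (inv_mem (f_W h4 t)) _ g1
  generalize (f t)⁻¹ * (m * g) = a at ht g2
  have ar : ∀ s, a * r s = r s * a := fun s => by
    obtain ⟨t, e⟩ := gr _ g2 s
    have := (mem_normalizer_iff.1 ht _).1 (r_R hP hA s)
    rw [e, mul_mem_cancel_right (r_R hP hA s)] at this
    rwa [UK hF (xv_U t) (hP.syl.le this), one_mul, mul_inv_eq_iff_eq_mul] at e
  obtain ⟨u, hu, l, m', fr, st⟩ := hF.par.nU a (hA.nR ht) (centralizer_le_normalizer _ g2.1.1)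
  have g3 := mulW _ (U_W h4 hu) _ g2
  have bN : u * a ∈ D.N := mul_mem (le_normalizer (U_A h hu)) (hA.nR ht)
  have br : ∀ s, u * a * r s = r s * (u * a) := fun s => by
    rw [mul_assoc, ar, ← mul_assoc, K_comm (r_K hP hA s) (U_A h hu), mul_assoc]
  generalize u * a = b at st g3 bN br
  have vi : ∀ s t, D.xv s = D.xv t → s = t := fun s t e => add_right_cancel
    ((v_eq_one h (t := s + t) (by rw [h.vv, e, sq_of_add h.vv])).trans (f4_add t).symm)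
  replace st : D.St D.swap b l m' fr := st.resolve_left fun st => by
    have e1 := hΦ.act b g3.1 _ (U_W h4 (xe_U 1))
    rw [st.e, h4.πe, h4.πe, g3.2] at e1
    replace e1 := e1.trans (ap_sm _ _ _)
    rw [ap, r6, map_zero] at e1
    have fin : ∀ v a : F4, v ≠ 0 → sm a (vE, 0) ≠ sm (v * 1) (vF, 0) := by decide +kernel
    exact fin _ _ v0 e1
  obtain ⟨lm, rfl⟩ : l * m' = 1 ∧ fr = false := by
    have fin : ∀ (a : F4) (fr : Bool), 1 = a * pw fr 1 → om = a * pw fr om → a = 1 ∧ fr = false := by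
      decide
    exact fin _ _ (vi _ _ ((cV b g3.1 1).symm.trans (st.v 1)))
      (vi _ _ ((cV b g3.1 om).symm.trans (st.v om)))
  have b2 : b * b ∈ D.K := hF.par.stK _ (by
    have := St_mul st (St_swap st)
    rwa [mul_comm m', lm] at this)
  obtain ⟨ρ, ρA, ρf, ρv, bρ⟩ : ∃ ρ ∈ D.A, (∀ t, ρ * f t = f (om ^ 2 * t) * ρ) ∧
      (∀ t, ρ * D.xv t = D.xv (om ^ 2 * t) * ρ) ∧ b * ρ = ρ * b := by
    have k1 := St_mul (St_rho h) st
    have k2 := St_mul st (St_swap (St_rho h))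
    rw [mul_comm om, mul_comm om] at k2
    have wK := hF.par.stK _ (St_div k1 k2)
    have wA : (b * D.rho)⁻¹ * (D.rho * b) ∈ D.A := by
      rw [mul_inv_rev, mul_assoc, ← mul_assoc b⁻¹]
      exact mul_mem (inv_mem rho_A) ((mem_normalizer_iff''.1 bN _).1 rho_A)
    have e1 : b⁻¹ * D.rho * b = D.rho * ((b * D.rho)⁻¹ * (D.rho * b)) := by group
    generalize (b * D.rho)⁻¹ * (D.rho * b) = w at wK wA e1
    have wρ := K_comm wK rho_A
    have e2 : b⁻¹ * (D.rho * w) * b = D.rho := by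
      calc _ = (b * b)⁻¹ * (D.rho * (b * b)) := by rw [← e1]; group
        _ = _ := by rw [K_comm b2 rho_A, inv_mul_cancel_left]
    have e3 : Commute b (D.rho * (D.rho * w)) := by
      calc b * (D.rho * (D.rho * w)) = b * (D.rho * w * D.rho) := by rw [mul_assoc D.rho, ← wρ]
        _ = b * (b⁻¹ * D.rho * b * (b⁻¹ * (D.rho * w) * b)) := by rw [e1, e2]
        _ = _ := by group
    have e4 : (D.rho * (D.rho * w))⁻¹ = D.rho * w⁻¹ := by
      rw [inv_eq_iff_mul_eq_one, wρ]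
      calc _ = D.rho * w * (D.rho * D.rho) * w⁻¹ := by group
        _ = w * D.rho ^ 3 * w⁻¹ := by rw [wρ, pow_three']; group
        _ = 1 := by rw [h.r3, mul_one, mul_inv_cancel]
    exact ⟨D.rho * w⁻¹, mul_mem rho_A (inv_mem wA), rho_mul hA.rf (Z_f hF hP hA wA wK),
      rho_mul h.rv fun t => K_comm wK (xv_A h t), e4 ▸ e3.inv_right.eq⟩
  have bR : ∀ x ∈ R, b * x = x * b := fun x hx => by
    obtain ⟨s, rfl⟩ := (hA.r_mem x).1 hx
    exact br s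
  obtain ⟨x, hx, o, ho, e2⟩ := hA.cKR _ b2 fun x hx => by
    rw [mul_assoc, bR x hx, ← mul_assoc, bR x hx, mul_assoc]
  have bo : Commute o b := by
    have : o = x * (b * b) := by rw [e2, ← mul_assoc, hP.sq x hx, one_mul]
    rw [this]
    exact Commute.mul_left (bR x hx).symm ((Commute.refl b).mul_left (Commute.refl b))
  obtain ⟨j, hj⟩ := hA.oddO
  have oW : ∀ a ∈ W, o ^ j * a * (o ^ j)⁻¹ = a := fun a ha => conj_of_eq
    (mem_centralizer_singleton_iff.1 (O_W h4 hΦ hF hP hA (pow_mem ho j) ha)).symm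
  have oM : o ^ j ∈ M := Subgroup.mem_inf.2
    ⟨memCV h fun s => (K_comm (hA.OK (pow_mem ho j)) (xv_A h s)).symm,
      mem_normalizer_fintype fun a ha => (oW a ha).symm ▸ ha⟩
  have g4 : o ^ j * b ∈ M ∧ Φ (o ^ j * b) = refl q4 (vE + vF) := ⟨mul_mem oM g3.1, by
    rw [hΦ.Φ_mul _ oM _ g3.1, g3.2, Φ_one h4 hΦ oM fun a ha => by rw [oW a ha], one_mul]⟩
  have d2 : o ^ j * b * (o ^ j * b) = x := by
    have : o ^ (2 * j + 1) = 1 := hj ▸ orderOf_dvd_iff_pow_eq_one.1 (Od.orderOf_dvd_natCard ho)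
    rw [← pow_two, (bo.pow_left j).mul_pow, pow_two b, e2, ← hA.OR o ho x hx, ← mul_assoc, ← pow_mul,
      ← pow_succ, mul_comm j, this, one_mul]
  have dr : ∀ s, o ^ j * b * r s = r s * (o ^ j * b) := fun s => by
    rw [mul_assoc, br, ← mul_assoc, hA.OR _ (pow_mem ho j) _ (r_R hP hA s), mul_assoc]
  have dρ : o ^ j * b * ρ = ρ * (o ^ j * b) := by
    rw [mul_assoc, bρ, ← mul_assoc, ← K_comm (hA.OK (pow_mem ho j)) ρA, mul_assoc]
  generalize o ^ j * b = d at g4 d2 dr dρ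
  choose μ hμ using gf d g4
  obtain ⟨s, rfl⟩ := (hA.r_mem x).1 hx
  have rf : ∀ s t, r s * f t * (r s)⁻¹ = D.xv (s * t) * f t := fun s t => by
    rw [inv_eq_of_mul_eq_one_right (r_sq hP hA s), mul_assoc, hA.fr, ← mul_assoc, ← mul_assoc,
      r_sq hP hA, one_mul]
  obtain rfl : s = 0 := by
    have := rf s 1
    rw [← d2, show d * d * f 1 * (d * d)⁻¹ = d * (d * f 1 * d⁻¹) * d⁻¹ by group, hμ, ← conj_mul, hμ,
      cV d g4.1, ← mul_assoc, sq_of_add h.vv, mul_left_inj, mul_one] at this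
    exact v_eq_one h this.symm
  rw [one_of_add hA.r_add] at d2
  have μρ : ∀ t, μ (om ^ 2 * t) = om ^ 2 * μ t := fun t => vi _ _ (mul_right_cancel (b := f (om ^ 2 * t)) (by
    rw [← hμ, ← conj_of_eq (ρf t), ← conj_of_eq (ρv _), conj_mul, ← hμ,
      show ρ * (d * f t * d⁻¹) * ρ⁻¹ = ρ * d * f t * (ρ * d)⁻¹ by group, ← dρ]
    group))
  have μl : ∀ t, μ t = μ 1 * t := fun t => by
    have m1 : μ (om ^ 2) = om ^ 2 * μ 1 := by simpa using μρ 1
    rcases f4_cases t with rfl | rfl | rfl | rfl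
    · simpa using H72.ASB.om_fix _ (by simpa using (μρ 0).symm)
    · simp
    · have := μρ (om ^ 2)
      rw [m1, ← mul_assoc, show om ^ 2 * om ^ 2 = om by decide] at this
      rw [this, mul_comm]
    · rw [m1, mul_comm]
  have g5 := mulW _ (r_W h4 (μ 1)) _ g4
  have γf : ∀ t, r (μ 1) * d * f t = f t * (r (μ 1) * d) := fun t => by
    rw [← mul_inv_eq_iff_eq_mul, show r (μ 1) * d * f t * (r (μ 1) * d)⁻¹ =
      r (μ 1) * (d * f t * d⁻¹) * (r (μ 1))⁻¹ by group, hμ, ← conj_mul, rf,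
      cV _ (W_M0 h4 h (r_W h4 _)), ← μl, ← mul_assoc, sq_of_add h.vv, one_mul]
  refine ⟨r (μ 1) * d, g5.1, g5.2 ▸ refl_notMem_kerDS _ (by rw [q_vals.2.1]; decide), ?_,
    fun s => ?_, γf, not_conj hF hP hA hB v0 (r_f h4 hΦ hF hP hA) ρf ?_ γf⟩
  · rw [mul_assoc, ← mul_assoc d, dr, mul_assoc, d2, mul_one, r_sq hP hA]
  · rw [mul_assoc, dr, ← mul_assoc, ← hA.r_add, add_comm, hA.r_add, mul_assoc]
  · rw [mul_assoc, dρ, ← mul_assoc, ← K_comm (r_K hP hA _) ρA, mul_assoc]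

end

theorem hd : HDStmt'.{u} := by
  intro G _ _ D R Od W r f c v v' π Φ hF hP hA hB hB' vv h4 hΦ
  have h := hF.rel
  have v0 : v ≠ 0 := left_ne_zero_of_mul_eq_one vv
  have OA : ∀ o ∈ Od, ∀ a ∈ D.A, o * a = a * o := fun o ho a ha => (K_comm (hA.OK ho) ha).symm
  obtain ⟨i, hi⟩ : ∃ i : ℕ, om ^ i = v := by
    rcases f4_cases v with rfl | rfl | rfl | rfl
    exacts [absurd rfl v0, ⟨0, rfl⟩, ⟨1, pow_one _⟩, ⟨2, rfl⟩]
  have hj : om ^ (i * 2) = v ^ 2 := by rw [pow_mul, hi]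
  have v3 : ∀ s, v * (v ^ 2 * s) = s ∧ v ^ 2 * (v * s) = s := by
    have : ∀ v s : F4, v ≠ 0 → v * (v ^ 2 * s) = s ∧ v ^ 2 * (v * s) = s := by decide
    exact fun s => this v s v0
  have nbi : D.nb⁻¹ = D.nb := inv_eq_of_mul_eq_one_right h.nb2
  have nv : ∀ s, D.nb * D.xv s = D.xe s * D.nb := fun s => by
    rw [← conj_of_eq (h.nbe s), ← mul_assoc, ← mul_assoc, h.nb2, one_mul, nbi]
  have sw : ∀ {ρ n : G} (k : ℕ), ρ ^ 3 = 1 → (∀ t, ρ * f t = f (om ^ 2 * t) * ρ) → n * n = 1 →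
      n * ρ * n = ρ ^ 2 → n * ρ ^ k * f 1 * (n * ρ ^ k) = n * f ((om ^ 2) ^ k * 1) * n :=
    fun {ρ n} k r3 ρf n2 nr => by
    nth_rewrite 2 [← inv_eq_of_mul_eq_one_right (n_sq r3 n2 nr k)]
    rw [mul_assoc n, rho_pow ρf, mul_inv_rev, inv_eq_of_mul_eq_one_right n2]
    group
  have s0 : ∀ k : ℕ, (om ^ 2) ^ k * 1 * 1 ≠ 0 := fun k => by simp [om_ne]
  have t1 : ∀ x y, D.nb * x = y * D.nb → y ∈ D.U → sE D f 1 * x = x * sE D f 1 := fun x y e hy => by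
    have e' : x * D.nb = D.nb * y := by
      rw [← conj_of_eq e, ← mul_assoc, ← mul_assoc, h.nb2, one_mul, nbi]
    rw [sE, mul_assoc, e, ← mul_assoc, mul_assoc D.nb, hA.fU 1 y hy, ← mul_assoc, ← e']
    simp only [mul_assoc]
  have tr : ∀ s, sE D f 1 * r s * (sE D f 1)⁻¹ = r s * D.xe s := fun s => conj_of_eq (by
    rw [sE, mul_assoc, K_comm (r_K hP hA s) nb_A, ← mul_assoc, mul_assoc D.nb, hA.fr, mul_one,
      ← mul_assoc, ← mul_assoc, K_comm (r_K hP hA s) nb_A, mul_assoc (r s), nv]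
    simp only [mul_assoc])
  have tM : sE D f 1 ∈ centralizer (D.V : Set G) ⊓ normalizer (W : Set G) := by
    refine Subgroup.mem_inf.2 ⟨memCV h fun s => t1 _ _ (nv s) (xe_U s), ?_⟩
    refine mem_normalizer_fintype fun a ha => ?_
    have uW : ∀ {x}, x ∈ D.U → x ∈ W := fun hx => U_W h4 hx
    refine W_ind h4 (H := W.comap (MulAut.conj (sE D f 1)).toMonoidHom)
      (U_ind (fun s => ?_) (fun s => ?_) fun s => ?_) (fun s => ?_) (fun s => ?_) ha <;>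
      change sE D f 1 * _ * (sE D f 1)⁻¹ ∈ W
    · exact (conj_of_eq (t1 _ _ (h.nbe s) (xv_U s))).symm ▸ uW (xe_U s)
    · obtain ⟨x, e⟩ := hB.sb 1 s
      exact e ▸ mul_mem (mul_mem (mul_mem (mul_mem (r_W h4 _) (f_W h4 _)) (uW (xe_U _)))
        (uW (xb_U _))) (uW (xv_U _))
    · exact (conj_of_eq (t1 _ _ (nv s) (xe_U s))).symm ▸ uW (xv_U s)
    · exact (tr s).symm ▸ mul_mem (r_W h4 s) (uW (xe_U s))
    · obtain ⟨x, e⟩ := hB.sf 1 s
      exact e ▸ mul_mem (mul_mem (f_W h4 _) (uW (xe_U _))) (uW (xv_U _))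
  refine ⟨⟨D.xv, fun s => D.xe (v ^ 2 * s), fun s => D.xb (v * s), r, f, D.nb * D.rho ^ i,
    D.ne * D.swap.rho ^ (i * 2), sE D f 1, π, Φ⟩, {
    v_add := h.vv
    v_inj := fun _ => v_eq_one h
    vW := fun s => U_W h4 (xv_U s)
    π_mul := h4.π_mul
    π_ker := h4.π_ker
    π_surj := h4.π_surj
    sq := h4.sq
    comm := h4.comm
    phi := hΦ
    odd := hA.oddO
    OW := fun o ho a ha => (mem_centralizer_singleton_iff.1 (O_W h4 hΦ hF hP hA ho ha)).symm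
    oddn := oddn hF hP hA hB v0
    tM := tM
    tW := (hB.sb 1 1).elim fun x e => notW h4 (by simp) (xb_U 1) (xe_U _) e ⟨_, .inl (h4.πe _)⟩
    t2 := ?_
    tev := ?_
    tr := (r_f h4 hΦ hF hP hA).trans (isConj_iff.2 ⟨D.nb, by rw [nbi]; rfl⟩)
    tO := fun o ho => ?_
    e_add := fun s t => (congrArg D.xe (mul_add _ s t)).trans (h.ee _ _)
    eW := fun s => U_W h4 (xe_U _)
    πe := fun s => (h4.πe _).trans (by rw [(v3 s).1])
    b_add := fun s t => (congrArg D.xb (mul_add _ s t)).trans (h.bb _ _)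
    bW := fun s => U_W h4 (xb_U _)
    πb := fun s => (h4.πb _).trans (by rw [(v3 s).2])
    rW := r_W h4
    πr := h4.πr
    fW := f_W h4
    πf := h4.πf
    n12 := n_sq h.r3 h.nb2 h.nbr i
    n1O := fun o ho => OA o ho _ (mul_mem nb_A (pow_mem rho_A _))
    n1e := fun s => ?_
    n1r := fun s => K_comm (r_K hP hA s) (mul_mem nb_A (pow_mem rho_A _))
    n1f := (hB.sb ((om ^ 2) ^ i * 1) 1).elim fun x e => (sw i h.r3 hA.rf h.nb2 h.nbr).symm ▸
      notW h4 (s0 i) (xb_U 1) (xe_U _) e ⟨_, .inl (h4.πe _)⟩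
    n22 := n_sq h.r3' h.ne2 h.ner _
    n2O := fun o ho => OA o ho _ (mul_mem ne_A (pow_mem sig_A _))
    n2b := fun s => ?_
    n2r := fun s => K_comm (r_K hP hA s) (mul_mem ne_A (pow_mem sig_A _))
    n2f := (hB'.sb ((om ^ 2) ^ (i * 2) * 1) 1).elim fun x e =>
      (sw _ h.r3' (sig_f hF hP hA) h.ne2 h.ner).symm ▸
      notW h4 (s0 _) (xe_U 1) (xb_U _) e ⟨_, .inr (h4.πb _)⟩
    vconj := fun s hs => ?_
    noD := fun k => ?_
    gam := fun g hg k => gam h4 hΦ hF hP hA hB v0 hg k }⟩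
  · change D.nb * f 1 * D.nb * (D.nb * f 1 * D.nb) = 1
    nth_rewrite 2 4 [← nbi]
    rw [conj_mul, sq_of_add hB.f_add, mul_one, mul_inv_cancel]
  · by_contra k
    have a1 := hΦ.act _ tM _ (U_W h4 (xe_U (v ^ 2 * 1)))
    rw [conj_of_eq (t1 _ _ (h.nbe _) (xv_U _)), h4.πe, (v3 1).1, sm_one] at a1
    obtain ⟨s, x, e⟩ := par4 (congrArg Prod.fst a1).symm k
    have a2 := hΦ.act _ tM _ (r_W h4 1)
    rw [tr, h4.π_mul _ (r_W h4 1) _ (U_W h4 (xe_U 1)), h4.πr, h4.πe, sm_one] at a2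
    have b1 := congrArg Prod.fst a2
    have b2 := congrArg Prod.snd a2
    dsimp only at b1 b2
    rw [map_add, ← b1, ← b2] at e
    have fin : ∀ a s x : F4, (((vP', vP) + sm a (vE, 0)).2 + ((vP', vP) + sm a (vE, 0)).1,
        ((vP', vP) + sm a (vE, 0)).2) ≠ sm s (vP', vP) + sm x (vE, 0) := by decide +kernel
    exact fin _ _ _ e
  · have k1 : D.nb ∈ centralizer {o} := mem_centralizer_singleton_iff.2 (OA o ho _ nb_A).symm
    exact (mem_centralizer_singleton_iff.1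
      (mul_mem (mul_mem k1 (O_W h4 hΦ hF hP hA ho (f_W h4 1))) k1)).symm
  · change D.nb * D.rho ^ i * D.xe (v ^ 2 * s) = D.xv s * (D.nb * D.rho ^ i)
    rw [mul_assoc, rho_pow h.re, hi, (v3 s).1, ← mul_assoc, h.nbe, mul_assoc]
  · change D.ne * D.swap.rho ^ (i * 2) * D.xb (v * s) = D.xv s * (D.ne * D.swap.rho ^ (i * 2))
    rw [mul_assoc, rho_pow (sig_x h xb_A h.rb), hj, (v3 s).2, ← mul_assoc, h.neb, mul_assoc]
  · obtain ⟨k, hk⟩ : ∃ k : ℕ, (om ^ 2) ^ k * 1 = s := by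
      rcases f4_cases s with rfl | rfl | rfl | rfl
      exacts [absurd rfl hs, ⟨0, by decide⟩, ⟨2, by decide⟩, ⟨1, by decide⟩]
    exact isConj_iff.2 ⟨D.rho ^ k, hk ▸ conj_of_eq (rho_pow h.rv k 1)⟩
  · obtain ⟨y, e⟩ := isConj_iff.1 k.symm
    exact one_ne_zero (hA.r_inj 1 (hP.noD y _ (r_K hP hA 1) (r_sq hP hA 1) (e ▸ xv_A h 1)))

end Cfsg.Agent.H90.AcT
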