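import Cfsg.Agent.H74.CksDefs
import Cfsg.Agent.H4.Coprime

/-!
The window with parameters `(2, 4)`: the module `Q_k / Q_{jk}` is irreducible.
-/

set_option autoImplicit false

namespace Cfsg.Agent.H90.Q24

open Cfsg.Agent.H35 Cfsg.Agent.Lead.T3 Cfsg.Agent.H74.Cks Subgroup

section QDfacts

variable {F : Type} [Field F] {Y : Type} [Group Y] (d : QD F Y) (h01 : ∀ t : F, t = 0 ∨ t = 1)
include h01

theorem two0 : (1 : F) + 1 = 0 := (h01 (1 + 1)).resolve_right (by simp)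

theorem Q_one {y : Y} (hy : y ≠ 1) : d.Q y = 1 := (h01 _).resolve_left fun h => hy (d.Q_ne y h)

omit h01 in
theorem Q1 : d.Q 1 = 0 := by
  have := d.Q_sm 0 1
  rwa [d.sm_zero, zero_mul, zero_mul] at this

omit h01 in
theorem z0 : d.z 0 = 1 := by
  have := d.z_add 0 0
  rw [add_zero] at this
  exact left_eq_mul.1 this

theorem z_triv (t : F) : d.z t = 1 := by
  rcases h01 t with rfl | rfl
  · exact z0 d
  · by_contra h
    have e := d.sm_add 1 1 (d.z 1)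
    rw [two0 h01, d.sm_zero, d.sm_one, Q_one d h01 h, map_one, one_mul, one_mul, ← d.z_add,
      two0 h01, z0, one_mul] at e
    exact h e.symm

include d in
theorem Ysq (y : Y) : y * y = 1 := by
  have e := d.sm_add 1 1 y
  rw [two0 h01, d.sm_zero, d.sm_one, z_triv d h01, mul_one] at e
  exact e.symm

include d in
theorem Ycomm (y y' : Y) : y * y' = y' * y := by
  have e := Ysq d h01 (y * y')
  calc y * y' = y * (y * y' * (y * y')) * y' := by rw [e, mul_one]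
    _ = (y * y) * (y' * y) * (y' * y') := by group
    _ = _ := by rw [Ysq d h01, Ysq d h01, one_mul, mul_one]

include d in
theorem mul_ne {y y' : Y} (h : y ≠ y') : y * y' ≠ 1 := fun e =>
  h (mul_right_cancel (e.trans (Ysq d h01 y').symm))

theorem B_ne {y y' : Y} (h : y ≠ y') : d.Bf y y' = 1 + d.Q y + d.Q y' := by
  have e := d.Q_mul y y'
  rw [Q_one d h01 (mul_ne d h01 h)] at e
  linear_combination -e - (d.Q y + d.Q y') * two0 h01

theorem B_self (y : Y) : d.Bf y y = 0 := by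
  have e := d.Q_mul y y
  rw [Ysq d h01, Q1] at e
  linear_combination -e - d.Q y * two0 h01

theorem Q3 {y₀ y₁ y₂ : Y} (h1 : y₀ ≠ y₁) (h2 : y₀ ≠ y₂) (h3 : y₁ ≠ y₂) :
    d.Q (y₀ * y₁ * y₂) = 1 + d.Q y₀ + d.Q y₁ + d.Q y₂ := by
  rw [d.Q_mul, d.Q_mul, d.B_left, B_ne d h01 h1, B_ne d h01 h2, B_ne d h01 h3]
  linear_combination (1 + d.Q y₀ + d.Q y₁ + d.Q y₂) * two0 h01

end QDfacts

/-- congruence modulo `R` -/
def Md {G : Type} [Group G] (R : Subgroup G) (x y : G) : Prop := x⁻¹ * y ∈ R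

section Md

variable {G : Type} [Group G] {R W : Subgroup G} {x y z x' y' g : G}

theorem Md.refl (x : G) : Md R x x := by simp [Md]

theorem Md.symm (h : Md R x y) : Md R y x := by simpa [Md] using inv_mem h

theorem Md.trans (h : Md R x y) (k : Md R y z) : Md R x z := by simpa [Md] using mul_mem h k

theorem Md.mul (h : Md R x y) (k : Md R x' y') (hx : x' ∈ normalizer (R : Set G)) :
    Md R (x * x') (y * y') := by
  have := mul_mem (H4.inv_conj_mem_of_mem_normalizer hx h) k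
  unfold Md
  convert this using 1
  group

theorem Md.conj (h : Md R x y) (hg : g ∈ normalizer (R : Set G)) :
    Md R (g * x * g⁻¹) (g * y * g⁻¹) := by
  have := H4.conj_mem_of_mem_normalizer hg h
  unfold Md
  convert this using 1
  group

theorem Md.mem (h : Md R x y) (hW : R ≤ W) (hx : x ∈ W) : y ∈ W := by
  simpa using mul_mem hx (hW h)

theorem Md.right (x : G) {ρ : G} (h : ρ ∈ R) : Md R x (x * ρ) := by simpa [Md] using h

/-- the centraliser of `c` modulo `R` -/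
def Cz (R : Subgroup G) (c : G) : Subgroup G where
  carrier := {g | g ∈ normalizer (R : Set G) ∧ Md R c (g * c * g⁻¹)}
  one_mem' := ⟨one_mem _, by simpa using Md.refl c⟩
  mul_mem' := fun {a b} ha hb => ⟨mul_mem ha.1 hb.1, by
    have := ha.2.trans (hb.2.conj ha.1)
    convert this using 1
    group⟩
  inv_mem' := fun {a} ha => ⟨inv_mem ha.1, by
    have := (ha.2.conj (inv_mem ha.1)).symm
    convert this using 1
    group⟩

theorem mem_Cz {c : G} (hg : g ∈ normalizer (R : Set G)) (h : g * c = c * g) : g ∈ Cz R c :=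
  ⟨hg, by rw [h, mul_inv_cancel_right]; exact Md.refl c⟩

theorem R_Cz {c : G} (hc : c ∈ normalizer (R : Set G)) (h : g ∈ R) : g ∈ Cz R c :=
  ⟨le_normalizer h, by
    have := mul_mem (H4.inv_conj_mem_of_mem_normalizer hc h) (inv_mem h)
    unfold Md
    convert this using 1
    group⟩

end Md

variable {G : Type} [Group G] [Finite G] [IsSimpleGroup G] {p n : ℕ} [Fact p.Prime] {S : Sys G p n}

section Sys

omit [Finite G] [IsSimpleGroup G] [Fact p.Prime]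

theorem PN (J : Finset (Fin n)) : S.P J ≤ normalizer (S.Q J : Set G) := S.sp.U_normal _

theorem BP (J : Finset (Fin n)) : S.B ≤ S.P J := BN.B_le_PJ _

theorem Pmono {J K : Finset (Fin n)} (h : J ⊆ K) : S.P J ≤ S.P K :=
  BN.PJ_mono (Finset.map_subset_map.2 h)

theorem s_mem {J : Finset (Fin n)} {i : Fin n} : S.s i ∈ S.P J ↔ i ∈ J := by
  have := BN.s_mem_parabolic_iff' (P := S.bn) (J := (J.map S.e.toEmbedding : Finset S.bn.S))
    (i := S.e i)
  rw [Finset.mem_coe] at this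
  exact this.trans (Finset.mem_map' _)

theorem sN (i : Fin n) : S.s i ∈ S.bn.N := S.bn.subset (S.e i).2

theorem ssT (i : Fin n) : S.s i * S.s i ∈ S.T :=
  ⟨S.bn.sq_mem _ (S.e i).2, mul_mem (sN i) (sN i)⟩

theorem NT {m t : G} (hm : m ∈ S.bn.N) (ht : t ∈ S.T) : m * t * m⁻¹ ∈ S.T :=
  ⟨S.bn.conj_mem m hm t ht, S.bn.N.mul_mem (S.bn.N.mul_mem hm ht.2) (S.bn.N.inv_mem hm)⟩

theorem UB : S.U ≤ S.B := S.sp.U_le _

theorem XU (i : Fin n) : S.X i ≤ S.U := le_sup_left.trans (S.X_sup i).le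

theorem TX {t y : G} {i : Fin n} (ht : t ∈ S.T) (hy : y ∈ S.X i) : t * y * t⁻¹ ∈ S.X i :=
  H4.conj_mem_of_mem_normalizer (S.X_T i ht) hy

theorem mem_cn {g x : G} {K : Subgroup G} : x ∈ cn g K ↔ g⁻¹ * x * g ∈ K :=
  H4.mem_conj_smul_iff

end Sys

/-- The facts that are used. -/
structure Hy (S : Sys G p n) (j k : Fin n) (F : Type) [Field F] : Prop where
  h01 : ∀ t : F, t = 0 ∨ t = 1
  three : ∀ a b : S.X k, ∃ c, c ≠ a ∧ c ≠ b
  jk : j ≠ k
  dec : ∀ b ∈ S.B, ∃ u ∈ S.U, ∃ t ∈ S.T, b = u * t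
  anti : ∀ J K, J ⊆ K → S.Q K ≤ S.Q J
  QU : ∀ J, S.Q J ≤ S.U
  sup : ∀ i, S.X i ⊔ S.Q {i} = S.U
  inf : ∀ i, S.X i ⊓ S.Q {i} = ⊥
  XQ : ∀ J k, k ∉ J → S.X k ≤ S.Q J
  par : ∀ i g, g ∈ S.P {i} ↔ g ∈ S.B ∨ ∃ y ∈ S.X i, ∃ b ∈ S.B, g = y * S.s i * b
  neg : ∀ i, ∀ y ∈ S.X i, (S.s i)⁻¹ * y * S.s i ∈ S.B → y = 1

variable {i j k : Fin n} {F : Type} [Field F] (D : S.Quad i j k F) (hy : Hy S j k F)

omit [Finite G] [IsSimpleGroup G] [Fact p.Prime]

theorem x10 : D.x1 0 = 1 := by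
  have := D.rel.add1 0 0
  rw [add_zero] at this
  exact left_eq_mul.1 this

theorem x30 : D.x3 0 = 1 := by
  have := D.rel.add3 0 0
  rw [add_zero] at this
  exact left_eq_mul.1 this

theorem x1X (s : F) : D.x1 s ∈ S.X j := (D.rel.mem1 _).2 ⟨s, rfl⟩

theorem x3Y (s : F) : D.x3 s ∈ S.Y j k := (D.rel.mem3 _).2 ⟨s, rfl⟩

theorem aY (y : S.X k) : D.a y ∈ S.Y k j := D.rel.mem2 ▸ ⟨y, rfl⟩

theorem Pk_le : S.P {k} ≤ S.P {j, k} := Pmono (by simp)

theorem Pj_le : S.P {j} ≤ S.P {j, k} := Pmono (by simp)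

include hy

theorem RQk : S.Q {j, k} ≤ S.Q {k} := hy.anti _ _ (by simp)

theorem RQj : S.Q {j, k} ≤ S.Q {j} := hy.anti _ _ (by simp)

theorem QP (J K : Finset (Fin n)) : S.Q J ≤ S.P K := (hy.QU J).trans (UB.trans (BP K))

theorem eq1 {g : G} (h : g ∈ S.X j) (h1 : g ≠ 1) : g = D.x1 1 := by
  obtain ⟨t, rfl⟩ := (D.rel.mem1 g).1 h
  rcases hy.h01 t with rfl | rfl
  · exact absurd (x10 D) h1
  · rfl

theorem eq3 {g : G} (h : g ∈ S.Y j k) (h1 : g ≠ 1) : g = D.x3 1 := by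
  obtain ⟨t, rfl⟩ := (D.rel.mem3 g).1 h
  rcases hy.h01 t with rfl | rfl
  · exact absurd (x30 D) h1
  · rfl

omit hy in
theorem x1ne : D.x1 1 ≠ 1 := fun e => one_ne_zero (D.rel.inj1 (e.trans (x10 D).symm))

omit hy in
theorem x3ne : D.x3 1 ≠ 1 := fun e => one_ne_zero (D.rel.inj3 (e.trans (x30 D).symm))

theorem c13 (s t : F) : D.x1 s * D.x3 t = D.x3 t * D.x1 s := by
  have := D.rel.r13 s t
  rw [z_triv D.d hy.h01, map_one, one_mul] at this
  exact mul_inv_eq_iff_eq_mul.1 this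

theorem T1 {t : G} (ht : t ∈ S.T) : t * D.x1 1 * t⁻¹ = D.x1 1 :=
  eq1 D hy (TX ht (x1X D 1)) (by simpa using x1ne D)

theorem s1 : S.s k * D.x1 1 * (S.s k)⁻¹ = D.x3 1 :=
  eq3 D hy (mem_cn.2 (by simpa [mul_assoc] using x1X D 1)) (by simpa using x1ne D)

theorem s3 : S.s k * D.x3 1 * (S.s k)⁻¹ = D.x1 1 := by
  rw [← s1 D hy]
  conv_rhs => rw [← T1 D hy (ssT k)]
  group

theorem T3 {t : G} (ht : t ∈ S.T) : t * D.x3 1 * t⁻¹ = D.x3 1 := by
  have := T1 D hy (NT (inv_mem (sN k)) ht)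
  rw [← s1 D hy]
  conv_rhs => rw [← this]
  group

theorem r3 : (S.s j)⁻¹ * D.x3 1 * S.s j = D.x3 1 :=
  eq3 D hy (mem_cn.1 (D.wj.symm ▸ x3Y D 1)) (by
    have := x3ne D
    simpa [mul_assoc, inv_mul_eq_one, mul_eq_right] using this)

theorem x1Q (s : F) : D.x1 s ∈ S.Q {k} := hy.XQ _ _ (by simpa using hy.jk) (x1X D s)

theorem x3Q (s : F) : D.x3 s ∈ S.Q {k} := by
  rcases hy.h01 s with rfl | rfl
  · rw [x30]; exact one_mem _
  · rw [← s1 D hy]
    exact H4.conj_mem_of_mem_normalizer (PN _ (s_mem.2 (by simp))) (x1Q D hy 1)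

/-- the elements of `U₁ U₂ U₃` -/
def ev (s : F) (y : S.X k) (t : F) : G := D.x1 s * D.a y * D.x3 t

theorem ev_mul (s s' : F) (y y' : S.X k) (t t' : F) :
    ev D s y t * ev D s' y' t' = ev D (s + s') (y * y') (t + t') := by
  unfold ev
  rw [D.rel.add1, D.rel.add3, map_mul]
  calc _ = D.x1 s * D.a y * (D.x3 t * D.x1 s') * D.a y' * D.x3 t' := by group
    _ = D.x1 s * (D.a y * D.x1 s') * (D.x3 t * D.a y') * D.x3 t' := by rw [← c13 D hy]; group
    _ = _ := by rw [← D.rel.c12, ← D.rel.c23]; group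

theorem ev_comm (s s' : F) (y y' : S.X k) (t t' : F) :
    ev D s y t * ev D s' y' t' = ev D s' y' t' * ev D s y t := by
  rw [ev_mul D hy, ev_mul D hy, add_comm s, add_comm t, Ycomm D.d hy.h01]

omit hy in
theorem ev0 : ev D 0 1 0 = 1 := by simp [ev, x10, x30]

omit hy in
theorem ev1 : ev D 1 1 0 = D.x1 1 := by simp [ev, x30]

omit hy in
theorem ev3 (t : F) : ev D 0 1 t = D.x3 t := by simp [ev, x10]

theorem ev_sq (s : F) (y : S.X k) (t : F) : ev D s y t * ev D s y t = 1 := by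
  have h : ∀ s : F, s + s = 0 := fun s => by linear_combination s * two0 hy.h01
  rw [ev_mul D hy, h, h, Ysq D.d hy.h01, ev0]

theorem conj_x1 (y : S.X k) : (y : G) * D.x1 1 * (y : G)⁻¹ = ev D 1 y (D.d.Q y) := by
  have e := D.rel.r14 1 y
  rw [D.d.sm_one, one_mul] at e
  have yy : (y : G) * y = 1 := by rw [← coe_mul, Ysq D.d hy.h01, coe_one]
  have xx : D.x1 1 * D.x1 1 = 1 := by rw [← ev1, ev_sq D hy]
  rw [inv_eq_of_mul_eq_one_right xx] at e
  rw [inv_eq_of_mul_eq_one_right yy]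
  calc _ = D.x1 1 * (D.x1 1 * y * D.x1 1) * y := by rw [← mul_assoc, ← mul_assoc, xx, one_mul]
    _ = D.x1 1 * (D.a y * D.x3 (D.d.Q y)) * (y * y) := by rw [e]; group
    _ = _ := by rw [yy, mul_one, ev, mul_assoc]

theorem aQ (y : S.X k) : D.a y ∈ S.Q {k} := by
  have h : ev D 1 y (D.d.Q y) ∈ S.Q {k} := conj_x1 D hy y ▸
    H4.conj_mem_of_mem_normalizer (PN _ (BP _ (UB (XU k y.2)))) (x1Q D hy 1)
  exact (mul_mem_cancel_left (x1Q D hy 1)).1 ((mul_mem_cancel_right (x3Q D hy _)).1 h)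

theorem evQ (s : F) (y : S.X k) (t : F) : ev D s y t ∈ S.Q {k} :=
  mul_mem (mul_mem (x1Q D hy s) (aQ D hy y)) (x3Q D hy t)

theorem QN {g : G} (h : g ∈ S.Q {k}) : g ∈ normalizer (S.Q {j, k} : Set G) := PN _ (QP hy _ _ h)

theorem memQ {c : G} (hc : c ∈ S.Q {k}) : ∃ s y t, Md (S.Q {j, k}) (ev D s y t) c := by
  obtain ⟨s, y, t, y', ρ, hρ, rfl⟩ := D.nf c (hy.QU _ hc)
  have h : (y' : G) ∈ S.Q {k} :=
    (mul_mem_cancel_left (evQ D hy s y t)).1 ((mul_mem_cancel_right (RQk hy hρ)).1 hc)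
  have h1 : (y' : G) = 1 := mem_bot.1 (hy.inf k ▸ ⟨y'.2, h⟩)
  rw [h1, mul_one]
  exact ⟨s, y, t, Md.right _ hρ⟩

omit hy in
theorem ev_uniq {s t : F} {y : S.X k} (h : ev D s y t ∈ S.Q {j, k}) : s = 0 ∧ y = 1 ∧ t = 0 := by
  have := D.uniq s y t 1 (by simpa [ev] using h)
  exact ⟨this.1, this.2.1, this.2.2.1⟩

theorem Q_Cz (s : F) (y : S.X k) (t : F) : S.Q {k} ≤ Cz (S.Q {j, k}) (ev D s y t) := fun c hc => by
  obtain ⟨s', y', t', h⟩ := memQ D hy hc
  have := mul_mem (mem_Cz (QN hy (evQ D hy s' y' t')) (ev_comm D hy _ _ _ _ _ _))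
    (R_Cz (QN hy (evQ D hy s y t)) h)
  simpa using this

theorem B_Cz : S.B ≤ Cz (S.Q {j, k}) (D.x3 1) := fun b hb => by
  obtain ⟨u, hu, t, ht, rfl⟩ := hy.dec b hb
  refine mul_mem ?_ (mem_Cz (PN _ (BP _ ht.1)) (mul_inv_eq_iff_eq_mul.1 (T3 D hy ht)))
  rw [← hy.sup k] at hu
  have hle : S.X k ⊔ S.Q {k} ≤ Cz (S.Q {j, k}) (D.x3 1) :=
    sup_le (fun y h => mem_Cz (PN _ (BP _ (UB (XU k h)))) (D.rel.c34 1 ⟨y, h⟩).symm)
      (ev3 D (1 : F) ▸ Q_Cz D hy 0 1 1)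
  exact hle hu

/-- the singular points -/
def e : Option (S.X k) → G
  | none => D.x3 1
  | some y => ev D 1 y (D.d.Q y)

theorem eQ (a : Option (S.X k)) : e D a ∈ S.Q {k} := by
  cases a
  · exact x3Q D hy 1
  · exact evQ D hy _ _ _

omit hy in
theorem e_ev (a : Option (S.X k)) : ∃ s y t, e D a = ev D s y t := by
  cases a
  · exact ⟨0, 1, 1, (ev3 D 1).symm⟩
  · exact ⟨_, _, _, rfl⟩

theorem e_sq (a : Option (S.X k)) : e D a * e D a = 1 := by
  obtain ⟨s, y, t, h⟩ := e_ev D a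
  rw [h, ev_sq D hy]

theorem e_comm (a b : Option (S.X k)) : e D a * e D b = e D b * e D a := by
  obtain ⟨s, y, t, h⟩ := e_ev D a
  obtain ⟨s', y', t', h'⟩ := e_ev D b
  rw [h, h', ev_comm D hy]

theorem e_inj {a b : Option (S.X k)} (h : e D a * e D b ∈ S.Q {j, k}) : a = b := by
  rcases a with _ | y <;> rcases b with _ | y'
  · rfl
  · rw [e, e, ← ev3, ev_mul D hy] at h
    simpa using (ev_uniq D h).1
  · rw [e, e, ← ev3, ev_mul D hy] at h
    simpa using (ev_uniq D h).1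
  · rw [e, e, ev_mul D hy] at h
    by_contra hne
    exact mul_ne D.d hy.h01 (fun e => hne (congrArg some e)) (ev_uniq D h).2.1

/-- `P_k` permutes the singular points -/
theorem perm {g : G} (hg : g ∈ S.P {k}) (a : Option (S.X k)) :
    ∃ b, Md (S.Q {j, k}) (e D b) (g * e D a * g⁻¹) := by
  let Z : Submonoid G :=
    { carrier := {g | g ∈ normalizer (S.Q {j, k} : Set G) ∧
        ∀ a, ∃ b, Md (S.Q {j, k}) (e D b) (g * e D a * g⁻¹)}
      one_mem' := ⟨one_mem _, fun a => ⟨a, by simpa using Md.refl _⟩⟩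
      mul_mem' := fun {g h} hg hh => ⟨mul_mem hg.1 hh.1, fun a => by
        obtain ⟨b, hb⟩ := hh.2 a
        obtain ⟨c, hc⟩ := hg.2 b
        refine ⟨c, ?_⟩
        have := hc.trans (hb.conj hg.1)
        convert this using 1
        group⟩ }
  have hX : ∀ y ∈ S.X k, y ∈ Z := fun y h => ⟨PN _ (BP _ (UB (XU k h))), fun a => by
    rcases a with _ | y'
    · exact ⟨none, (B_Cz D hy (UB (XU k h))).2⟩
    · refine ⟨some (⟨y, h⟩ * y'), ?_⟩
      rw [e, e, ← conj_x1 D hy, ← conj_x1 D hy]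
      convert Md.refl _ using 1
      rw [coe_mul]
      group⟩
  have hB : ∀ b ∈ S.B, b ∈ Z := fun b hb => by
    obtain ⟨u, hu, t, ht, rfl⟩ := hy.dec b hb
    refine mul_mem ?_ ⟨PN _ (BP _ ht.1), fun a => ?_⟩
    · rw [← hy.sup k, sup_comm] at hu
      obtain ⟨c, hc, y, h, rfl⟩ := (H4.mem_sup_iff_of_le_normalizer
        ((XU k).trans (UB.trans ((BP _).trans (PN _))))).1 hu
      refine mul_mem ⟨QN hy hc, fun a => ⟨a, ?_⟩⟩ (hX y h)
      obtain ⟨s, y, t, h⟩ := e_ev D a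
      rw [h]
      exact (Q_Cz D hy s y t hc).2
    · rcases a with _ | y'
      · exact ⟨none, (B_Cz D hy ht.1).2⟩
      · refine ⟨some ⟨t * y' * t⁻¹, TX ht y'.2⟩, ?_⟩
        rw [e, e, ← conj_x1 D hy, ← conj_x1 D hy]
        convert Md.refl _ using 1
        conv_rhs => rw [← T1 D hy ht]
        group
  have hs : S.s k ∈ Z := ⟨PN _ (s_mem.2 (by simp)), fun a => by
    rcases a with _ | y
    · refine ⟨some 1, ?_⟩
      rw [e, e, Q1, ev1, s3 D hy]
      exact Md.refl _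
    · by_cases h1 : y = 1
      · refine ⟨none, ?_⟩
        rw [e, e, h1, Q1, ev1, s1 D hy]
        exact Md.refl _
      · have m : S.s k * D.a y * (S.s k)⁻¹ ∈ S.Y k j := by
          rw [← D.wk, mem_cn]
          simpa [mul_assoc] using aY D y
        rw [← D.rel.mem2] at m
        obtain ⟨y', h'⟩ := m
        have h2 : y' ≠ 1 := by
          rintro rfl
          rw [map_one, eq_comm, conj_eq_one_iff] at h'
          exact h1 (D.rel.inj2 (h'.trans (map_one _).symm))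
        refine ⟨some y', ?_⟩
        rw [e, e, Q_one D.d hy.h01 h1, Q_one D.d hy.h01 h2]
        convert Md.refl _ using 1
        calc _ = (S.s k * D.x1 1 * (S.s k)⁻¹) * (S.s k * D.a y * (S.s k)⁻¹) *
              (S.s k * D.x3 1 * (S.s k)⁻¹) := by rw [ev]; group
          _ = ev D 0 1 1 * ev D 0 y' 0 * ev D 1 1 0 := by
            rw [s1 D hy, s3 D hy, ← h', ev3, ev1, ev, x10, x30, one_mul, mul_one]
          _ = _ := by rw [ev_mul D hy, ev_mul D hy]; simp⟩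
  rcases (hy.par k g).1 hg with h | ⟨y, h, b, hb, rfl⟩
  · exact (hB g h).2 a
  · exact (mul_mem (mul_mem (hX y h) hs) (hB b hb)).2 a

theorem hconj (y : S.X k) {b : G} (hb : b ∈ S.B) :
    Md (S.Q {j, k}) (e D (some y)) ((y * S.s k * b) * e D none * (y * S.s k * b)⁻¹) := by
  have h := (B_Cz D hy hb).2.conj (g := y * S.s k)
    (PN _ (mul_mem (BP _ (UB (XU k y.2))) (s_mem.2 (by simp))))
  rw [e, e, ← conj_x1 D hy, ← s3 D hy]
  convert h using 1 <;> group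

/-- every vector is zero, singular or a sum of two singular vectors -/
theorem vec (s : F) (y : S.X k) (t : F) : ev D s y t = 1 ∨ (∃ a, ev D s y t = e D a) ∨
    ∃ a b, a ≠ b ∧ ev D s y t = e D a * e D b := by
  have h2 := two0 hy.h01
  by_cases h1 : y = 1
  · subst h1
    rcases hy.h01 s with rfl | rfl <;> rcases hy.h01 t with rfl | rfl
    · exact .inl (ev0 D)
    · exact .inr (.inl ⟨none, ev3 D 1⟩)
    · exact .inr (.inl ⟨some 1, by rw [e, Q1]⟩)
    · refine .inr (.inr ⟨some 1, none, by simp, ?_⟩)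
      rw [e, e, Q1, ← ev3, ev_mul D hy]
      simp
  · have q := Q_one D.d hy.h01 h1
    rcases hy.h01 s with rfl | rfl <;> rcases hy.h01 t with rfl | rfl
    · obtain ⟨c, c1, c2⟩ := hy.three 1 y
      refine .inr (.inr ⟨some c, some (c * y), by simpa using h1, ?_⟩)
      rw [e, e, Q_one D.d hy.h01 c1, Q_one D.d hy.h01 (mul_ne D.d hy.h01 c2), ev_mul D hy, h2,
        ← mul_assoc, Ysq D.d hy.h01, one_mul]
    · refine .inr (.inr ⟨some 1, some y, by simpa using Ne.symm h1, ?_⟩)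
      rw [e, e, Q1, q, ev_mul D hy, h2, one_mul, zero_add]
    · refine .inr (.inr ⟨some y, none, by simp, ?_⟩)
      rw [e, e, q, ← ev3, ev_mul D hy, h2, add_zero, mul_one]
    · exact .inr (.inl ⟨some y, by rw [e, q]⟩)

/-- irreducibility -/
theorem irr {W : Subgroup G} (h1 : S.Q {j, k} ≤ W) (h2 : W ≤ S.Q {k})
    (h3 : ∀ y : S.X k, ∃ b ∈ S.B, y * S.s k * b ∈ normalizer (W : Set G)) :
    W ≤ S.Q {j, k} ∨ ∀ a, e D a ∈ W := by
  choose b hb hW using h3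
  have hP : ∀ y : S.X k, y * S.s k * b y ∈ S.P {k} := fun y =>
    (hy.par k _).2 (.inr ⟨y, y.2, b y, hb y, rfl⟩)
  -- an element moving `none` to `a`
  have tr : ∀ a, ∃ h ∈ S.P {k}, h ∈ normalizer (W : Set G) ∧
      Md (S.Q {j, k}) (e D a) (h * e D none * h⁻¹) := by
    rintro (_ | y)
    · exact ⟨1, one_mem _, one_mem _, by simpa using Md.refl _⟩
    · exact ⟨_, hP y, hW y, hconj D hy y (hb y)⟩
  have all : (∃ a, e D a ∈ W) → ∀ a, e D a ∈ W := by
    rintro ⟨a, ha⟩ c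
    obtain ⟨h, -, hh, m⟩ := tr a
    obtain ⟨h', -, hh', m'⟩ := tr c
    exact m'.symm.mem h1 (H4.conj_mem_of_mem_normalizer hh'
      ((mem_normalizer_iff.1 hh _).2 (m.mem h1 ha)))
  by_cases hle : W ≤ S.Q {j, k}
  · exact .inl hle
  refine .inr (all ?_)
  obtain ⟨w, hw, hwR⟩ := SetLike.not_le_iff_exists.1 hle
  obtain ⟨s, y, t, m⟩ := memQ D hy (h2 hw)
  have hev := m.symm.mem h1 hw
  rcases vec D hy s y t with h | ⟨a, h⟩ | ⟨a, c, hac, h⟩
  · rw [h] at m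
    exact absurd (by simpa [Md] using m) hwR
  · exact ⟨a, h ▸ hev⟩
  rw [h] at hev
  -- moving an edge
  have mv : ∀ g ∈ S.P {k}, g ∈ normalizer (W : Set G) → ∀ a c a', a ≠ c → e D a * e D c ∈ W →
      Md (S.Q {j, k}) (e D a') (g * e D a * g⁻¹) → ∃ c', c' ≠ a' ∧ e D a' * e D c' ∈ W := by
    intro g hg hgW a c a' hac hw m
    obtain ⟨c', m'⟩ := perm D hy hg c
    have mm := m.mul m' (QN hy (eQ D hy c'))
    rw [conj_mul] at mm
    refine ⟨c', ?_, mm.symm.mem h1 (H4.conj_mem_of_mem_normalizer hgW hw)⟩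
    rintro rfl
    rw [e_sq D hy] at mm
    have : g * (e D a * e D c) * g⁻¹ ∈ S.Q {j, k} := by simpa [Md] using mm
    exact hac (e_inj D hy ((mem_normalizer_iff.1 (PN _ (Pk_le hg)) _).2 this))
  obtain ⟨c0, hc0, hw0⟩ : ∃ c', c' ≠ none ∧ e D none * e D c' ∈ W := by
    obtain ⟨h, hh, hh', m⟩ := tr a
    refine mv h⁻¹ (inv_mem hh) (inv_mem hh') a c none hac hev ?_
    have := (m.conj (inv_mem (PN _ (Pk_le hh)))).symm
    convert this using 1
    group
  have ed : ∀ a, ∃ c', c' ≠ a ∧ e D a * e D c' ∈ W := fun a => by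
    obtain ⟨h, hh, hh', m⟩ := tr a
    exact mv h hh hh' none c0 a hc0.symm hw0 m
  have sy : ∀ {a c}, e D a * e D c ∈ W → e D c * e D a ∈ W := fun h => e_comm D hy _ _ ▸ h
  have tra : ∀ {a c f}, e D a * e D c ∈ W → e D c * e D f ∈ W → e D a * e D f ∈ W := by
    intro a c f h h'
    have := mul_mem h h'
    rwa [mul_assoc, ← mul_assoc (e D c), e_sq D hy, one_mul] at this
  have fin : ∀ y₀ y₁ y₂ : S.X k, y₀ ≠ y₁ → y₀ ≠ y₂ → y₁ ≠ y₂ → e D none * e D (some y₀) ∈ W →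
      e D (some y₁) * e D (some y₂) ∈ W → ∃ a, e D a ∈ W := by
    intro y₀ y₁ y₂ n1 n2 n3 m1 m2
    refine ⟨some (y₀ * y₁ * y₂), ?_⟩
    have := mul_mem m1 m2
    simp only [e] at this ⊢
    rw [← ev3, ev_mul D hy, ev_mul D hy, ev_mul D hy, two0 hy.h01] at this
    rw [Q3 D.d hy.h01 n1 n2 n3]
    convert this using 2
    · simp
    · simp [mul_assoc]
    · ring
  obtain ⟨y₀, rfl⟩ := Option.ne_none_iff_exists'.1 hc0
  obtain ⟨y₁, n1, -⟩ := hy.three y₀ y₀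
  obtain ⟨y₂, n2, n3⟩ := hy.three y₀ y₁
  obtain ⟨c1, hc1, hw1⟩ := ed (some y₁)
  obtain ⟨c2, hc2, hw2⟩ := ed (some y₂)
  have k1 : (∃ a, e D a ∈ W) ∨ e D none * e D (some y₁) ∈ W := by
    rcases c1 with _ | y
    · exact .inr (sy hw1)
    · by_cases h : y = y₀
      · exact .inr (tra hw0 (sy (h ▸ hw1)))
      · exact .inl (fin y₀ y₁ y n1.symm (Ne.symm h) (fun e => hc1 (by rw [e])) hw0 hw1)
  rcases k1 with k1 | k1
  · exact k1
  have k2 : (∃ a, e D a ∈ W) ∨ e D none * e D (some y₂) ∈ W := by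
    rcases c2 with _ | y
    · exact .inr (sy hw2)
    · by_cases h : y = y₀
      · exact .inr (tra hw0 (sy (h ▸ hw2)))
      · exact .inl (fin y₀ y₂ y n2.symm (Ne.symm h) (fun e => hc2 (by rw [e])) hw0 hw2)
  rcases k2 with k2 | k2
  · exact k2
  exact fin y₀ y₁ y₂ n1.symm n2.symm n3.symm hw0 (tra (sy k1) k2)

end Cfsg.Agent.H90.Q24
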