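import Cfsg.Agent.H90.D4Lin

/-! Project D4F, piece AS1: automorphisms of `U C` modulo `J`. -/

set_option autoImplicit false
set_option linter.unusedSectionVars false

namespace Cfsg.Agent.H90.D4As1

open Cfsg.Agent.H96.DF Cfsg.Agent.H90.D4Lin
open scoped commutatorElement

universe u

variable {F K : Type u} [Field F] [Field K] [Algebra F K] [Finite K] {C : Tri F K}

theorem exists_ext (ψ : RingAut F) :
    ∃ φ : RingAut K, ∀ c, φ (algebraMap F K c) = algebraMap F K (ψ c) := by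
  have : Finite F := Finite.of_injective _ (algebraMap F K).injective
  obtain ⟨p, hp⟩ := CharP.exists F
  have : Fact p.Prime := ⟨CharP.char_is_prime F p⟩
  have : CharP K p := charP_of_injective_algebraMap (algebraMap F K).injective p
  let := ZMod.algebra F p
  let := ZMod.algebra K p
  have : IsScalarTower (ZMod p) F K := IsScalarTower.of_algebraMap_eq' (RingHom.ext_zmod _ _)
  let χ : F ≃ₐ[ZMod p] F := AlgEquiv.ofRingEquiv (f := ψ) fun r =>
    RingHom.congr_fun (RingHom.ext_zmod ((ψ : F →+* F).comp (algebraMap _ F)) (algebraMap _ F)) r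
  exact ⟨(χ.liftNormal K).toRingEquiv, fun c => χ.liftNormal_commutes K c⟩

theorem pow_four (h2 : (2 : F) = 0) (g : U C) : g * g * (g * g) = xz C (g.u ^ 2 * C.N g.t) := by
  have k2 : (2 : K) = 0 := by rw [← map_ofNat (algebraMap F K) 2, h2, map_zero]
  have h1 : (g * g).t = 0 := by rw [U.mul_t, ← two_mul, k2, zero_mul]
  have h3 : (g * g).u = 0 := by rw [U.mul_u, ← two_mul, h2, zero_mul]
  have h4 : (g * g).y = g.u • g.t := by rw [U.mul_y, ← two_mul, k2, zero_mul, zero_add]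
  have h5 : (g * g).x = C.cr g.t g.y + g.u • C.sh g.t := by
    rw [U.mul_x, ← two_mul, k2, zero_mul, zero_add]
  generalize g * g = k at h1 h3 h4 h5
  apply U.ext' <;> simp only [xz] <;> d4u <;> simp only [h1, h3, h4, h5] <;> (try d4n)
  · ring
  · ring
  · linear_combination algebraMap F K g.u * g.t * k2
  · linear_combination (C.σ g.t * C.σ (C.σ g.y) + C.σ (C.σ g.t) * C.σ g.y +
      algebraMap F K g.u * (C.σ g.t * C.σ (C.σ g.t))) * k2
  · linear_combination algebraMap F K k.a * k2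
  · linear_combination (algebraMap F K k.z - 2 * algebraMap F K g.u ^ 2 * (g.t * C.σ g.t * C.σ (C.σ g.t)) -
      algebraMap F K g.u * (g.t * C.σ g.t * C.σ (C.σ g.y) + g.t * C.σ (C.σ g.t) * C.σ g.y +
        C.σ g.t * C.σ (C.σ g.t) * g.y)) * k2

variable (h : ChS C) (β : MulAut (U C)) {g k : U C}
include h

theorem t_eq (e : g.t = k.t) : (β g).t = (β k).t := by
  have := mem_Q.1 (h.q β (k⁻¹ * g) (by simp [mem_Q, e]))
  rw [map_mul, map_inv, U.mul_t, U.inv_t] at this
  linear_combination this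

theorem u_eq (e : g.u = k.u) : (β g).u = (β k).u := by
  have := mem_E.1 (h.e β (k⁻¹ * g) (by simp [mem_E, e]))
  rw [map_mul, map_inv, U.mul_u, U.inv_u] at this
  linear_combination this

theorem y_eq (hg : g ∈ J C) (hk : k ∈ J C) (e : g.y = k.y) : (β g).y = (β k).y := by
  have := (mem_Y.1 (h.y β (k⁻¹ * g) (by simp [mem_Y, e, (mem_J.1 hg).1, (mem_J.1 hg).2,
    (mem_J.1 hk).1, (mem_J.1 hk).2]))).2.2
  have h1 := mem_J.1 (h.j β k hk)
  simp only [map_mul, map_inv, U.mul_y, U.inv_y, U.inv_t, h1.1, neg_zero, smul_zero] at this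
  linear_combination this

theorem x_eq (hg : g ∈ Y C) (hk : k ∈ Y C) (e : g.x = k.x) : (β g).x = (β k).x := by
  obtain ⟨g1, g2, g3⟩ := mem_Y.1 hg
  obtain ⟨k1, k2, k3⟩ := mem_Y.1 hk
  have := (mem_W.1 (h.w β (k⁻¹ * g) (by simp [mem_W, *]))).2.2.2
  have h1 := mem_Y.1 (h.y β k hk)
  simp only [map_mul, map_inv, U.mul_x, U.inv_x, U.inv_t, h1.1, neg_zero, smul_zero, Tri.zero_cr,
    Tri.sh_zero] at this
  linear_combination this

theorem a_eq (hg : g ∈ W C) (hk : k ∈ W C) (e : g.a = k.a) : (β g).a = (β k).a := by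
  obtain ⟨g1, g2, g3, g4⟩ := mem_W.1 hg
  obtain ⟨k1, k2, k3, k4⟩ := mem_W.1 hk
  have := (mem_Z.1 (h.z β (k⁻¹ * g) (by simp [mem_Z, *]))).2.2.2.2
  have h1 := mem_W.1 (h.w β k hk)
  simp only [map_mul, map_inv, U.mul_a, U.inv_a, U.inv_t, h1.1, neg_zero, zero_mul, map_zero,
    Tri.sh_zero, Tri.N_zero] at this
  linear_combination this

theorem t_add (s t : K) : (β (xt C (s + t))).t = (β (xt C s)).t + (β (xt C t)).t := by
  rw [← U.mul_t, ← map_mul]; exact t_eq h β rfl

theorem u_add (s t : F) : (β (xu C (s + t))).u = (β (xu C s)).u + (β (xu C t)).u := by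
  rw [← U.mul_u, ← map_mul]; exact u_eq h β rfl

theorem t_zero {t : K} (e : (β (xt C t)).t = 0) : t = 0 := by
  simpa [mem_Q, xt] using h.q β⁻¹ _ e

theorem u_zero {u : F} (e : (β (xu C u)).u = 0) : u = 0 := by
  simpa [mem_E, xu] using h.e β⁻¹ _ e

theorem y_smul (u : F) (t : K) : (β (xy C (u • t))).y = (β (xu C u)).u • (β (xt C t)).t := by
  rw [y_eq h β (k := ⁅xt C t, xu C u⁆) ⟨rfl, rfl⟩ ⟨comm_t _ _, comm_u _ _⟩ (by simp [comm_y, xt, xu, xy]),
    map_commutatorElement, comm_y, mem_E.1 (h.e β (xt C t) rfl), zero_smul, sub_zero]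

theorem core (hq : 2 < Nat.card F) (hu : ∀ g, (β g).u = g.u) (h1 : (β (xt C 1)).t = 1) :
    ∃ θ : K ≃ₐ[F] K, ∀ g, (β g).t = θ g.t := by
  have : Finite F := Finite.of_injective _ (algebraMap F K).injective
  have y1 : ∀ t, (β (xy C t)).y = (β (xt C t)).t := fun t => by
    have := y_smul h β 1 t
    rwa [hu, one_smul, show (xu C 1).u = 1 from rfl, one_smul] at this
  let A : K →ₗ[F] K :=
    { toFun := fun t => (β (xt C t)).t
      map_add' := t_add h β
      map_smul' := fun u t => by rw [← y1, y_smul h, hu]; rfl }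
  have hA : ∀ g, (β g).t = A g.t := fun g => t_eq h β rfl
  suffices hN : ∀ t, C.N (A t) = C.N t by
    obtain ⟨θ, e⟩ := gal hq A h1 hN
    exact ⟨θ, fun g => (hA g).trans (e _)⟩
  by_cases h2 : (2 : F) = 0
  · have k : ∀ (t : K) (u : F), (β (xz C (u ^ 2 * C.N t))).z = u ^ 2 * C.N (A t) := fun t u => by
      have e := pow_four h2 (⟨t, u, 0, 0, 0, 0⟩ : U C)
      rw [← e, map_mul, map_mul, pow_four h2, hu, hA]
      rfl
    intro t
    obtain ⟨s, hs⟩ := Finite.surjective_of_injective (f := fun s : F => s ^ 2) (fun a b e => by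
      have : (a - b) ^ 2 = 0 := by linear_combination e + (b ^ 2 - a * b) * h2
      exact sub_eq_zero.1 (pow_eq_zero_iff two_ne_zero |>.1 this)) (C.N t)
    have k1 := k t 1
    have k2 := k 1 s
    rw [show A 1 = 1 from h1, C.N_one, mul_one, show s ^ 2 = C.N t from hs] at k2
    rw [one_pow, one_mul, one_mul, k2] at k1
    exact k1.symm
  have iA : Function.Bijective A := Finite.injective_iff_bijective.1
    ((injective_iff_map_eq_zero A).2 fun t => t_zero h β)
  have a1 : ∀ t x, (β (xa C (C.T (t * x)))).a = C.T (A t * (β (xx C x)).x) := fun t x => by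
    obtain ⟨e1, e2, e3⟩ := mem_Y.1 (h.y β (xx C x) ⟨rfl, rfl, rfl⟩)
    rw [a_eq h β (k := ⁅xt C t, xx C x⁆) ⟨rfl, rfl, rfl, rfl⟩
      ⟨comm_t _ _, comm_u _ _, by simp [comm_y, xt, xx], by simp [comm_x, xt, xx]⟩
      (by simp [comm_a, xt, xx, xa]), map_commutatorElement, comm_a, e1, e2, e3, hA]
    simp [xt]
  let B : K →ₗ[F] K :=
    { toFun := fun x => (β (xx C x)).x
      map_add' := fun s t => by
        obtain ⟨e1, -, -⟩ := mem_Y.1 (h.y β (xx C s) ⟨rfl, rfl, rfl⟩)
        rw [x_eq h β (k := xx C s * xx C t) ⟨rfl, rfl, rfl⟩ (mul_mem ⟨rfl, rfl, rfl⟩ ⟨rfl, rfl, rfl⟩)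
          (by simp [xx]), map_mul, U.mul_x, e1]
        simp
      map_smul' := fun u x => sub_eq_zero.1 (C.T_nd fun b => by
        obtain ⟨t, rfl⟩ := iA.2 b
        rw [sub_mul, map_sub, mul_comm, ← a1, mul_smul_comm, ← smul_mul_assoc, a1, map_smul,
          RingHom.id_apply, smul_mul_assoc, smul_mul_assoc, mul_comm, sub_self]) }
  have iB : Function.Bijective B := Finite.injective_iff_bijective.1
    ((injective_iff_map_eq_zero B).2 fun x e => by
      obtain ⟨e1, e2, e3⟩ := mem_Y.1 (h.y β (xx C x) ⟨rfl, rfl, rfl⟩)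
      simpa [xx] using (mem_W.1 (h.w β⁻¹ _ ⟨e1, e2, e3, e⟩)).2.2.2)
  obtain ⟨m, hm⟩ := nrm (C := C) h2 (LinearEquiv.ofBijective A iA) (LinearEquiv.ofBijective B iB)
    fun t => by
      obtain ⟨e1, e2⟩ := mem_J.1 (h.j β (xy C t) ⟨rfl, rfl⟩)
      have e : B (C.cr t t) = C.cr (A t) (A t) := by
        change (β (xx C _)).x = _
        rw [x_eq h β (k := ⁅xt C t, xy C t⁆) ⟨rfl, rfl, rfl⟩
          ⟨comm_t _ _, comm_u _ _, by simp [comm_y, xt, xy]⟩ (by simp [comm_x, xt, xx, xy]),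
          map_commutatorElement, comm_x, e1, e2, y1, hA]
        simp [xt]
      have k2 : ∀ a : K, 2 * a = (2 : F) • a := fun a => by rw [two_smul, two_mul]
      rw [C.cr_self, C.cr_self, k2, k2, map_smul] at e
      exact smul_right_injective K h2 e
  have m1 : m = 1 := by
    have := hm 1
    rw [LinearEquiv.ofBijective_apply, show A 1 = 1 from h1, C.N_one, mul_one] at this
    exact this.symm
  exact fun t => by simpa [m1] using hm t

omit β in
/-- **AS1** -/
theorem as1 : AS1Stmt C := fun hq β => by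
  have : Finite F := Finite.of_injective _ (algebraMap F K).injective
  have m0 : (β (xu C 1)).u ≠ 0 := fun e => one_ne_zero (u_zero h β e)
  have l0 : (β (xt C 1)).t ≠ 0 := fun e => one_ne_zero (t_zero h β e)
  have sm : ∀ (u : F) (t : K), (β (xt C (u • t))).t =
      ((β (xu C u)).u / (β (xu C 1)).u) • (β (xt C t)).t := fun u t => by
    rw [div_eq_inv_mul, mul_smul, ← y_smul h, ← one_smul F (u • t), y_smul h, one_smul,
      inv_smul_smul₀ m0]
  let ψ : F →+* F :=
    { toFun := fun u => (β (xu C u)).u / (β (xu C 1)).u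
      map_one' := div_self m0
      map_mul' := fun a b => smul_left_injective F l0 (by
        simp only
        rw [← sm, mul_smul, sm, sm, mul_smul])
      map_zero' := by rw [mem_E.1 (h.e β (xu C 0) rfl), zero_div]
      map_add' := fun a b => by rw [u_add h, add_div] }
  obtain ⟨φ, hφ⟩ := exists_ext (K := K)
    (RingEquiv.ofBijective ψ (Finite.injective_iff_bijective.1 ψ.injective))
  have e1 : ∀ u, (β (xu C 1)).u * fF C φ u = (β (xu C u)).u := fun u => by
    rw [Tri.inj ((alg_fF C φ u).trans (hφ u))]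
    exact mul_div_cancel₀ _ m0
  obtain ⟨c, hc⟩ : ∃ c : Kˣ × Fˣ, c = (Units.mk0 _ l0, Units.mk0 _ m0) := ⟨_, rfl⟩
  obtain ⟨γ, rfl⟩ : ∃ γ, β = tor C c * fld C φ * γ := ⟨_, (mul_inv_cancel_left _ _).symm⟩
  have c1 : (c.1 : K) = c.1 * φ (γ (xt C 1)).t := congrArg (fun d : Kˣ × Fˣ => (d.1 : K)) hc
  have c2 : (c.2 : F) = c.2 * fF C φ (γ (xu C 1)).u := congrArg (fun d : Kˣ × Fˣ => (d.2 : F)) hc
  obtain ⟨θ, hθ⟩ := core h γ hq (fun g => by
    have e := e1 g.u
    change c.2 * fF C φ (γ (xu C 1)).u * _ = c.2 * fF C φ (γ (xu C g.u)).u at e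
    rw [← c2] at e
    rw [u_eq h γ (g := g) (k := xu C g.u) rfl]
    exact (fF C φ).injective (mul_left_cancel₀ c.2.ne_zero e).symm)
    (φ.injective (by rw [map_one]; exact (mul_eq_left₀ c.1.ne_zero).1 c1.symm))
  refine ⟨c, φ * θ.toRingEquiv, fun g => ⟨?_, ?_⟩⟩
  · change -(c.1 * φ (θ g.t)) + c.1 * φ (γ g).t = 0
    rw [hθ, neg_add_cancel]
  · have e := e1 g.u
    rw [← u_eq h _ (g := g) (k := xu C g.u) rfl] at e
    change -(c.2 * fF C (φ * θ.toRingEquiv) g.u) + _ = 0
    rw [← e]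
    change _ + c.2 * fF C φ (γ (xu C 1)).u * _ = 0
    rw [← c2, show fF C (φ * θ.toRingEquiv) g.u = fF C φ g.u from Tri.inj (K := K) (by
      rw [alg_fF, alg_fF]; exact congrArg φ (θ.commutes _)), neg_add_cancel]

end Cfsg.Agent.H90.D4As1
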