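import Cfsg.Agent.H96.D4Defs

/-! Project D4F, piece LIN: linear maps preserving the norm of a cubic extension. -/

set_option autoImplicit false
set_option linter.unusedSectionVars false

namespace Cfsg.Agent.H90.D4Lin

open Cfsg.Agent.H96.DF

universe u

variable {F K : Type u} [Field F] [Field K] [Algebra F K] {C : Tri F K}

theorem two_cover {a b : K →ₗ[F] K} (h : ∀ t, a t = 0 ∨ b t = 0) : a = 0 ∨ b = 0 := by
  by_contra! k
  obtain ⟨t, ht⟩ := DFunLike.ne_iff.1 k.1
  obtain ⟨s, hs⟩ := DFunLike.ne_iff.1 k.2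
  have h1 := (h t).resolve_left ht
  have h2 := (h s).resolve_right hs
  rcases h (t + s) with e | e
  · exact ht (by simpa [h2] using e)
  · exact hs (by simpa [h1] using e)

theorem three_cover {c : F} (c0 : c ≠ 0) (c1 : c ≠ 1) {a b d : K →ₗ[F] K}
    (h : ∀ t, a t = 0 ∨ b t = 0 ∨ d t = 0) : a = 0 ∨ b = 0 ∨ d = 0 := by
  by_contra! k
  obtain ⟨t, t1, t2⟩ : ∃ t, b t ≠ 0 ∧ d t ≠ 0 := by
    by_contra! e
    exact (two_cover fun t => or_iff_not_imp_left.2 (e t)).elim k.2.1 k.2.2
  obtain ⟨s, s1, s2⟩ : ∃ s, a s ≠ 0 ∧ d s ≠ 0 := by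
    by_contra! e
    exact (two_cover fun t => or_iff_not_imp_left.2 (e t)).elim k.1 k.2.2
  have h1 : a t = 0 := by simpa [t1, t2] using h t
  have h2 : b s = 0 := by simpa [s1, s2] using h s
  have h3 : d t + d s = 0 := by simpa [h1, h2, s1, t1] using h (t + s)
  have h4 : d t + c • d s = 0 := by simpa [h1, h2, s1, t1, c0] using h (t + c • s)
  have h5 : (c - 1) • d s = 0 := by
    rw [sub_smul, one_smul]; linear_combination h4 - h3
  exact s2 ((smul_eq_zero.1 h5).resolve_left (sub_ne_zero.2 c1))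

theorem exists_ne (h : 2 < Nat.card F) : ∃ c : F, c ≠ 0 ∧ c ≠ 1 := by
  by_contra! k
  have : Nat.card F ≤ Nat.card Bool := Nat.card_le_card_of_surjective
    (fun b : Bool => if b then (1 : F) else 0) fun c => by
      by_cases e : c = 0
      · exact ⟨false, e.symm⟩
      · exact ⟨true, (k c e).symm⟩
  simp at this
  omega

theorem N_sub (t : K) (c : F) :
    C.N (t - c • 1) = C.N t - C.T (C.sh t) * c + C.T t * c ^ 2 - c ^ 3 :=
  Tri.inj (K := K) (by d4n; ring)

theorem gal (h : 2 < Nat.card F) (A : K →ₗ[F] K) (h1 : A 1 = 1) (hN : ∀ t, C.N (A t) = C.N t) :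
    ∃ θ : K ≃ₐ[F] K, ∀ t, A t = θ t := by
  obtain ⟨c, c0, c1⟩ := exists_ne h
  have key : ∀ t, (A - (1 : K ≃ₐ[F] K).toLinearMap) t = 0 ∨ (A - C.σ.toLinearMap) t = 0 ∨
      (A - (C.σ * C.σ).toLinearMap) t = 0 := fun t => by
    have e : ∀ u : F, (C.T (A t) - C.T t) * u ^ 2 = (C.T (C.sh (A t)) - C.T (C.sh t)) * u := fun u => by
      have := hN (t - u • 1)
      rw [map_sub, map_smul, h1, N_sub, N_sub, hN] at this
      linear_combination this
    have e1 : C.T (A t) = C.T t := by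
      have : (C.T (A t) - C.T t) * (c * (c - 1)) = 0 := by linear_combination e c - c * e 1
      exact sub_eq_zero.1 ((mul_eq_zero.1 this).resolve_right (mul_ne_zero c0 (sub_ne_zero.2 c1)))
    have e2 : C.T (C.sh (A t)) = C.T (C.sh t) := by linear_combination e1 - e 1
    have k1 := congrArg (algebraMap F K) e1
    have k2 := congrArg (algebraMap F K) e2
    have k3 := congrArg (algebraMap F K) (hN t)
    simp only [Tri.sh, map_mul, Tri.hT, Tri.hN, Tri.σ3] at k1 k2 k3
    have : (A t - t) * ((A t - C.σ t) * (A t - C.σ (C.σ t))) = 0 := by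
      linear_combination A t ^ 2 * k1 - A t * k2 + k3
    simpa using this
  rcases three_cover c0 c1 key with e | e | e
  all_goals exact ⟨_, fun t => LinearMap.congr_fun (sub_eq_zero.1 e) t⟩

theorem indep {f : K} (hf : C.σ f ≠ f) {a b d : F} (h : a • (1 : K) + b • C.cr 1 f + d • C.sh f = 0) :
    a = 0 ∧ d = 0 := by
  have h1 := congrArg C.σ h
  have h2 := congrArg C.σ h1
  simp only [Tri.sh, Tri.cr, Algebra.smul_def, map_add, map_mul, map_zero, map_one, Tri.σ3,
    AlgEquiv.commutes] at h h1 h2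
  have n1 : C.σ f - f ≠ 0 := sub_ne_zero.2 hf
  have n2 : C.σ (C.σ f) - C.σ f ≠ 0 := sub_ne_zero.2 fun e => hf (C.σ.injective e)
  have n3 : C.σ (C.σ f) - f ≠ 0 := sub_ne_zero.2 fun e => hf (by
    have := congrArg C.σ e
    rw [C.σ3] at this
    exact this.symm)
  have k1 : algebraMap F K b + algebraMap F K d * C.σ (C.σ f) = 0 :=
    mul_left_cancel₀ n1 (by linear_combination h - h1)
  have k2 : algebraMap F K b + algebraMap F K d * f = 0 :=
    mul_left_cancel₀ n2 (by linear_combination h1 - h2)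
  have k3 : algebraMap F K d = 0 := mul_left_cancel₀ n3 (by linear_combination k1 - k2)
  have k4 : algebraMap F K a = 0 := by
    linear_combination h - (C.σ f + C.σ (C.σ f)) * k2 + ((C.σ f + C.σ (C.σ f)) * f -
      C.σ f * C.σ (C.σ f)) * k3
  exact ⟨by simpa using k4, by simpa using k3⟩

theorem nrm (h2 : (2 : F) ≠ 0) (A B : K ≃ₗ[F] K) (h : ∀ t, B (C.sh t) = C.sh (A t)) :
    ∃ m : F, ∀ t, C.N (A t) = m * C.N t := by
  obtain ⟨n, hn⟩ : ∃ n : K → F, ∀ x, n x = C.N (A (C.sh x)) / C.N x ^ 2 := ⟨_, fun _ => rfl⟩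
  have k1 : ∀ x, C.sh (B x) = A (n x • C.sh x) := fun x => by
    by_cases x0 : x = 0
    · simp [x0]
    have e := congrArg C.sh (h (C.sh x))
    rw [C.sh_sh, map_smul, C.sh_smul, C.sh_sh] at e
    have : C.N x ^ 2 ≠ 0 := by simpa using x0
    rw [map_smul, hn, div_eq_inv_mul, mul_smul, ← e, smul_smul, inv_mul_cancel₀ this, one_smul]
  have k2 : ∀ x, x ≠ 0 → n x = n 1 := fun x x0 => by
    by_cases hx : C.σ x = x
    · obtain ⟨c, rfl⟩ := C.fix x hx
      have c0 : c ≠ 0 := by simpa using x0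
      rw [hn, hn, Algebra.algebraMap_eq_smul_one, C.sh_smul, map_smul, C.N_smul, C.N_smul, C.N_one]
      field_simp
    have e : C.sh (B (1 + x)) + C.sh (B (1 - x)) = (2 : F) • C.sh (B 1) + (2 : F) • C.sh (B x) := by
      d4n; ring
    rw [k1, k1, k1, k1, ← map_add, ← map_smul, ← map_smul, ← map_add, A.injective.eq_iff] at e
    obtain ⟨e1, e2⟩ := indep hx (a := n (1 + x) + n (1 - x) - 2 * n 1) (b := n (1 + x) - n (1 - x))
      (d := n (1 + x) + n (1 - x) - 2 * n x) (by
        revert e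
        generalize n (1 + x) = r, n (1 - x) = s, n 1 = v, n x = w
        d4n
        intro e
        linear_combination e)
    exact mul_left_cancel₀ h2 (by linear_combination e1 - e2)
  refine ⟨n 1, fun t => ?_⟩
  by_cases t0 : t = 0
  · simp [t0]
  have e := k2 (C.sh t) (by simpa using t0)
  have : C.N t ≠ 0 := by simpa using t0
  rw [← e, hn, C.sh_sh, map_smul, C.N_smul, C.N_sh]
  field_simp

/-- **LIN** -/
theorem lin : Lin C := ⟨gal, fun h2 A B _ _ h => nrm h2 A B h⟩

end Cfsg.Agent.H90.D4Lin
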