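import Mathlib
import Cfsg.Agent.H82.HnDefs

/-! The group of order `32` of project HEN as an explicit model (elements `r ^ i * s ^ j * d ^ k`
coded as `i + 8 * j + 16 * k`), and the finite checks on it. -/

set_option autoImplicit false

namespace Cfsg.Agent.H90.U32

/-- The carrier. -/
def M : Type := Fin 32

instance : DecidableEq M := inferInstanceAs (DecidableEq (Fin 32))
instance : Fintype M := inferInstanceAs (Fintype (Fin 32))
instance decA (p : M → Prop) [h : DecidablePred p] : Decidable (∀ x, p x) :=
  @Nat.decidableForallFin 32 p h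
instance decE (p : M → Prop) [h : DecidablePred p] : Decidable (∃ x, p x) :=
  @Nat.decidableExistsFin 32 p h

/-- multiplication table -/
def tb : ℕ := 92947876060760820653699253801207976808913472479043464014508958254549619466377822450997830554847857941785187908250406435749142394444469007200620543048674172650650193607845937815900710356029391688587408087864578281265310765013054640748584499588538503415232053992110768635861121670212870991981943957634907056125601047564012239429366994436260754133580965471402298497069441340328535697408415180559761156856375935536369133931851224374827189021793474174828584643461516840592487073207397503635244233873633420218813138404766144950069432556365528965412604359624194442422401724922981876959716954175760900635729612979359915269729391781939813231226048152035057656448397033514940419085536709715729538824236201066452229205071553434768815428119209654910258996788748578018555397530714685153129188477952483454366478395553037079904357463647975927591770380106163388087092044821322317660470130313190270813716423632771462302199563410088934402517542412155924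9801008271601278432912125386778610065930968696134901025449913994696436030118409835213248579716001031599154867161356441275676853535345388772301018668241150571459427873411761650087904201308443509299804058795480832733533184576061652884036566624265568428192054990177887898975025027178926121954142020976534316824564235027372803596044583328239796183597205439113090162319768714748715219072825770330238316482425842465909164685701276607367694398116162129487600169665391327358617373410987790177492429717361132436553998483659453882651769344258912732477204131374482454650262821913367161437914540101533827591796000800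

/-- inverse table -/
def ti : ℕ := 1454266263465221251033492225889189794216071567584

/-- the element with a given code -/
def mk (n : ℕ) : M := (⟨n % 32, Nat.mod_lt _ (by decide)⟩ : Fin 32)

/-- the code of an element -/
def vl (x : M) : ℕ := Fin.val (n := 32) x

instance : Mul M := ⟨fun x y => mk (tb >>> (5 * (32 * vl x + vl y)))⟩
instance : One M := ⟨mk 0⟩
instance : Inv M := ⟨fun x => mk (ti >>> (5 * vl x))⟩

theorem asc : ∀ x y w : M, x * y * w = x * (y * w) := by decide +kernel
theorem onm : ∀ x : M, 1 * x = x := by decide +kernel
theorem inm : ∀ x : M, x⁻¹ * x = 1 := by decide +kernel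

instance : Group M := Group.ofLeftAxioms asc onm inm

theorem card_M : Nat.card M = 32 := Nat.card_fin 32

def cI (x : M) : ℕ := vl x % 8
def cJ (x : M) : ℕ := vl x / 8 % 2
def cK (x : M) : ℕ := vl x / 16

theorem crd : ∀ x y : M, cI (x * y) = (cI x + (1 + 6 * cJ x + 4 * cK x) * cI y + 4 * cK x * cJ y) % 8 ∧
    cJ (x * y) = (cJ x + cJ y) % 2 ∧ cK (x * y) = (cK x + cK y) % 2 := by decide +kernel

theorem crd2 : ∀ x : M, cJ x < 2 ∧ cK x < 2 := by decide +kernel

def r : M := mk 1
def s : M := mk 8
def d : M := mk 16
def v : M := mk 9
def c : M := mk 2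
def z : M := mk 4

/-- the subgroup given by a Boolean predicate -/
def sub (p : M → Bool) (h : p 1 = true ∧ (∀ x, p x = true → ∀ y, p y = true → p (x * y) = true) ∧
    ∀ x, p x = true → p x⁻¹ = true) : Subgroup M where
  carrier := {x | p x = true}
  one_mem' := h.1
  mul_mem' hx hy := h.2.1 _ hx _ hy
  inv_mem' hx := h.2.2 _ hx

def pB (x : M) : Bool := (cI x + cJ x) % 2 == 0
def pV (x : M) : Bool := cI x % 4 == cJ x
def pW (x : M) : Bool := (cI x + cJ x) % 4 == 0
def pZ (x : M) : Bool := cI x % 4 == 0 && cJ x == 0
def pQ (x : M) : Bool := cI x % 2 == 0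

def B : Subgroup M := sub pB (by decide +kernel)
def V : Subgroup M := sub pV (by decide +kernel)
def W : Subgroup M := sub pW (by decide +kernel)
def Z : Subgroup M := sub pZ (by decide +kernel)
def Q : Subgroup M := sub pQ (by decide +kernel)

instance (x : M) : Decidable (x ∈ B) := inferInstanceAs (Decidable (pB x = true))
instance (x : M) : Decidable (x ∈ V) := inferInstanceAs (Decidable (pV x = true))
instance (x : M) : Decidable (x ∈ W) := inferInstanceAs (Decidable (pW x = true))
instance (x : M) : Decidable (x ∈ Z) := inferInstanceAs (Decidable (pZ x = true))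
instance (x : M) : Decidable (x ∈ Q) := inferInstanceAs (Decidable (pQ x = true))

/-- the map with prescribed values on three generators -/
def ap (q : ℕ) (a b e x : M) : M := a ^ (cI x / q) * b ^ cJ x * e ^ cK x

theorem apS : ∀ x : M, x = ap 1 r s d x := by decide +kernel
theorem apB : ∀ x ∈ B, x = ap 2 c v d x := by decide +kernel
theorem apV : ∀ x ∈ V, x = ap 4 z v d x := by decide +kernel
theorem apQ : ∀ x ∈ Q, x = ap 2 c s d x := by decide +kernel

theorem two : ∀ x : M, x ^ 2 ^ 3 = 1 := by decide +kernel

theorem autS : ∀ a : M, a ^ 4 ≠ 1 → ∀ b : M, b * b = 1 → b * a * b * a = 1 → ∀ e : M, e * e = 1 →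
    e * a * e = a ^ 5 → b * e * b * e = a ^ 4 → ∀ x, (ap 1 a b e)^[2 ^ 2] x = x := by decide +kernel

theorem autB : ∀ a ∈ B, a * a ≠ 1 → ∀ b ∈ B, b * b = 1 → b * a * b * a = 1 → ∀ e ∈ B, e * e = 1 →
    e * a = a * e → e * b = b * e → e ≠ 1 → e ≠ a * a →
    ∀ x ∈ B, (ap 2 a b e)^[2 ^ 2] x = x := by decide +kernel

/-- the automorphism of order `3` of `V` -/
def rho (x : M) : M := ap 4 v (v * z) d x

/-- the subgroup of order `6` of `Aut V` -/
def hh (i : Fin 3) (j : Fin 2) (x : M) : M := rho^[i] (c ^ (j : ℕ) * x * (c ^ (j : ℕ))⁻¹)

theorem autV : ∀ a ∈ V, ∀ b ∈ V, ∀ e ∈ V, (∀ x ∈ V, ap 4 a b e x = 1 → x = 1) →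
    ∃ i j, (∀ x ∈ V, ap 4 a b e x = hh i j x) ∨
      ((∀ x ∈ V, (fun y => hh i j (ap 4 a b e y))^[2 ^ 2] x = x) ∧
        ∃ x ∈ V, hh i j (ap 4 a b e (hh i j (ap 4 a b e x))) ≠ x) := by decide +kernel

/-- an automorphism of order `3` of `Q` -/
def sg (x : M) : M := ap 2 (mk 24) (mk 16) (mk 10) x

/-- the central automorphism of `Q` -/
def io (x : M) : M := ap 2 c (s * z) (d * z) x

set_option synthInstance.maxSize 2000 in
theorem autQ : ∀ a ∈ Q, a * a ≠ 1 → ∀ b ∈ Q, b * b = 1 → b * a * b * a = 1 → ∀ e ∈ Q, e * e = 1 →
    e * a = a * e → b * e * b * e = a * a →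
    ∃ g : M, (∃ n : Fin 3, ∀ x ∈ Q, ap 2 a b e x = g * sg^[n] x * g⁻¹) ∨
      ∀ x ∈ Q, (fun y => g * ap 2 a b e y * g⁻¹)^[3] x = io x := by decide +kernel

theorem sq_fix : ∀ g x : M, x * x = 1 → x * (g * x * g⁻¹) = g * x * g⁻¹ * x →
    g * (g * x * g⁻¹) * g⁻¹ = x := by decide +kernel

theorem cent_comm : ∀ a b : M, a * b ≠ b * a → ∀ j : M, j * a = a * j → j * b = b * j →
    ∀ g : M, g * a * g⁻¹ = a → g * b * g⁻¹ = b → g * j * g⁻¹ = j := by decide +kernel

theorem jt : ∀ y : M, y ∉ B → y * y = 1 → y ∈ Q ∧ ∀ x : M,
    (x ∈ B → ((∃ w ∈ Z, x * w * y = y * (x * w)) ↔ x ∈ Q)) ∧ (x ∉ B → x * y ∈ B) := by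
  decide +kernel

end Cfsg.Agent.H90.U32
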