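import Cfsg.Agent.H76.K4Defs
import Cfsg.Agent.H8.K4Ar

/-! The arithmetic of four squares from the lattice bound. -/

set_option autoImplicit false

namespace Cfsg.Agent.H90.K4Ar4

open Cfsg.Agent.H76.K4

theorem ar4 : Ar4Stmt := by
  rintro p n hp ⟨x, y, z, mx, my, mz, hq, hm, H, -⟩
  have h1 : p ^ n ≠ 1 := fun e => by
    rw [e] at hq
    have hx : x = 0 := by push_cast at hq; nlinarith [sq_nonneg x, sq_nonneg y, sq_nonneg z]
    have hy : y = 0 := by push_cast at hq; nlinarith [sq_nonneg x, sq_nonneg y, sq_nonneg z]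
    have hz : z = 0 := by push_cast at hq; nlinarith [sq_nonneg x, sq_nonneg y, sq_nonneg z]
    subst hx hy hz
    simp at hm
  by_cases p2 : p = 2
  · subst p2
    have h8 := Cfsg.Agent.H8.K4Ar.not_eight _ x y z hq
    have n3 : n < 3 := by
      by_contra! c
      exact h8 (Int.natCast_dvd_natCast.2 (pow_dvd_pow 2 c : 2 ^ 3 ∣ 2 ^ n))
    interval_cases n <;> simp at h1 ⊢
  · have ho : (p ^ n) % 2 = 1 := Nat.odd_iff.1 ((hp.odd_of_ne_two p2).pow)
    have q0 : (0 : ℤ) ≤ ((p ^ n : ℕ) : ℤ) := Int.natCast_nonneg _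
    have := Cfsg.Agent.H8.K4Ar.ar ((p ^ n : ℕ) : ℤ) x y z hq (by omega) (by
      rintro a b c d ⟨k1, e1⟩ ⟨k2, e2⟩ ⟨k3, e3⟩
      have h := H (-k1) (-k2) (-k3)
      generalize ((p ^ n : ℕ) : ℤ) = q at *
      obtain rfl : b = a * x + q * k1 := by linarith
      obtain rfl : c = a * y + q * k2 := by linarith
      obtain rfl : d = a * z + q * k3 := by linarith
      obtain ⟨s, hs⟩ : ∃ s, s = x * -k1 + y * -k2 + z * -k3 := ⟨_, rfl⟩
      rw [← hs] at h
      have t : a - s ≤ (a - s) ^ 2 := by nlinarith [sq_nonneg (2 * (a - s) - 1), Int.le_self_sq (a - s)]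
      have e : a ^ 2 + (a * x + q * k1) ^ 2 + (a * y + q * k2) ^ 2 + (a * z + q * k3) ^ 2 =
          q * ((a - s) ^ 2 + q * ((-k1) ^ 2 + (-k2) ^ 2 + (-k3) ^ 2) - s ^ 2) := by
        rw [hs]; linear_combination (-(a ^ 2)) * hq
      rw [e]
      exact mul_le_mul_of_nonneg_left (by nlinarith) q0)
    have h15 : p ^ n ≠ 15 := fun e => by
      have d3 : 3 ∣ p := Nat.prime_three.dvd_of_dvd_pow (e ▸ (by norm_num : 3 ∣ 15))
      have d5 : 5 ∣ p := Nat.prime_five.dvd_of_dvd_pow (e ▸ (by norm_num : 5 ∣ 15))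
      have e3 := (Nat.prime_dvd_prime_iff_eq Nat.prime_three hp).1 d3
      have e5 := (Nat.prime_dvd_prime_iff_eq Nat.prime_five hp).1 d5
      omega
    omega

end Cfsg.Agent.H90.K4Ar4
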