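import Cfsg.Agent.H40.L3K2

/-! Project L33: the end game for a second conjugate of `F` of kind `η`. -/

set_option autoImplicit false
set_option linter.unusedSectionVars false

noncomputable section

namespace Cfsg.Agent.H90.L3Eh

open Subgroup Cfsg.Agent.H83 Cfsg.Agent.H40.L3 Cfsg.Agent.H40.L3.D2

universe u

variable {G : Type*} [Group G]

theorem cj_in {e x : G} {A B : Subgroup G} (h : cj e A = B) : e * x * e⁻¹ ∈ B ↔ x ∈ A := by
  rw [← h, mem_cj, show e⁻¹ * (e * x * e⁻¹) * e = x by group]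

theorem cz_inv {a z : G} (h : a * z = z * a) : a⁻¹ * z = z * a⁻¹ :=
  (Commute.inv_left (show Commute a z from h)).eq

theorem cz_mul {a b z : G} (h : a * z = z * a) (k : b * z = z * b) : a * b * z = z * (a * b) :=
  (Commute.mul_left (show Commute a z from h) k).eq

theorem sw {a b z : G} (z2 : z * z = 1) (ha : a * z = z * a) (hb : b * z = z * b)
    (h : a * b * a⁻¹ = b ∨ a * b * a⁻¹ = b * z) : b * a * b⁻¹ = a ∨ b * a * b⁻¹ = a * z := by
  have e : b * a * b⁻¹ = b * (a * b * a⁻¹)⁻¹ * a := by group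
  refine h.imp (fun h => by rw [e, h]; group) fun h => ?_
  rw [e, h, mul_inv_rev, inv_eq_of_mul_eq_one_right z2, ← mul_assoc, hb, ha]
  group

/-- the group generated by `S` and an element `n` of its normalizer with `n² ∈ S` -/
def T3 (S : Subgroup G) (n : G) (hn : n ∈ normalizer (S : Set G)) (h2 : n * n ∈ S) : Subgroup G where
  carrier := {x | x ∈ S ∨ x * n⁻¹ ∈ S}
  one_mem' := Or.inl S.one_mem
  mul_mem' := by
    rintro a b (ha | ha) (hb | hb)
    · exact Or.inl (S.mul_mem ha hb)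
    · exact Or.inr (by rw [mul_assoc]; exact S.mul_mem ha hb)
    · refine Or.inr ?_
      have := S.mul_mem ha ((mem_normalizer_iff.1 hn b).1 hb)
      rwa [show a * n⁻¹ * (n * b * n⁻¹) = a * b * n⁻¹ by group] at this
    · refine Or.inl ?_
      have := S.mul_mem (S.mul_mem ha ((mem_normalizer_iff.1 hn _).1 hb)) h2
      rwa [show a * n⁻¹ * (n * (b * n⁻¹) * n⁻¹) * (n * n) = a * b by group] at this
  inv_mem' := by
    rintro a (ha | ha)
    · exact Or.inl (S.inv_mem ha)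
    · refine Or.inr ?_
      have := S.mul_mem ((mem_normalizer_iff''.1 hn _).1 (S.inv_mem ha)) (S.inv_mem h2)
      rwa [show n⁻¹ * (a * n⁻¹)⁻¹ * n * (n * n)⁻¹ = a⁻¹ * n⁻¹ by group] at this

/-- `ζ = δ ε` -/
def Ze : M false := .D * .Ep false

variable [Finite G] {D : D2 G false}

theorem ez_back {g h : G} {m m' k : M false} (hg : g * D.ι .Z = D.ι .Z * g)
    (hh : h * D.ι .Z = D.ι .Z * h) (e1 : ez D.ι (h * D.ι m * h⁻¹) m')
    (e2 : ez D.ι (g * h * D.ι m * (g * h)⁻¹) k) : ez D.ι (g * D.ι m' * g⁻¹) k := by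
  have := ez.comp (cz_mul hg hh) e2 (ez.cinv hh e1)
  rwa [mul_inv_cancel_right] at this

theorem tr {p g : G} {m k : M false} (hp : p * D.ι .Z = D.ι .Z * p)
    (e : ez D.ι (p⁻¹ * g * p * D.ι m * (p⁻¹ * g * p)⁻¹) k) :
    g * (p * D.ι m * p⁻¹) * g⁻¹ = p * D.ι k * p⁻¹ ∨
      g * (p * D.ι m * p⁻¹) * g⁻¹ = p * D.ι k * p⁻¹ * D.ι .Z := by
  have e0 : g * (p * D.ι m * p⁻¹) * g⁻¹ = p * (p⁻¹ * g * p * D.ι m * (p⁻¹ * g * p)⁻¹) * p⁻¹ := by
    group
  refine (ez.iff_mul.1 e).imp (fun h => by rw [e0, h]) fun h => ?_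
  rw [e0, h, mul_assoc _ p⁻¹, cz_inv hp]
  group

/-- the conjugate of `δ` is central in the conjugate of `F` -/
theorem cen_cj {e x : G} (hx : x ∈ cj e D.F) :
    x * (e * D.ι .D * e⁻¹) = e * D.ι .D * e⁻¹ * x := by
  obtain ⟨m, hm, h⟩ := mem_cj.1 hx
  have key : ∀ m : M false, m ∈ (M.sF : Subgroup (M false)) → m * .D = .D * m := by decide +kernel
  have := D.comm_iff.2 (key m hm)
  calc _ = e * (e⁻¹ * x * e * D.ι .D) * e⁻¹ := by group
    _ = _ := by rw [← h, this, h]; group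

theorem sq_cj {e : G} (he : e * D.ι .Z = D.ι .Z * e) :
    e * D.ι .D * e⁻¹ * (e * D.ι .D * e⁻¹) = D.ι .Z := by
  rw [← cj1 he, show (.Z : M false) = .D * .D by decide +kernel, map_mul]; group

theorem dF {g : G} (hz : g * D.ι .Z = D.ι .Z * g) (h : cj g D.F = D.F) :
    ez D.ι (g * D.ι .D * g⁻¹) .D := by
  obtain ⟨m, hm, e⟩ := D.exists_im (cj_eq_self_iff.1 h) (m := .D) (by decide +kernel)
  have c : ∀ u : M false, u ∈ (M.sF : Subgroup (M false)) → u * m = m * u := fun u hu => by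
    have := cen_cj (D := D) (e := g) (h.ge (D.mem_map.2 hu))
    rwa [e, D.comm_iff] at this
  have s := sq_cj hz
  rw [e, ← map_mul, D.inj.eq_iff] at s
  have key : ∀ m : M false, m ∈ (M.sF : Subgroup (M false)) → .T * m = m * .T → .B * m = m * .B →
      .W * m = m * .W → .Q * m = m * .Q → m * m = .Z → m = .D ∨ m = .D * .Z := by decide +kernel
  rw [e, D.ez_iff]
  exact key m hm (c _ (by decide +kernel)) (c _ (by decide +kernel)) (c _ (by decide +kernel))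
    (c _ (by decide +kernel)) s

section kind
variable {ty : Bool} {F1 : Subgroup G} {f : G} (K : Kind D ty F1 f true)
include K

theorem fz : f * D.ι .Z = D.ι .Z * f := by
  have := cjm (cj1 K.fw) (cj1 K.fw)
  rwa [M.ww, mul_inv_eq_iff_eq_mul] at this

theorem f_nF : f ∉ D.F := fun h => by
  have := (D.bar_F h).uniq K.bar (m := .T) (by decide +kernel)
  revert this
  cases ty <;> decide +kernel

omit K in
theorem sE_sub (ty : Bool) : ∀ m : M false, m ∈ M.sE ty → m ∈ (M.sF : Subgroup (M false)) := by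
  cases ty <;> decide +kernel

theorem barmf {m : M false} (hm : m ∈ M.sE ty) : D.Bar (D.ι m * f) (M.tv (.Et ty)) :=
  Bar.mul (φ := id) (D.zc m) (D.bar_F (D.mem_map.2 (sE_sub ty m hm))) K.bar
    (by cases ty <;> decide +kernel)

theorem barmaf {m : M false} (hm : m ∈ M.sE ty) :
    D.Bar (D.ι (m * .Ap) * f) fun u => .Ap * M.tv (.Et ty) u * .Ap⁻¹ := by
  have := (D.bar_F (D.mem_map.2 (sE_sub ty m hm))).mul (D.zc m) ((D.bar_ι .Ap).mul (D.zc _) K.bar
      (by cases ty <;> decide +kernel)) (by cases ty <;> decide +kernel)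
  rwa [← mul_assoc, ← map_mul] at this

end kind

theorem not_ct_AG (ng : ¬ D.ct .Gm) : ¬ D.ct (.A * .Gm) := fun h => by
  have h1 : D.ct (.Z * .Gm) := (isConj_iff.2 ⟨_, cjm D.ρz (cj1 (D.ρg rfl))⟩).trans h
  exact ng (by simpa only [show (.Q * (.Z * .Gm) * .Q⁻¹ : M false) = .Gm by decide +kernel]
    using D.ct_cj h1 .Q)

theorem ty_false (ng : ¬ D.ct .Gm) {F1 : Subgroup G} {n f : G} (hz : n * D.ι .Z = D.ι .Z * n)
    (h1 : cj n D.F = F1) (h2 : cj n F1 = D.F) (K : Kind D true F1 f true) : False := by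
  have key : ∀ g : M false, g ∈ (M.sF : Subgroup (M false)) → g ∉ M.sE true → D.ct g →
      ∀ y ∈ F1, y ∉ D.F → (D.ι g * y * (D.ι g)⁻¹ = y ∨ D.ι g * y * (D.ι g)⁻¹ = y * D.ι .Z) →
      ∃ m ∈ (M.sE true : Subgroup (M false)), n * D.ι g * n⁻¹ = D.ι m * f := by
    intro g g1 g2 g3 y y1 y2 y3
    have sub := sE_sub true
    obtain ⟨m, hm, e | e | e | e⟩ := K.cov _ ((cj_in h1).2 (D.mem_map.2 g1))
    · exact absurd ((K.inter g g1).1 ((cj_in h2).1 (e ▸ D.mem_map.2 (sub m hm)))) g2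
    · have c := D.ct_of g3 e
      have k : ∀ m : M false, m ∈ M.sE true → m * .Ap * (m * .Ap) = 1 →
          ∃ u : M false, u * (m * .Ap) * u⁻¹ = .A ∨ u * (m * .Ap) * u⁻¹ = .A * .Gm := by
        decide +kernel
      obtain ⟨u, k | k⟩ := k m hm (D.ct_sq c).1
      · exact absurd (k ▸ D.ct_cj c u) D.not_ct_A
      · exact absurd (k ▸ D.ct_cj c u) (not_ct_AG ng)
    · exact ⟨m, hm, e⟩
    · obtain ⟨u, hu, e1⟩ := (cj_in h2).2 y1
      have u2 : u ∉ M.sE true := fun h => y2 ((cj_in h1).1 (e1 ▸ (K.inter u hu).2 h))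
      have e2 := barmaf K hm u hu
      have e3 : ez D.ι (n * D.ι g * n⁻¹ * D.ι u * (n * D.ι g * n⁻¹)⁻¹) u := by
        rw [ez.iff_mul, e1, show n * D.ι g * n⁻¹ * (n * y * n⁻¹) * (n * D.ι g * n⁻¹)⁻¹ =
          n * (D.ι g * y * (D.ι g)⁻¹) * n⁻¹ by group]
        refine y3.imp (fun h => by rw [h]) fun h => ?_
        rw [h, mul_assoc _ n⁻¹, cz_inv hz]; group
      rw [e] at e3
      have k : ∀ u : M false, u ∈ (M.sF : Subgroup (M false)) → u ∉ M.sE true →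
          ¬ (.Ap * M.tv (.Et true) u * .Ap⁻¹ = u ∨ .Ap * M.tv (.Et true) u * .Ap⁻¹ = u * .Z) := by
        decide +kernel
      exact absurd (D.ez_uniq e3 e2) (k u hu u2)
  obtain ⟨m, hm, e⟩ := key .T (by decide +kernel) (by decide +kernel) D.ct_T _ K.ap
    (fun h => absurd (D.mem_map.1 h) (by decide +kernel)) (by
      simp only [← map_mul, ← map_inv, D.inj.eq_iff]; decide +kernel)
  obtain ⟨m', hm', e'⟩ := key (M.kp (M.tv (.Et true) .T)) (by decide +kernel) (by decide +kernel)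
    (D.ct_kp (D.ct_conj D.ct_T (K.bar .T (by decide +kernel)) (by decide +kernel)) (by decide +kernel))
    f K.fF (f_nF K) (sw D.z2 (fz K) (D.zc _) (ez.iff_mul.1
      ((K.bar _ (by decide +kernel)).congr (by decide +kernel))))
  have sub := sE_sub true
  have : n * D.ι (M.kp (M.tv (.Et true) .T) * .T⁻¹) * n⁻¹ ∈ D.F := by
    rw [show n * D.ι (M.kp (M.tv (.Et true) .T) * .T⁻¹) * n⁻¹ = D.ι m' * f * (D.ι m * f)⁻¹ by
      rw [← e, ← e', map_mul, map_inv]; group,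
      show D.ι m' * f * (D.ι m * f)⁻¹ = D.ι (m' * m⁻¹) by rw [map_mul, map_inv]; group, D.mem_map]
    exact mul_mem (sub _ hm') (inv_mem (sub _ hm))
  exact absurd ((K.inter _ (by decide +kernel)).1 ((cj_in h2).1 this)) (by decide +kernel)

section kf
variable {F1 : Subgroup G} {f : G} (K : Kind D false F1 f true)
include K

theorem fD (m : M false) (hm : m ∈ M.sE false) :
    f * D.ι m * f⁻¹ = D.ι (m * bp .Z (m.d ^^ m.b)) := by
  have key : ∀ m : M false, m ∈ M.sE false → ∃ i j k l : Bool,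
      m = bp .W i * bp .D j * bp (.Ep false) k * bp .Z l ∧
      m * bp .Z (m.d ^^ m.b) = bp .W i * bp (.D * .Z) j * bp (.Ep false) k * bp .Z l := by
    decide +kernel
  have c : ∀ {u v : M false} (i : Bool), f * D.ι u * f⁻¹ = D.ι v →
      f * D.ι (bp u i) * f⁻¹ = D.ι (bp v i) := fun i h => by
    cases i
    · simp [bp]
    · exact h
  obtain ⟨i, j, k, l, e1, e2⟩ := key m hm
  rw [e2]
  conv_lhs => rw [e1]
  exact cjm (cjm (cjm (c i (cj1 K.fw)) (c j K.fd)) (c k (cj1 K.fe))) (c l (cj1 (fz K)))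

theorem dF1 {g : G} (hz : g * D.ι .Z = D.ι .Z * g) (h : cj g D.F = F1) :
    ez D.ι (g * D.ι .D * g⁻¹) (.Ep false) := by
  have c : ∀ y ∈ F1, y * (g * D.ι .D * g⁻¹) = g * D.ι .D * g⁻¹ * y := fun y hy =>
    cen_cj (h.ge hy)
  have s := sq_cj hz
  have cw := c _ ((K.inter .W (by decide +kernel)).2 (by decide +kernel))
  have cd := c _ ((K.inter .D (by decide +kernel)).2 (by decide +kernel))
  have k : ∀ {m u v : M false}, f * D.ι u * f⁻¹ = D.ι v → D.ι u * (D.ι m * f) = D.ι m * f * D.ι u →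
      u * m = m * v := fun {m u v} a b => D.inj (by
    rw [map_mul, map_mul, ← a, ← mul_assoc, ← mul_assoc, ← b]; group)
  have k1 : ∀ m : M false, m ∈ M.sE false → .W * (m * .Ap) ≠ m * .Ap * .W := by decide +kernel
  obtain ⟨m, hm, e | e | e | e⟩ := K.cov _ ((cj_in h).2 (D.mem_map.2 (show (.D : M false) ∈ M.sF by
    decide +kernel)))
  · have ca := c _ K.ap
    have cf := c _ K.fF
    rw [e] at s ca cf ⊢
    rw [← map_mul, D.inj.eq_iff] at s
    rw [D.comm_iff] at ca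
    have := (cj1 cf).symm.trans (fD K m hm)
    rw [D.inj.eq_iff] at this
    have key : ∀ m : M false, m ∈ M.sE false → m * m = .Z → .Ap * m = m * .Ap →
        m = m * bp .Z (m.d ^^ m.b) → m = .Ep false ∨ m = .Ep false * .Z := by decide +kernel
    exact D.ez_iff.2 (key m hm s ca this)
  · rw [e, D.comm_iff] at cw
    exact absurd cw (k1 m hm)
  · rw [e] at cd
    have key : ∀ m : M false, m ∈ M.sE false → .D * m ≠ m * (.D * .Z) := by decide +kernel
    exact absurd (k K.fd cd) (key m hm)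
  · rw [e] at cw
    exact absurd (k (cj1 K.fw) cw) (k1 m hm)

/-- `t q` acts on `F₁ / ⟨z⟩` with image `⟨w⟩` -/
theorem cF1 {y : G} (hy : y ∈ F1) : ez D.ι (D.ι (.T * .Q) * y * (D.ι (.T * .Q))⁻¹ * y⁻¹) 1 ∨
    ez D.ι (D.ι (.T * .Q) * y * (D.ι (.T * .Q))⁻¹ * y⁻¹) .W := by
  have k0 : ∀ m : M false, (m ∈ M.sE false ∨ m * .Ap⁻¹ ∈ M.sE false) →
      (1 = .T * .Q * m * (.T * .Q)⁻¹ * m⁻¹ ∨ 1 = .T * .Q * m * (.T * .Q)⁻¹ * m⁻¹ * .Z) ∨
      (.W = .T * .Q * m * (.T * .Q)⁻¹ * m⁻¹ ∨ .W = .T * .Q * m * (.T * .Q)⁻¹ * m⁻¹ * .Z) := by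
    decide +kernel
  have k1 : ∀ m : M false, ez D.ι (D.ι (.T * .Q) * D.ι m * (D.ι (.T * .Q))⁻¹ * (D.ι m)⁻¹)
      (.T * .Q * m * (.T * .Q)⁻¹ * m⁻¹) := fun m => Or.inl (by simp only [map_mul, map_inv])
  have k2 : ∀ m : M false, ez D.ι (D.ι (.T * .Q) * (D.ι m * f) * (D.ι (.T * .Q))⁻¹ * (D.ι m * f)⁻¹)
      (.T * .Q * m * (.T * .Q)⁻¹ * m⁻¹) := fun m => by
    have h : ez D.ι (f * D.ι (.T * .Q) * f⁻¹) (.T * .Q) :=
      (K.bar _ (by decide +kernel)).congr (by decide +kernel)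
    have := (((ez.rfl' (.T * .Q)).mul (ez.rfl' m)).mul h.inv).mul (ez.rfl' m).inv
    rwa [show D.ι (.T * .Q) * D.ι m * (f * D.ι (.T * .Q) * f⁻¹)⁻¹ * (D.ι m)⁻¹ =
      D.ι (.T * .Q) * (D.ι m * f) * (D.ι (.T * .Q))⁻¹ * (D.ι m * f)⁻¹ by group] at this
  obtain ⟨m, hm, rfl | rfl | rfl | rfl⟩ := K.cov _ hy
  · exact (k0 m (Or.inl hm)).imp (k1 _).congr (k1 _).congr
  · exact (k0 _ (Or.inr (by rwa [mul_inv_cancel_right]))).imp (k1 _).congr (k1 _).congr
  · exact (k0 m (Or.inl hm)).imp (k2 _).congr (k2 _).congr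
  · exact (k0 _ (Or.inr (by rwa [mul_inv_cancel_right]))).imp (k2 _).congr (k2 _).congr

/-- no conjugate of `F` normalized by `T₁` and centralizing `w` contains an element swapping
`F` and `F₁` -/
theorem no_swap {e p : G} (hp : p * D.ι .Z = D.ι .Z * p) (he : e ∈ cj p D.F)
    (hn : D.T1 ≤ normalizer (cj p D.F : Set G)) (hw : e * D.ι .W = D.ι .W * e)
    (h1 : cj e D.F = F1) (h2 : cj e F1 = D.F) : False := by
  have hz : e * D.ι .Z = D.ι .Z * e := by
    have := cjm (cj1 hw) (cj1 hw)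
    rwa [M.ww, mul_inv_eq_iff_eq_mul] at this
  have key : ¬ ez D.ι (e * D.ι (.T * .Q) * e⁻¹ * D.ι .T * (e * D.ι (.T * .Q) * e⁻¹)⁻¹)
      (.T * .Et false) := fun h => by
    have y1 : e⁻¹ * D.ι .T * e ∈ F1 := (cj_in h2).1 (by
      rw [show e * (e⁻¹ * D.ι .T * e) * e⁻¹ = D.ι .T by group, D.mem_map]; decide +kernel)
    have e0 : e * (D.ι (.T * .Q) * (e⁻¹ * D.ι .T * e) * (D.ι (.T * .Q))⁻¹ * (e⁻¹ * D.ι .T * e)⁻¹) *
        e⁻¹ * D.ι .T = e * D.ι (.T * .Q) * e⁻¹ * D.ι .T * (e * D.ι (.T * .Q) * e⁻¹)⁻¹ := by group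
    rcases cF1 K y1 with k | k
    · have := (ez.conj hz k (n := 1) (Or.inl (by simp))).mul (ez.rfl' .T)
      rw [e0] at this
      exact absurd (D.ez_uniq this h) (by decide +kernel)
    · have := (ez.conj hz k (Or.inl (cj1 hw))).mul (ez.rfl' .T)
      rw [e0] at this
      exact absurd (D.ez_uniq this h) (by decide +kernel)
  obtain ⟨m, hm, k | k | k | k⟩ := K.cov _ ((cj_in h1).2 (D.mem_map.2
    (show (.T * .Q : M false) ∈ M.sF by decide +kernel)))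
  · exact absurd ((K.inter _ (by decide +kernel)).1 ((cj_in h2).1
      (k ▸ D.mem_map.2 (sE_sub _ m hm)))) (by decide +kernel)
  · have := mul_mem ((mem_normalizer_iff''.1 (hn ⟨.T * .Q, rfl⟩) e).1 he) (inv_mem he)
    rw [show (D.ι (.T * .Q))⁻¹ * e * D.ι (.T * .Q) * e⁻¹ =
      (D.ι (.T * .Q))⁻¹ * (e * D.ι (.T * .Q) * e⁻¹) by group, k, ← map_inv, ← map_mul] at this
    have := D.cjF_sq hp this
    simp only [← map_mul, ← map_one D.ι, D.inj.eq_iff] at this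
    have k1 : ∀ m : M false, m ∈ M.sE false →
        ¬ ((.T * .Q)⁻¹ * (m * .Ap) * ((.T * .Q)⁻¹ * (m * .Ap)) = 1 ∨
          (.T * .Q)⁻¹ * (m * .Ap) * ((.T * .Q)⁻¹ * (m * .Ap)) = .Z) := by decide +kernel
    exact k1 m hm this
  · exact key (k ▸ (barmf K hm .T (by decide +kernel)).congr (by decide +kernel))
  · exact key (k ▸ (barmaf K hm .T (by decide +kernel)).congr (by decide +kernel))

end kf

section main
variable (C : Cx2 D) {n f : G} (hT : n ∈ C.T) (hn : n ∈ normalizer (C.Ts : Set G))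
  (h2 : n * n ∈ C.Ts) (K : Kind D false (cj n D.F) f true)
include hT hn K

theorem ts_fix {g : G} (hg : g ∈ C.Ts) :
    ez D.ι (g * D.ι .D * g⁻¹) .D ∧ ez D.ι (g * D.ι (.Ep false) * g⁻¹) (.Ep false) :=
  ⟨dF (C.cz (C.l2 hg)) (cj_eq_self (C.nF hg)), ez_back (C.cz (C.l2 hg)) (C.cz hT)
    (dF1 K (C.cz hT) rfl) (dF1 K (C.cz (mul_mem (C.l2 hg) hT))
      (by rw [cj_mul, cj_eq_self (C.nF1 hn hg)]))⟩

theorem s_w {s : G} (hs : s ∈ C.Ts) (ht : ez D.ι (s * D.ι .T * s⁻¹) (.B * .Q)) :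
    ez D.ι (s * D.ι .W * s⁻¹) (.Et false) := by
  have hz := C.cz (C.l2 hs)
  obtain ⟨u, hu, e⟩ := D.exists_im (C.nF hs) (m := .W) (by decide +kernel)
  have u1 : u ∈ M.sE false := (K.inter u hu).1 (e ▸ (mem_normalizer_iff.1 (C.nF1 hn hs) _).1
    ((K.inter .W (by decide +kernel)).2 (by decide +kernel)))
  have u2 : u * u = .Z := (cje (cjm e e) (cj1 hz)).1 (by decide +kernel)
  have u3 : .B * .Q * u = u * (.B * .Q) := by
    have k : ∀ u : M false, .B * .Q * .Z * u = u * (.B * .Q * .Z) → .B * .Q * u = u * (.B * .Q) := by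
      decide +kernel
    rcases ht with h | h
    · exact (cjc h e).1 (by decide +kernel)
    · exact k u ((cjc h e).1 (by decide +kernel))
  have key : ∀ u : M false, u ∈ M.sE false → u * u = .Z → .B * .Q * u = u * (.B * .Q) →
      (u = .D ∨ u = .D * .Z) ∨ (u = .Ep false ∨ u = .Ep false * .Z) ∨
        (u = .Et false ∨ u = .Et false * .Z) := by decide +kernel
  obtain ⟨a, b⟩ := ts_fix C hT hn K hs
  replace key := key u u1 u2 u3
  rw [← D.ez_iff, ← D.ez_iff, ← D.ez_iff, ← e] at key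
  rcases key with k | k | k
  · exact absurd (D.ez_uniq (ez.cinv hz k) (ez.cinv hz a)) (by decide +kernel)
  · exact absurd (D.ez_uniq (ez.cinv hz k) (ez.cinv hz b)) (by decide +kernel)
  · exact k

theorem s_E {s : G} (hs : s ∈ C.Ts) (hw : ez D.ι (s * D.ι .W * s⁻¹) (.Et false)) (m : M false)
    (hm : m ∈ M.sE false) : ez D.ι (s * D.ι m * s⁻¹) (m * bp Ze m.w) := by
  have key : ∀ m : M false, m ∈ M.sE false → ∃ i j k l : Bool,
      m = bp .W i * bp .D j * bp (.Ep false) k * bp .Z l ∧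
      (m * bp Ze m.w = bp (.Et false) i * bp .D j * bp (.Ep false) k * bp .Z l ∨
        m * bp Ze m.w = bp (.Et false) i * bp .D j * bp (.Ep false) k * bp .Z l * .Z) := by
    decide +kernel
  obtain ⟨i, j, k, l, e1, e2⟩ := key m hm
  obtain ⟨a, b⟩ := ts_fix C hT hn K hs
  refine ez.congr ?_ e2
  conv_lhs => rw [e1]
  exact (((hw.bp i).cmul (a.bp j)).cmul (b.bp k)).cmul
    ((ez.of_eq (cj1 (C.cz (C.l2 hs)))).bp l)

include h2

theorem t3_le : T3 C.Ts n hn h2 ≤ C.T := by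
  rintro x (h | h)
  · exact C.l2 h
  · simpa using mul_mem (C.l2 h) hT

theorem t3d {g : G} (hg : g ∈ T3 C.Ts n hn h2) :
    (g ∈ C.Ts ∧ ez D.ι (g * D.ι .D * g⁻¹) .D ∧ ez D.ι (g * D.ι (.Ep false) * g⁻¹) (.Ep false)) ∨
    (ez D.ι (g * D.ι .D * g⁻¹) (.Ep false) ∧ ez D.ι (g * D.ι (.Ep false) * g⁻¹) .D) := by
  refine Or.imp (fun h => ⟨h, ts_fix C hT hn K h⟩) (fun h => ?_) hg
  obtain ⟨a, b⟩ := ts_fix C hT hn K h
  have c := dF1 K (C.cz hT) rfl
  have d := ez_back (C.cz hT) (C.cz hT) c (ts_fix C hT hn K h2).1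
  have e1 := ez.comp (C.cz (C.l2 h)) b c
  have e2 := ez.comp (C.cz (C.l2 h)) a d
  rw [inv_mul_cancel_right] at e1 e2
  exact ⟨e1, e2⟩

theorem t3z {g : G} (hg : g ∈ T3 C.Ts n hn h2) : ez D.ι (g * D.ι Ze * g⁻¹) Ze := by
  rcases t3d C hT hn h2 K hg with ⟨-, a, b⟩ | ⟨a, b⟩
  · exact a.cmul b
  · exact (a.cmul b).congr (by decide +kernel)

variable {s : G} (hs : s ∈ C.Ts) (hw : ez D.ι (s * D.ι .W * s⁻¹) (.Et false))
  (hPL : ∀ F2, Pr2 C F2 → D.ι .Ap ∈ F2)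
  {p : G} (pT : p ∈ C.T) (pn : p ∈ normalizer (T3 C.Ts n hn h2 : Set G))
include hs hw pT pn

theorem p_ze : ez D.ι (p * D.ι Ze * p⁻¹) Ze := by
  have pz := C.cz pT
  have h1 : ∀ g ∈ C.Ts, g * (p * D.ι Ze * p⁻¹) * g⁻¹ = p * D.ι Ze * p⁻¹ ∨
      g * (p * D.ι Ze * p⁻¹) * g⁻¹ = p * D.ι Ze * p⁻¹ * D.ι .Z := fun g hg =>
    tr pz (t3z C hT hn h2 K ((mem_normalizer_iff''.1 pn g).1 (Or.inl hg)))
  have xT : p * D.ι Ze * p⁻¹ ∈ C.T := mul_mem (mul_mem pT (C.ι_T _)) (inv_mem pT)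
  obtain ⟨u, hu, e⟩ := C.bar_id xT fun m _ =>
    ez.iff_mul.2 (sw D.z2 (D.zc m) (C.cz xT) (h1 _ (C.ι_Ts m)))
  rw [← e] at h1 ⊢
  have h3 : ∀ g ∈ C.Ts, ez D.ι (g * D.ι u * g⁻¹) u := fun g hg => ez.iff_mul.2 (h1 g hg)
  have k1 : ∀ u : M false, u ∈ (M.sF : Subgroup (M false)) →
      (u = .A * u * .A⁻¹ ∨ u = .A * u * .A⁻¹ * .Z) →
      (u = M.tv (.Et false) u ∨ u = M.tv (.Et false) u * .Z) → u ∈ M.sE false := by decide +kernel
  have u1 := k1 u hu (D.ez_uniq (ez.of_ι .A u) (h3 _ (C.ι_Ts _)))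
    (D.ez_uniq (K.bar u hu) (h3 _ (C.F1_le hn K.fF)))
  have k2 : ∀ u : M false, u ∈ M.sE false → (u = u * bp Ze u.w ∨ u = u * bp Ze u.w * .Z) →
      u * u = 1 → u ≠ 1 → u ≠ .Z → u = Ze ∨ u = Ze * .Z := by decide +kernel
  have e1 : p * D.ι 1 * p⁻¹ = D.ι 1 := by simp
  exact D.ez_iff.2 (k2 u u1 (D.ez_uniq (s_E C hT hn K hs hw u u1) (h3 _ hs))
    ((cje (cjm e.symm e.symm) e1).1 (by decide +kernel))
    ((cje e.symm e1).not.1 (by decide +kernel)) ((cje e.symm (cj1 pz)).not.1 (by decide +kernel)))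

theorem p_dd {g : G} (hg : g ∈ T3 C.Ts n hn h2) :
    (p⁻¹ * g * p ∈ C.Ts ∧ ez D.ι ((p * D.ι .D * p⁻¹)⁻¹ * (g * (p * D.ι .D * p⁻¹) * g⁻¹)) 1) ∨
      ez D.ι ((p * D.ι .D * p⁻¹)⁻¹ * (g * (p * D.ι .D * p⁻¹) * g⁻¹)) Ze := by
  have pz := C.cz pT
  rcases t3d C hT hn h2 K ((mem_normalizer_iff''.1 pn g).1 hg) with ⟨a, b, -⟩ | ⟨b, -⟩
  · refine Or.inl ⟨a, ez.iff_mul.2 ?_⟩
    refine (tr pz b).imp (fun h => ?_) fun h => ?_ <;> rw [h, map_one] <;> group
  · right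
    have z := p_ze C hT hn h2 K hs hw pT pn
    have e : (p * D.ι .D * p⁻¹)⁻¹ * (p * D.ι (.Ep false) * p⁻¹) = p * D.ι Ze * p⁻¹ * D.ι .Z := by
      rw [← cj1 pz, show (.Ep false : M false) = .D * (Ze * .Z) by decide +kernel, map_mul, map_mul]
      group
    rcases tr pz b with h | h
    · rw [h, e]; exact z.mulz
    · rw [h, ← mul_assoc, e]; exact z.mulz.mulz

theorem p_d : ez D.ι (p * D.ι .D * p⁻¹) .D ∨ ez D.ι (p * D.ι .D * p⁻¹) (.Ep false) ∨
    ez D.ι (p * D.ι .D * p⁻¹) .W ∨ ez D.ι (p * D.ι .D * p⁻¹) (.Et false) := by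
  have pz := C.cz pT
  have h1 : ∀ g ∈ C.Ts, ez D.ι ((p * D.ι .D * p⁻¹)⁻¹ * (g * (p * D.ι .D * p⁻¹) * g⁻¹)) 1 ∨
      ez D.ι ((p * D.ι .D * p⁻¹)⁻¹ * (g * (p * D.ι .D * p⁻¹) * g⁻¹)) Ze := fun g hg =>
    (p_dd C hT hn h2 K hs hw pT pn (Or.inl hg)).imp_left And.right
  have xT : p * D.ι .D * p⁻¹ ∈ C.T := mul_mem (mul_mem pT (C.ι_T _)) (inv_mem pT)
  have sq := sq_cj pz
  generalize p * D.ι .D * p⁻¹ = x at h1 xT sq
  have h3 : ∀ u : M false, u ∈ (M.sF : Subgroup (M false)) → u * Ze ≠ Ze * u →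
      ez D.ι (x⁻¹ * D.ι u * x⁻¹⁻¹) u := fun u hu hc => by
    have e0 : x⁻¹ * (D.ι u * x * (D.ι u)⁻¹) * D.ι u = x⁻¹ * D.ι u * x⁻¹⁻¹ := by group
    have e1 : x⁻¹ * D.ι 1 * x⁻¹⁻¹ = D.ι 1 := by simp
    have k : ∀ u : M false, u ∈ (M.sF : Subgroup (M false)) → u * Ze ≠ Ze * u →
        ¬ (u * u = 1 ↔ Ze * u * (Ze * u) = 1) ∧ ¬ (u * u = 1 ↔ Ze * u * .Z * (Ze * u * .Z) = 1) := by
      decide +kernel
    rcases h1 _ (C.ι_Ts u) with h | h
    · have := h.mul (ez.rfl' u)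
      rwa [e0, one_mul] at this
    · have := h.mul (ez.rfl' u)
      rw [e0] at this
      rcases this with h | h
      · exact absurd (cje (cjm h h) e1) (k u hu hc).1
      · exact absurd (cje (cjm h h) e1) (k u hu hc).2
  obtain ⟨v, hv, rfl⟩ : x ∈ D.F := by
    refine (inv_mem_iff (H := D.F)).1 (C.bar_id (inv_mem xT) fun u hu => ?_)
    by_cases hc : u * Ze = Ze * u
    · have k : ∀ u : M false, u ∈ (M.sF : Subgroup (M false)) → u * Ze = Ze * u →
          .T * u ∈ (M.sF : Subgroup (M false)) ∧ .T * u * Ze ≠ Ze * (.T * u) ∧ .T * (.T * u) = u := by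
        decide +kernel
      obtain ⟨a, b, c⟩ := k u hu hc
      have := (h3 .T (by decide +kernel) (by decide +kernel)).cmul (h3 _ a b)
      rwa [c] at this
    · exact h3 u hu hc
  rw [← map_mul, D.inj.eq_iff] at sq
  have k : ∀ v : M false, v ∈ (M.sF : Subgroup (M false)) → v * v = .Z →
      ((1 = v⁻¹ * (.A * v * .A⁻¹) ∨ 1 = v⁻¹ * (.A * v * .A⁻¹) * .Z) ∨
        (Ze = v⁻¹ * (.A * v * .A⁻¹) ∨ Ze = v⁻¹ * (.A * v * .A⁻¹) * .Z)) →
      ((1 = v⁻¹ * M.tv (.Et false) v ∨ 1 = v⁻¹ * M.tv (.Et false) v * .Z) ∨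
        (Ze = v⁻¹ * M.tv (.Et false) v ∨ Ze = v⁻¹ * M.tv (.Et false) v * .Z)) →
      (v = .D ∨ v = .D * .Z) ∨ (v = .Ep false ∨ v = .Ep false * .Z) ∨ (v = .W ∨ v = .W * .Z) ∨
        (v = .Et false ∨ v = .Et false * .Z) := by decide +kernel
  have a := (ez.rfl' (ι := D.ι) v).inv.mul (ez.of_ι .A v)
  have b := (ez.rfl' (ι := D.ι) v).inv.mul (K.bar v hv)
  simp only [D.ez_iff]
  exact k v hv sq ((h1 _ (C.ι_Ts .A)).imp (D.ez_uniq a) (D.ez_uniq a))
    ((h1 _ (C.F1_le hn K.fF)).imp (D.ez_uniq b) (D.ez_uniq b))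

include hPL

omit hs hw in
theorem lemA (hp : ez D.ι (p * D.ι .D * p⁻¹) .D) : p ∈ C.Ts := by
  by_contra h0
  have pz := C.cz pT
  have h1 : p ∈ normalizer (C.Ts : Set G) := mem_normalizer_fintype fun g hg => by
    have e := ez.comp pz hp (ez.comp (C.cz (C.l2 hg)) (ts_fix C hT hn K hg).1 (ez.cinv pz hp))
    rw [← mul_assoc p] at e
    rcases t3d C hT hn h2 K ((mem_normalizer_iff.1 pn g).1 (Or.inl hg)) with h | h
    · exact h.1
    · exact absurd (D.ez_uniq e h.1) (by decide +kernel)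
  have := cen_cj (hPL _ (C.pr_n pT h1 h0))
  rcases hp with h | h <;> rw [h, D.comm_iff] at this <;> revert this <;> decide +kernel

theorem lemB (hp : ez D.ι (p * D.ι .D * p⁻¹) .W) : False := by
  have pz := C.cz pT
  have cw : ∀ x ∈ cj p D.F, x * D.ι .W = D.ι .W * x := fun x hx => by
    have := cen_cj hx
    rcases hp with h | h <;> rw [h] at this
    · exact this
    · rw [show (.W * .Z : M false) = .W⁻¹ by decide +kernel, map_inv] at this
      simpa using (Commute.inv_right (show Commute x _ from this)).eq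
  have nm : D.T1 ≤ normalizer (cj p D.F : Set G) := by
    rintro _ ⟨u, rfl⟩
    rw [← cj_normalizer, mem_cj]
    rcases p_dd C hT hn h2 K hs hw pT pn (Or.inl (C.ι_Ts u)) with h | h
    · exact C.nF h.1
    · have := D.ez_uniq (hp.inv.mul (ez.conj (D.zc u) hp (ez.of_ι u .W))) h
      have k : ∀ u : M false, ¬ (Ze = .W⁻¹ * (u * .W * u⁻¹) ∨ Ze = .W⁻¹ * (u * .W * u⁻¹) * .Z) := by
        decide +kernel
      exact absurd this (k u)
  by_cases hl : cj p D.F ≤ C.Ts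
  · have := cw _ (hPL _ ⟨⟨p, pz, rfl⟩, hl, nm, fun e => by
      have := cw (D.ι .Q) (e.ge (D.mem_map.2 (by decide +kernel)))
      rw [D.comm_iff] at this
      revert this; decide +kernel⟩)
    rw [D.comm_iff] at this
    revert this; decide +kernel
  obtain ⟨e, he, h0⟩ := SetLike.not_le_iff_exists.1 hl
  have h3 : e * n⁻¹ ∈ C.Ts := Or.resolve_left
    (cj_le_of_norm (H := T3 C.Ts n hn h2) (fun x hx => Or.inl (C.F_le hx)) pn he) h0
  have e1 : e = e * n⁻¹ * n := by group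
  refine no_swap K pz he nm (cw e he) ?_ ?_
  · rw [e1, cj_mul, cj_eq_self (C.nF1 hn h3)]
  · rw [e1, cj_mul, C.swap h2, cj_eq_self (C.nF h3)]

theorem p_mem : p ∈ T3 C.Ts n hn h2 := by
  have nT : n ∈ T3 C.Ts n hn h2 := Or.inr (by rw [mul_inv_cancel]; exact one_mem _)
  have sT : s ∈ T3 C.Ts n hn h2 := Or.inl hs
  rcases p_d C hT hn h2 K hs hw pT pn with h | h | h | h
  · exact Or.inl (lemA C hT hn h2 K hPL pT pn h)
  · have := lemA C hT hn h2 K hPL (mul_mem (inv_mem hT) pT) (mul_mem (le_normalizer (inv_mem nT)) pn)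
      (ez.comp (cz_inv (C.cz hT)) (ez.cinv (C.cz hT) (dF1 K (C.cz hT) rfl)) h)
    exact (mul_mem_cancel_left (inv_mem nT)).1 (Or.inl this)
  · exact (lemB C hT hn h2 K hs hw hPL pT pn h).elim
  · exact (lemB C hT hn h2 K hs hw hPL (mul_mem (inv_mem (C.l2 hs)) pT)
      (mul_mem (le_normalizer (inv_mem sT)) pn)
      (ez.comp (cz_inv (C.cz (C.l2 hs))) (ez.cinv (C.cz (C.l2 hs)) hw) h)).elim

end main

set_option synthInstance.maxSize 2000 in
theorem eh : EhS.{u} := by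
  intro G _ _ Y n f hPL hT hn h2 K
  obtain ⟨D, X, C, r8⟩ := Y
  obtain ⟨ty, x, a1, a2, a3, a4, a5, a6, ng, n1, n2, a7⟩ := X
  dsimp only at hT hn h2 K ⊢
  cases ty
  swap
  · exact (ty_false ng (C.cz hT) rfl (C.swap h2) K).elim
  have c1 : D.ct (.B * .W) := D.ct_conj D.ct_T
    ((K.bar .T (by decide +kernel)).congr (by decide +kernel)) (by decide +kernel)
  have kp : ∀ {m m' : M false}, D.ct m → m ∈ (M.sF : Subgroup (M false)) →
      (m' = M.kp m ∨ m' = M.kp m * .Z) → D.ct m' := fun h hm e => by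
    rcases e with rfl | rfl
    · exact D.ct_kp h hm
    · exact D.ct_mulz (D.ct_kp h hm) (M.kp_mem _ _ hm)
  have c2 : D.ct (.B * .Q) := kp c1 (by decide +kernel) (by decide +kernel)
  have c3 : D.ct (.B * .W * .Q) := kp c2 (by decide +kernel) (by decide +kernel)
  have nk : ∀ {m0 : M false}, ¬ D.ct m0 → ∀ m : M false, m ∈ (M.sF : Subgroup (M false)) →
      D.ct m → ¬ ((m0 = m ∨ m0 = m * .Z) ∨ (m0 = M.kp m ∨ m0 = M.kp m * .Z) ∨
        (m0 = M.kp (M.kp m) ∨ m0 = M.kp (M.kp m) * .Z)) := fun h0 m hm h => by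
    rintro ((e | e) | e | e)
    · exact h0 (e ▸ h)
    · exact h0 (e ▸ D.ct_mulz h hm)
    · exact h0 (kp h hm e)
    · exact h0 (kp (D.ct_kp h hm) (M.kp_mem _ _ hm) e)
  have b8 : ∀ m ∈ (M.sF : Subgroup (M false)), D.ct m → ∃ v ∈ ([.T, .B * .W, .B * .Q, .B * .W * .Q,
      .T * .Gm, .T * .D * .Q, .T * .D * .W * .Q, .B * .D] : List (M false)), m = v ∨ m = v * .Z :=
    fun m hm h => by
      obtain ⟨a, b, c⟩ := D.ct_sq h
      have d1 := nk ng m hm h
      have d2 := nk n1 m hm h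
      have d3 := nk n2 m hm h
      clear h
      revert m
      decide +kernel
  have b4 : ¬ D.ct (.T * .Gm) → ∀ m ∈ (M.sF : Subgroup (M false)), D.ct m →
      ∃ v ∈ ([.T, .B * .W, .B * .Q, .B * .W * .Q] : List (M false)), m = v ∨ m = v * .Z :=
    fun h0 m hm h => by
      have a := b8 m hm h
      have d1 := nk h0 m hm h
      have d2 := nk h0 _ (show M.tv (.Et false) m ∈ (M.sF : Subgroup (M false)) by
        clear a d1 h; revert m; decide +kernel) (D.ct_conj h (K.bar m hm) (by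
          clear a d1 h; revert m; decide +kernel))
      clear h
      revert m
      decide +kernel
  obtain ⟨s, hs, ht⟩ : ∃ s ∈ C.Ts, ez D.ι (s * D.ι .T * s⁻¹) (.B * .Q) := by
    by_cases h0 : D.ct (.T * .Gm)
    · have c5 : D.ct (.T * .D * .Q) := kp h0 (by decide +kernel) (by decide +kernel)
      have c6 : D.ct (.T * .D * .W * .Q) := kp c5 (by decide +kernel) (by decide +kernel)
      have c7 : D.ct (.B * .D) := D.ct_conj h0
        ((K.bar _ (by decide +kernel)).congr (by decide +kernel)) (by decide +kernel)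
      refine C.trans _ (k := 3) rfl (by decide +kernel) (by decide +kernel) (fun m hm => ?_) b8
        (by decide +kernel)
      simp only [List.mem_cons, List.not_mem_nil, or_false] at hm
      rcases hm with rfl | rfl | rfl | rfl | rfl | rfl | rfl | rfl
      exacts [⟨by decide +kernel, D.ct_T⟩, ⟨by decide +kernel, c1⟩, ⟨by decide +kernel, c2⟩,
        ⟨by decide +kernel, c3⟩, ⟨by decide +kernel, h0⟩, ⟨by decide +kernel, c5⟩,
        ⟨by decide +kernel, c6⟩, ⟨by decide +kernel, c7⟩]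
    · refine C.trans _ (k := 2) rfl (by decide +kernel) (by decide +kernel) (fun m hm => ?_) (b4 h0)
        (by decide +kernel)
      simp only [List.mem_cons, List.not_mem_nil, or_false] at hm
      rcases hm with rfl | rfl | rfl | rfl
      exacts [⟨by decide +kernel, D.ct_T⟩, ⟨by decide +kernel, c1⟩, ⟨by decide +kernel, c2⟩,
        ⟨by decide +kernel, c3⟩]
  have hw := s_w C hT hn K hs ht
  have e := eq_of_norm C.pT (t3_le C hT hn h2 K) fun p pT pn =>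
    p_mem C hT hn h2 K hs hw (fun F2 h => by obtain ⟨_, _, k⟩ := hPL F2 h; exact k.ap) pT pn
  exact ⟨rfl, fun x hx => e.ge hx, ⟨s, hs, hw⟩,
    fun h0 => C.card_Ts' _ (k := 2) (by simp) (b4 h0)⟩

end Cfsg.Agent.H90.L3Eh
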