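import Cfsg.Agent.H90.LtEE3a

/-! Type EE: `T₃` is a Sylow subgroup or there is the subgroup `T₃⟨k⟩` (`EE3Stmt`). -/

set_option autoImplicit false
set_option linter.unusedSectionVars false
set_option synthInstance.maxSize 4096

namespace Cfsg.Agent.H90.EE3

open Subgroup Cfsg.Agent.H85 Cfsg.Agent.H93.LT

universe u

theorem d_fix3 : ∀ (l j : Bool) (v w : V), v ≠ vz → w ≠ vz → cc l v v = o2 → cc l w w = o2 →
    σ3 true j v = v → σ3 true j w = w → cc l v w = cc l w v → v = w := by decide +kernel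
theorem d_fixg : ∀ (l : Bool) (v : V), cc l v v = o2 → σ3 true false v = v → v = vz := by decide
theorem d_cl3 : ∀ (l i j : Bool) (A M : V), A ≠ vz → cc l A A = o2 → σ3 i j A = A →
    σ3 i j M = add M A → (i = false ∧ j = true) ∨ (i = true ∧ j = true ∧ l = false) := by
  decide +kernel
theorem d_cl4 : ∀ (i j : Bool) (A M : V), A ≠ vz → cc false A A = o2 → σ3 i j (σk A) = A →
    σ3 i j (σk M) ≠ add M A := by decide +kernel
theorem d_k : ∀ A : V, cc false A A = o2 → σ3 true true A = A →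
    ∀ B : V, cc false B B = o2 → σ3 true true B = B → cc false A B ≠ cc false B A →
    ∀ M : V, cc false M M = o2 → σ3 true true M = add M A →
    ∀ N : V, cc false N N = o2 → σ3 true true N = add N B → cc false M N ≠ cc false N M →
    ∃ i j : Bool, ∀ v : V, (σ3 i j ∘ lin A B M N) v = σk v := by decide +kernel
theorem d_kk : ∀ v : V, (σk ∘ σk) v = σ3 false false v := by decide
theorem d_tk : ∀ i j i' j' : Bool, (∀ v : V, (σ3 i' j' ∘ σ3 i j ∘ σk) v = ((σ3 i j ∘ σk) ∘ σt) v) →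
    i' = true ∧ j' = true := by decide
theorem d_gk : ∀ i j : Bool, (∀ v : V, (σ3 i j ∘ σk) v = (σk ∘ σg) v) → i = true ∧ j = false := by
  decide
theorem d_sq4 : ∀ i j : Bool, (∀ v : V, ((σ3 i j ∘ σk) ∘ (σ3 i j ∘ σk)) v = id v) → j = false := by
  decide
theorem d_cm4 : ∀ i i' j' : Bool, (∀ v : V, ((σ3 i false ∘ σk) ∘ σ3 i' j') v =
    (σ3 i' j' ∘ (σ3 i false ∘ σk)) v) → j' = false := by decide
theorem d_fix4 : ∀ (i : Bool) (v w : V), v ≠ vz → w ≠ vz → cc false v v = o2 → cc false w w = o2 →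
    (σ3 i false ∘ σk) v = v → (σ3 i false ∘ σk) w = w → cc false v w = cc false w v → v = w := by
  decide +kernel

variable {G : Type u} [Group G]

namespace Cx

variable [Finite G] {h : EN G} {l : Bool} (c : Cx h l)
include c

theorem fix {d u : G} {σ : V → V} {v : V} (k : Acts h d σ) (hu : Co h u v) (e : Commute u d) :
    σ v = v := by
  have := k.2 _ _ hu
  rw [cn_of_comm e] at this
  exact c.co_uniq this hu

theorem big3 : h.Big h.T3 := by
  intro A hA ea hc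
  by_cases h2 : A ≤ h.T2
  · exact c.b2 A h2 ea hc
  exfalso
  obtain ⟨v, hv, hv2⟩ := SetLike.not_le_iff_exists.1 h2
  obtain ⟨i, j, kv⟩ := c.dec3 (hA hv)
  obtain rfl : i = true := by
    cases i
    · exact (hv2 (c.in_T2 kv)).elim
    · rfl
  have hf : h.f ∉ A := fun e => c.f_mov kv (ea_comm ea e hv)
  have h1 : ∀ x ∈ A, ∀ y ∈ A, x ∉ h.T2 → y ∉ h.T2 → x * y ∈ h.T2 := by
    intro x hx y hy a b
    obtain ⟨i1, j1, k1⟩ := c.dec3 (hA hx)
    obtain ⟨i2, j2, k2⟩ := c.dec3 (hA hy)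
    cases i1
    · exact (a (c.in_T2 k1)).elim
    cases i2
    · exact (b (c.in_T2 k2)).elim
    exact c.in_T2 (c.in_mul k1 k2)
  by_cases ht : ∃ s ∈ A, In3 h s false true
  · obtain ⟨s, hs, ks⟩ := ht
    have hs2 := c.in_T2 ks
    have hN : zpowers h.f ≤ normalizer ((A ⊓ h.T2 : Subgroup G) : Set G) :=
      zpowers_le.2 (centralizer_le_normalizer _
        (mem_centralizer_iff.2 fun x hx => (c.f_T2 hx.2).symm))
    have hB : ∀ x ∈ (A ⊓ h.T2) ⊔ zpowers h.f, ∃ y ∈ A ⊓ h.T2, ∃ β, x = pw h.f β * y := by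
      intro x hx
      obtain ⟨β, k⟩ := dec_zp (hN (mem_zpowers _)) (h.ff ▸ one_mem _) hx
      exact ⟨_, k, β, (mul_inv_cancel_left _ _).symm⟩
    have hpw : ∀ β, ∀ y ∈ h.T2, Commute (pw h.f β) y := fun β y hy => by
      cases β
      · exact Commute.one_left _
      · exact c.f_T2 hy
    have eB : EA ((A ⊓ h.T2) ⊔ zpowers h.f) := by
      intro x hx
      obtain ⟨y, hy, β, rfl⟩ := hB x hx
      rw [(hpw β y hy.2).symm.mul_mul_mul_comm, ea y hy.1, mul_one, pw_mul h.ff, Bool.xor_self, pw_f]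
    have cB : 32 ≤ Nat.card ((A ⊓ h.T2) ⊔ zpowers h.f : Subgroup G) := by
      have e1 := le_two h1
      have e2 : A ⊓ h.T2 < (A ⊓ h.T2) ⊔ zpowers h.f :=
        lt_of_le_of_ne le_sup_left fun e => hf (e.ge (mem_sup_right (mem_zpowers _))).1
      have e3 := two_le_of_lt e2
      have := c.c32
      omega
    have cs : ∀ x ∈ (A ⊓ h.T2) ⊔ zpowers h.f, Commute s x ∧ Commute h.f x := by
      intro x hx
      obtain ⟨y, hy, β, rfl⟩ := hB x hx
      exact ⟨(hpw β s hs2).symm.mul_right (ea_comm ea hs hy.1),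
        (hpw β _ (UT2 h (fU h))).symm.mul_right (c.f_T2 hy.2)⟩
    have e0 : h.t * (h.t⁻¹ * s) = s := mul_inv_cancel_left _ _
    obtain ⟨w, hw, e | ⟨-, e⟩⟩ := c.u2 _ (c.in_t.1 ks) (by rw [e0]; exact ea s hs)
    · rw [e0] at e
      exact c.no32 eB cB (e ▸ isConj_cn _ _) fun x hx => (cs x hx).1
    · rw [e0, cn_mul, cn_of_comm (c.cen (fZ h) _ hw)] at e
      refine c.no32 eB cB (isConj_cn h.t w) fun x hx => ?_
      rw [eq_mul_inv_of_mul_eq e]
      exact (cs x hx).1.mul_left (cs x hx).2.inv_left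
  · have hU : ∀ x ∈ A, x ∈ h.T2 → x ∈ h.U := fun x hx a => by
      obtain ⟨j', k⟩ := c.dec2 a
      cases j'
      · exact c.in_U.1 k
      · exact (ht ⟨x, hx, k⟩).elim
    refine absurd (c.count h1 (fun x hx a y hy b a' b' => ?_) hf) (not_lt.2 hc)
    obtain ⟨p, kp⟩ := c.ex_co (hU x hx a)
    obtain ⟨q, kq⟩ := c.ex_co (hU y hy b)
    obtain rfl := d_fix3 l j p q (fun e => a' (c.co_vz (e ▸ kp))) (fun e => b' (c.co_vz (e ▸ kq)))
      (c.co_inv2 kp (ea x hx)) (c.co_inv2 kq (ea y hy))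
      (c.fix (c.acts_in kv) kp (ea_comm ea hx hv)) (c.fix (c.acts_in kv) kq (ea_comm ea hy hv))
      ((c.co_cm kp kq).1 (ea_comm ea hx hy))
    exact c.co_same kp kq

/-- an element conjugating `K₁` and `K₂` into `S` normalises `U` -/
theorem normU' {S : Subgroup G} (hS : h.Big S) {d : G} (h1 : ∀ u ∈ h.U, cn u d ∈ S) :
    d ∈ normalizer (h.U : Set G) := by
  have key : ∀ d' : G, (∀ u ∈ h.K1, cn u d' ∈ S) → ∀ u ∈ h.K1, cn u d' ∈ h.U := by
    intro d' hd u hu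
    refine hS (cj d'⁻¹ h.K1) (fun x hx => ?_) (ea_cj c.eaK1 _) (card_cj _ _).ge (mem_cj' d' hu)
    obtain ⟨y, hy, rfl⟩ := cj_ex' hx
    exact hd y hy
  have k1 := key d fun u hu => h1 u (K1U h hu)
  have k2 := key (h.g * d) fun u hu => by
    rw [cn_cn]; exact h1 _ (cn_mem (c.n3 (gT3 h)) (K1U h hu))
  obtain ⟨a, -, -, -, -, b⟩ := gf h
  refine norm_of (cn_closure fun x hx => ?_)
  simp only [Set.mem_insert_iff, Set.mem_singleton_iff] at hx
  rcases hx with rfl | rfl | rfl | rfl | rfl | rfl | rfl | rfl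
  · exact k1 _ (ZK1 h (zZ h))
  · exact k1 _ (ZK1 h (fZ h))
  · exact k1 _ (ZK1 h (xZ h))
  · exact k1 _ (ZK1 h (yZ h))
  · exact k1 _ (aK1 h)
  · rw [← a, ← cn_cn]; exact k2 _ (aK1 h)
  · exact k1 _ (mK1 h)
  · rw [← b, ← cn_cn]; exact k2 _ (mK1 h)

theorem normU {S : Subgroup G} (hS : h.Big S) (hU : h.U ≤ S) {d : G}
    (hd : d ∈ normalizer (S : Set G)) : d ∈ normalizer (h.U : Set G) :=
  c.normU' hS fun _ hu => cn_mem hd (hU hu)

/-- conjugates of `t` in `t U` are conjugate to `t` in `T₃` -/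
theorem tU_conj {s : G} (k : In3 h s false true) (hs : IsConj h.t s) : ∃ q ∈ h.T3, s = cn h.t q := by
  have e0 : h.t * (h.t⁻¹ * s) = s := mul_inv_cancel_left _ _
  have s2 : s * s = 1 := by
    obtain ⟨d, rfl⟩ := isConj_iff.1 hs
    rw [conj_mul, h.tt, mul_one, mul_inv_cancel]
  obtain ⟨w, hw, e | ⟨hy, e⟩⟩ := c.u2 _ (c.in_t.1 k) (by rw [e0]; exact s2)
  · exact ⟨w, UT3 h hw, (e.trans e0).symm⟩
  rw [e0] at e
  rcases h.alt with ⟨-, -, a⟩ | ⟨-, -, -, -, -, a, -⟩ | ⟨a, -⟩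
  · have h1 : IsConj h.t (h.t * h.f) := hs.trans (e ▸ isConj_cn _ _).symm
    have h2 : h.t * h.f ∈ h.Z := mul_mem (subset_closure (by simp)) (subset_closure (by simp))
    rcases a _ h2 h1 with b | b
    · exact (f1 h (mul_eq_left.1 b)).elim
    · exact (fz h (mul_left_cancel b)).elim
  · refine ⟨h.g * h.x * w, mul_mem (mul_mem (gT3 h) (UT3 h (xU h))) (UT3 h hw), ?_⟩
    rw [cn_cn, cn_cn, a, ← e, cn_mul (h.t * h.f) h.z h.x, cn_mul h.t h.f h.x, h.tx,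
      cn_of_comm h.xf.symm, cn_of_comm (c.cen (zZ h) _ (xU h)), mul_assoc h.t h.z,
      c.cen (zZ h) _ (fU h), mul_assoc h.t (h.f * h.z), mul_assoc h.f, h.zz, mul_one]
  · rw [hy, cn_one'] at a
    exact (f1 h (mul_eq_left.1 a.symm)).elim

theorem u0_ex {u : G} (hu : u ∈ h.U0) : ∃ v p, u = wd h v * zx h p := by
  induction hu using closure_induction'' with
  | mem x hx =>
    simp only [Set.mem_insert_iff, Set.mem_singleton_iff] at hx
    rcases hx with rfl | rfl | rfl | rfl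
    exacts [⟨va, o2, by simp [wd, va, zx_o2]⟩, ⟨vb, o2, by simp [wd, vb, zx_o2]⟩,
      ⟨vm, o2, by simp [wd, vm, zx_o2]⟩, ⟨vn, o2, by simp [wd, vn, zx_o2]⟩]
  | inv_mem x hx =>
    simp only [Set.mem_insert_iff, Set.mem_singleton_iff] at hx
    rcases hx with rfl | rfl | rfl | rfl
    exacts [⟨va, o2, by simp [wd, va, zx_o2, inv_eq_of_mul_eq_one_right h.aa]⟩,
      ⟨vb, o2, by simp [wd, vb, zx_o2, inv_eq_of_mul_eq_one_right h.bb]⟩,
      ⟨vm, o2, by simp [wd, vm, zx_o2, inv_eq_of_mul_eq_one_right h.mm]⟩,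
      ⟨vn, o2, by simp [wd, vn, zx_o2, inv_eq_of_mul_eq_one_right h.nn]⟩]
  | one => exact ⟨vz, o2, by simp [wd, vz, zx_o2]⟩
  | mul x y _ _ a b =>
    obtain ⟨v, p, rfl⟩ := a
    obtain ⟨w, q, rfl⟩ := b
    exact ⟨_, _, by rw [c.mul_eq _ _ (zxZ h p), c.zx_mul, c.zx_mul]⟩

theorem f_U0 : h.f ∉ h.U0 := fun e => by
  obtain ⟨v, p, k⟩ := c.u0_ex e
  have h1 : Co h h.f v := k ▸ c.co_of v (zxZ h p)
  rw [c.co_zero h1 (fZ h)] at k
  exact f_zx h p (by simpa [wd, vz] using k)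

omit c in
theorem gens0 : h.a ∈ h.U0 ∧ h.b ∈ h.U0 ∧ h.m ∈ h.U0 ∧ h.n ∈ h.U0 ∧ h.z ∈ h.U0 ∧ h.x ∈ h.U0 := by
  have ha : h.a ∈ h.U0 := subset_closure (by simp)
  have hb : h.b ∈ h.U0 := subset_closure (by simp)
  have hm : h.m ∈ h.U0 := subset_closure (by simp)
  refine ⟨ha, hb, hm, subset_closure (by simp), ?_, ?_⟩
  · rw [z_eq]; exact mul_mem (inv_mem ha) (cn_mem' hb ha)
  · rw [show h.x = h.b⁻¹ * cn h.b h.m by rw [h.bm, inv_mul_cancel_left]]
    exact mul_mem (inv_mem hb) (cn_mem' hm hb)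

theorem g_U0 {u : G} (hu : u ∈ h.U0) : cn u h.g ∈ h.U0 := by
  obtain ⟨ha, hb, hm, hn, -, -⟩ := gens0 (h := h)
  obtain ⟨a, b, -, -, -, d⟩ := gf h
  refine cn_closure (fun x hx => ?_) u hu
  simp only [Set.mem_insert_iff, Set.mem_singleton_iff] at hx
  rcases hx with rfl | rfl | rfl | rfl
  exacts [a ▸ hb, b ▸ ha, d ▸ hn, c.ng ▸ hm]

omit c in
theorem t_U0 {u : G} (hu : u ∈ h.U0) : cn u h.t ∈ h.U0 := by
  obtain ⟨ha, hb, hm, hn, -, -⟩ := gens0 (h := h)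
  refine cn_closure (fun x hx => ?_) u hu
  simp only [Set.mem_insert_iff, Set.mem_singleton_iff] at hx
  rcases hx with rfl | rfl | rfl | rfl
  · rw [cn_of_comm h.ta.symm]; exact ha
  · rw [cn_of_comm h.tb.symm]; exact hb
  · rw [mt]; exact mul_mem hm ha
  · rw [nt]; exact mul_mem hn hb

omit c in
theorem wd_U0 (v : V) : wd h v ∈ h.U0 := by
  obtain ⟨ha, hb, hm, hn, -, -⟩ := gens0 (h := h)
  exact mul_mem (mul_mem (mul_mem (pw_mem ha _) (pw_mem hb _)) (pw_mem hm _)) (pw_mem hn _)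

/-- if `g t U` contains an involution then `g = e` -/
theorem ge_of {s : G} (k : In3 h s true true) (s2 : s * s = 1) : h.g = h.e := by
  rcases h.gg' with ⟨a, -⟩ | ⟨hy, he, hg⟩
  · exact a
  exfalso
  obtain ⟨-, -, -, -, hz, hx⟩ := gens0 (h := h)
  have tg : cn h.t h.g = h.t * h.f * h.z := by
    rcases h.alt with ⟨-, a, -⟩ | ⟨-, -, -, -, -, a, -⟩ | ⟨-, a, -⟩
    exacts [(h.g1 (a.trans he)).elim, a, (h.g1 (a.trans he)).elim]
  have γ0 : ∀ u ∈ h.U0, cn u (h.g * h.t) ∈ h.U0 := fun u hu => by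
    rw [cn_cn]; exact t_U0 (c.g_U0 hu)
  have γN := c.nZ (c.n3 (mul_mem (gT3 h) (tT3 h)))
  have γZ : ∀ z ∈ h.ZU, cn z (h.g * h.t) * z ∈ h.U0 := by
    intro z hz'
    induction hz' using closure_induction with
    | mem x hx' =>
      simp only [Set.mem_insert_iff, Set.mem_singleton_iff] at hx'
      rcases hx' with rfl | rfl | rfl | rfl
      · exact mul_mem (γ0 _ hz) hz
      · rw [cn_cn, (gf h).2.2.1, cn_of_comm (h.tf.mul_right (tz h)).symm, mul_assoc,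
          c.cen (zZ h) _ (fU h), ← mul_assoc, h.ff, one_mul]
        exact hz
      · exact mul_mem (γ0 _ hx) hx
      · rw [hy, cn_one, mul_one]; exact one_mem _
    | one => rw [cn_one, mul_one]; exact one_mem _
    | mul x y hx' hy' a b =>
      have := mul_mem a b
      rw [cn_mul, mul_assoc, ← mul_assoc (cn y _), c.cen (cn_mem γN hy') _ (ZU_le h hx')]
      simpa only [mul_assoc] using this
    | inv x hx' a => rwa [inv_eq_of_mul_eq_one_right (c.eaZ x hx')]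
  obtain ⟨v, kv⟩ := c.ex_co k
  obtain ⟨z, hz', e⟩ := c.co_ex kv
  have e1 : s = h.g * h.t * (wd h v * z) := by rw [← e]; simp [mul_assoc]
  have e2 : s * s = h.g * h.g * (cn h.t h.g * h.t) *
      (cn (wd h v) (h.g * h.t) * (cn z (h.g * h.t) * wd h v) * z) := by
    rw [e1]; simp only [cn]; group
  have e3 : cn h.t h.g * h.t = h.f * h.z := by
    rw [tg, mul_assoc h.t, (h.tf.mul_right (tz h)).eq, mul_assoc, h.tt, mul_one]
  rw [e3, c.cen (cn_mem γN hz') _ (wdU h v), s2] at e2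
  have h1 : h.g * h.g ∈ h.U0 := by
    rcases hg with a | a <;> rw [a]
    exacts [hx, mul_mem hx hz]
  have h2 : cn (wd h v) (h.g * h.t) * (wd h v * cn z (h.g * h.t)) * z ∈ h.U0 := by
    have := mul_mem (mul_mem (γ0 _ (wd_U0 v)) (wd_U0 v)) (γZ z hz')
    simpa only [mul_assoc] using this
  refine c.f_U0 ?_
  have e4 : h.f = (h.g * h.g)⁻¹ *
      (cn (wd h v) (h.g * h.t) * (wd h v * cn z (h.g * h.t)) * z)⁻¹ * h.z⁻¹ := by
    rw [← eq_inv_of_mul_eq_one_left e2.symm]; group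
  rw [e4]
  exact mul_mem (mul_mem (inv_mem h1) (inv_mem h2)) (inv_mem hz)

/-- what the action of a conjugate `t ^ d`, `d ∈ N(U)`, looks like -/
theorem tlike {d : G} (hd : d ∈ normalizer (h.U : Set G)) {σ : V → V} (k : Acts h (cn h.t d) σ) :
    ∃ A B M N : V, Acts h d (lin A B M N) ∧ A ≠ vz ∧ cc l A A = o2 ∧ σ A = A ∧ cc l B B = o2 ∧
      σ B = B ∧ cc l A B ≠ cc l B A ∧ cc l M M = o2 ∧ σ M = add M A ∧ cc l N N = o2 ∧
      σ N = add N B ∧ cc l M N ≠ cc l N M := by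
  obtain ⟨A, hA⟩ := c.ex_co (cn_mem hd (aU h))
  obtain ⟨B, hB⟩ := c.ex_co (cn_mem hd (bU h))
  obtain ⟨M, hM⟩ := c.ex_co (cn_mem hd (mU h))
  obtain ⟨N, hN⟩ := c.ex_co (cn_mem hd (nU h))
  have cj2 : ∀ x y : G, cn (cn x d) (cn y d) = cn (cn x y) d := fun x y => by
    simp only [cn]; group
  have cm : ∀ x y : G, Commute (cn x d) (cn y d) → Commute x y := fun x y e => by
    have := cn_of_comm e
    rw [cj2] at this
    exact comm_of_cn (by simpa [cn] using this)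
  have nab : cc l A B ≠ cc l B A := fun e =>
    absurd ((c.co_cm c.co_a c.co_b).1 (cm _ _ ((c.co_cm hA hB).2 e))) (by cases l <;> decide)
  refine ⟨A, B, M, N, c.acts_lin hd hA hB hM hN, ?_, c.co_inv2 hA (cn_sq h.aa d), ?_,
    c.co_inv2 hB (cn_sq h.bb d), ?_, nab, c.co_inv2 hM (cn_sq h.mm d), ?_,
    c.co_inv2 hN (cn_sq h.nn d), ?_, fun e => ?_⟩
  · rintro rfl
    exact nab ((c.co_cm hA hB).1 (c.cen (c.co_vz hA) _ (c.co_U hB)))
  · have := k.2 _ _ hA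
    rw [cj2, cn_of_comm h.ta.symm] at this
    exact c.co_uniq this hA
  · have := k.2 _ _ hB
    rw [cj2, cn_of_comm h.tb.symm] at this
    exact c.co_uniq this hB
  · have := k.2 _ _ hM
    rw [cj2, mt, cn_mul] at this
    exact c.co_uniq this (c.co_mul hM hA)
  · have := k.2 _ _ hN
    rw [cj2, nt, cn_mul] at this
    exact c.co_uniq this (c.co_mul hN hB)
  · exact absurd ((c.co_cm c.co_m c.co_n).1 (cm _ _ ((c.co_cm hM hN).2 e))) (by cases l <;> decide)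

theorem climb' {Q S : Subgroup G} (hS : IsPGroup 2 S) (h3 : h.T3 ≤ Q) (hQ : Q < S) :
    ∃ g ∈ S, g ∉ Q ∧ g ∈ normalizer (Q : Set G) ∧ g * g ∈ Q ∧ ∀ q ∈ Q, cn h.t g ≠ cn h.t q := by
  refine c.K.climb Q S hS (h3 (tT3 h)) hQ ?_
  rw [h.syl.eq_of_le (Q := S ⊓ centralizer {h.t}) (hS.to_inf_left)
    (le_inf ((c.tT.trans h3).trans hQ.le) h.syl.le) inf_le_right]
  exact c.tT.trans h3

/-- the element `k` -/
theorem ex_k {S : Subgroup G} (hS : IsPGroup 2 S) (hQ : h.T3 < S) :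
    l = false ∧ h.g = h.e ∧ ∃ k ∈ S, k ∈ normalizer (h.T3 : Set G) ∧ k * k ∈ h.T3 ∧
      Acts h k σk := by
  obtain ⟨d, hd, -, dN, dd, dt⟩ := c.climb' hS le_rfl hQ
  have dU := c.normU c.big3 (UT3 h) dN
  obtain ⟨i, j, k⟩ := c.dec3 (cn_mem dN (tT3 h))
  obtain ⟨A, B, M, N, ka, h1, h2, h3, h4, h5, h6, h7, h8, h9, h10, h11⟩ := c.tlike dU (c.acts_in k)
  rcases d_cl3 l i j A M h1 h2 h3 h8 with ⟨rfl, rfl⟩ | ⟨rfl, rfl, rfl⟩
  · obtain ⟨q, hq, e⟩ := c.tU_conj k (isConj_cn _ _)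
    exact (dt q hq e).elim
  obtain ⟨i, j, e⟩ := d_k A h2 h3 B h4 h5 h6 M h7 h8 N h9 h10 h11
  have hv : pw h.g i * pw h.t j ∈ h.T3 := mul_mem (pw_mem (gT3 h) _) (pw_mem (tT3 h) _)
  refine ⟨rfl, c.ge_of k (cn_sq h.tt d), d * (pw h.g i * pw h.t j), mul_mem hd (hQ.le hv),
    mul_mem dN (le_normalizer hv), ?_, c.acts_congr (c.acts_mul ka (c.acts_3 i j)) e⟩
  have : d * (pw h.g i * pw h.t j) * (d * (pw h.g i * pw h.t j)) =
      d * d * cn (pw h.g i * pw h.t j) d * (pw h.g i * pw h.t j) := by simp only [cn]; group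
  rw [this]
  exact mul_mem (mul_mem dd (cn_mem dN hv)) hv

end Cx

/-- the situation with the element `k` -/
structure Ck [Finite G] (h : EN G) (k : G) : Prop extends Cx h false where
  kN : k ∈ normalizer (h.T3 : Set G)
  kk : k * k ∈ h.T3
  ka : Acts h k σk

namespace Ck

variable [Finite G] {h : EN G} {k : G} (c : Ck h k)
include c

theorem kkU : k * k ∈ h.U :=
  c.in_U.1 (c.in_of_acts c.kk (c.acts_congr (c.acts_mul c.ka c.ka) d_kk))

theorem dec4 {u : G} (hu : u ∈ h.T3 ⊔ zpowers k) : u ∈ h.T3 ∨ ∃ i j, In3 h (k⁻¹ * u) i j := by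
  obtain ⟨β, e⟩ := dec_zp c.kN c.kk hu
  cases β
  · exact Or.inl (by simpa using e)
  · exact Or.inr (c.dec3 e)

theorem acts4 {u : G} {i j : Bool} (e : In3 h (k⁻¹ * u) i j) : Acts h u (σ3 i j ∘ σk) := by
  have := c.acts_mul c.ka (c.acts_in e)
  rwa [mul_inv_cancel_left] at this

theorem n4 {u : G} {i j : Bool} (e : In3 h (k⁻¹ * u) i j) : u ∈ normalizer (h.T3 : Set G) := by
  have := mul_mem c.kN (le_normalizer (c.in_T3 e))
  rwa [mul_inv_cancel_left] at this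

/-- `t ^ u ∈ e t U` for `u ∈ k T₃` -/
theorem t4 {u : G} {i j : Bool} (e : In3 h (k⁻¹ * u) i j) : In3 h (cn h.t u) true true := by
  obtain ⟨i', j', e'⟩ := c.dec3 (cn_mem (c.n4 e) (tT3 h))
  have h1 := c.acts_mul (c.acts4 e) (c.acts_in e')
  rw [mul_cn] at h1
  obtain ⟨rfl, rfl⟩ := d_tk i j i' j' (c.acts_uniq h1 (c.acts_mul c.acts_t (c.acts4 e)))
  exact e'

theorem k00 : In3 h (k⁻¹ * k) false false := by
  rw [inv_mul_cancel]; exact c.in_U.2 (one_mem _)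

theorem gk : In3 h (cn h.g k) true false := by
  obtain ⟨i', j', e'⟩ := c.dec3 (cn_mem c.kN (gT3 h))
  have h1 := c.acts_mul c.ka (c.acts_in e')
  rw [mul_cn] at h1
  obtain ⟨rfl, rfl⟩ := d_gk i' j' (c.acts_uniq h1 (c.acts_mul c.acts_g c.ka))
  exact e'

/-- elements outside `T₃` move `f` -/
theorem f4 {u : G} {i j : Bool} (e : In3 h (k⁻¹ * u) i j) : ¬ Commute h.f u := fun a =>
  c.f_mov (c.t4 e) ((a.inv_right.mul_right h.tf.symm).mul_right a)

theorem big4 : h.Big (h.T3 ⊔ zpowers k) := by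
  intro A hA ea hc
  by_cases h3 : A ≤ h.T3
  · exact c.big3 A h3 ea hc
  exfalso
  obtain ⟨v, hv, hv3⟩ := SetLike.not_le_iff_exists.1 h3
  obtain ⟨i, j, kv⟩ := (c.dec4 (hA hv)).resolve_left hv3
  have av := c.acts4 kv
  obtain rfl : j = false := by
    have h1 := c.acts_mul av av
    rw [ea v hv] at h1
    exact d_sq4 i j (c.acts_uniq h1 (c.acts_U (one_mem _)))
  have hf : h.f ∉ A := fun e => c.f4 kv (ea_comm ea e hv)
  have hj : ∀ x ∈ A, x ∈ h.T3 → ∃ i', In3 h x i' false := fun x hx a => by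
    obtain ⟨i', j', e⟩ := c.dec3 a
    have h1 := c.acts_mul (c.acts_in e) av
    rw [(ea_comm ea hx hv).eq] at h1
    obtain rfl := d_cm4 i i' j' (c.acts_uniq h1 (c.acts_mul av (c.acts_in e)))
    exact ⟨i', e⟩
  have hg : ∀ x ∈ A, In3 h x true false → ∀ y ∈ A, y ∈ h.U → y ∈ h.ZU := fun x hx a y hy b => by
    obtain ⟨p, kp⟩ := c.ex_co b
    obtain rfl := d_fixg false p (c.co_inv2 kp (ea y hy))
      (c.fix (c.acts_in a) kp (ea_comm ea hy hx))
    exact c.co_vz kp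
  refine absurd (c.count (B := h.T3) (fun x hx y hy a b => ?_) (fun x hx a y hy b a' b' => ?_) hf)
    (not_lt.2 hc)
  · obtain ⟨i1, j1, k1⟩ := (c.dec4 (hA hx)).resolve_left a
    obtain ⟨i2, j2, k2⟩ := (c.dec4 (hA hy)).resolve_left b
    have : x * y = k * k * cn (k⁻¹ * x) k * (k⁻¹ * y) := by simp only [cn]; group
    rw [this]
    exact mul_mem (mul_mem c.kk (cn_mem c.kN (c.in_T3 k1))) (c.in_T3 k2)
  · obtain ⟨i1, k1⟩ := hj x hx a
    obtain ⟨i2, k2⟩ := hj y hy b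
    cases i1 <;> cases i2
    · obtain ⟨p, kp⟩ := c.ex_co (c.in_U.1 k1)
      obtain ⟨q, kq⟩ := c.ex_co (c.in_U.1 k2)
      obtain rfl := d_fix4 i p q (fun e => a' (c.co_vz (e ▸ kp))) (fun e => b' (c.co_vz (e ▸ kq)))
        (c.co_inv2 kp (ea x hx)) (c.co_inv2 kq (ea y hy))
        (c.fix av kp (ea_comm ea hx hv)) (c.fix av kq (ea_comm ea hy hv))
        ((c.co_cm kp kq).1 (ea_comm ea hx hy))
      exact c.co_same kp kq
    · exact (a' (hg y hy k2 x hx (c.in_U.1 k1))).elim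
    · exact (b' (hg x hx k1 y hy (c.in_U.1 k2))).elim
    · exact hg x hx k1 _ (mul_mem hx hy) (c.in_U.1 (c.in_mul k1 k2))

theorem syl4 (hp : IsPGroup 2 (h.T3 ⊔ zpowers k : Subgroup G)) :
    IsSyl 2 (h.T3 ⊔ zpowers k) ⊤ := by
  refine ⟨le_top, hp, fun S hS h1 _ => ?_⟩
  by_contra hne
  obtain ⟨d, -, -, dN, -, dt⟩ := c.climb' hS le_sup_left (lt_of_le_of_ne h1 (Ne.symm hne))
  have dU := c.normU c.big4 ((UT3 h).trans le_sup_left) dN
  rcases c.dec4 (cn_mem dN (mem_sup_left (tT3 h))) with e | ⟨i, j, e⟩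
  · obtain ⟨i, j, e⟩ := c.dec3 e
    obtain ⟨A, B, M, N, -, h1, h2, h3, -, -, -, -, h8, -⟩ := c.tlike dU (c.acts_in e)
    rcases d_cl3 false i j A M h1 h2 h3 h8 with ⟨rfl, rfl⟩ | ⟨rfl, rfl, -⟩
    · obtain ⟨q, hq, e'⟩ := c.tU_conj e (isConj_cn _ _)
      exact dt q (mem_sup_left hq) e'
    · have e1 : (cn h.t k)⁻¹ * cn h.t d ∈ h.U := by
        have := mul_mem (inv_mem (c.t4 c.k00)) e
        simpa [mul_assoc] using this
      have e2 : In3 h (cn (cn h.t d) k⁻¹) false true := by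
        rw [c.in_t]
        have := cn_mem (inv_mem c.ka.1) e1
        rwa [cn_mul, cn_inv, ← cn_cn, mul_inv_cancel, cn_one'] at this
      obtain ⟨q, hq, e'⟩ := c.tU_conj e2 ((isConj_cn _ _).trans (isConj_cn _ _))
      refine dt (q * k) (mul_mem_sup hq (mem_zpowers _)) ?_
      rw [cn_cn, ← e', ← cn_cn, inv_mul_cancel, cn_one']
  · obtain ⟨A, B, M, N, -, h1, h2, h3, -, -, -, -, h8, -⟩ := c.tlike dU (c.acts4 e)
    exact d_cl4 i j A M h1 h2 h3 h8

end Ck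

theorem ex_cx (hk : KitStmt.{u}) (hu : EUStmt.{u}) [Finite G] (h : EN G) : ∃ l, Cx h l := by
  obtain ⟨u1, u2, u3, u4, u5, u6, u7, u8⟩ := hu G h.toEE
  have c32 : 32 ≤ Nat.card h.K1 := by
    rcases u3 with ⟨-, a, -⟩ | ⟨-, a, -⟩ <;> exact a ▸ by norm_num
  rcases h.ζ with a | a
  · exact ⟨false, hk G _, u1, u2, c32, u4, u5, u6, u7, u8, by simpa [zx] using a⟩
  · refine ⟨true, hk G _, u1, u2, c32, u4, u5, u6, u7, u8, ?_⟩
    have : h.x ∈ h.U ⊓ centralizer (h.U : Set G) := u7 ▸ xZ h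
    rw [a, ← mem_centralizer_iff.1 this.2 _ (zU h)]
    simp [zx]

theorem ee3 (hk : KitStmt.{u}) (hu : EUStmt.{u}) : EE3Stmt.{u} := by
  intro G _ _ h
  obtain ⟨l, c⟩ := ex_cx hk hu h
  by_cases hs : IsSyl 2 h.T3 ⊤
  · exact Or.inl ⟨hs, c.big3⟩
  right
  have : ∃ S : Subgroup G, IsPGroup 2 S ∧ h.T3 < S := by
    by_contra hh
    exact hs ⟨le_top, c.p3, fun S hS h1 _ => by
      by_contra hne
      exact hh ⟨S, hS, lt_of_le_of_ne h1 (Ne.symm hne)⟩⟩
  obtain ⟨S, hS, hlt⟩ := this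
  obtain ⟨rfl, ge, k, kS, kN, kk, ka⟩ := c.ex_k hS hlt
  have d : Ck h k := ⟨c, kN, kk, ka⟩
  refine ⟨⟨h, k, by simpa [zx] using c.hl, ge, ka.1, d.kkU, ?_, ?_, ?_, ?_, ?_, ?_,
    d.syl4 (hS.to_le (sup_le hlt.le (zpowers_le.2 kS))), d.big4⟩⟩
  · simpa [In3, ge] using d.t4 d.k00
  · simpa [In3, ge] using d.gk
  · simpa [Co, wd, σk, lin, add, sm, va, vm, vn] using ka.2 _ _ (c.co_mul c.co_a c.co_m)
  · simpa [Co, wd, σk, lin, add, sm, vb, vm, vn] using ka.2 _ _ (c.co_mul c.co_b c.co_n)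
  · simpa [Co, wd, σk, lin, add, sm, vm, vn] using ka.2 _ _ c.co_m
  · simpa [Co, wd, σk, lin, add, sm, vm, vn] using ka.2 _ _ c.co_n

end Cfsg.Agent.H90.EE3
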