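import Cfsg.Agent.H93.LT2Defs

/-! Type EE: coordinates on `U / Z(U)` in the normal form `EN`. -/

set_option autoImplicit false
set_option linter.unusedSectionVars false

namespace Cfsg.Agent.H90.EE3

open Subgroup Cfsg.Agent.H85 Cfsg.Agent.H93.LT

universe u

/-! ### Boolean coordinates -/

abbrev V := Bool × Bool × Bool × Bool

def vz : V := (false, false, false, false)
def add (v w : V) : V := (v.1 ^^ w.1, v.2.1 ^^ w.2.1, v.2.2.1 ^^ w.2.2.1, v.2.2.2 ^^ w.2.2.2)
def sm (β : Bool) (v : V) : V := (β && v.1, β && v.2.1, β && v.2.2.1, β && v.2.2.2)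
def ad2 (p q : Bool × Bool) : Bool × Bool := (p.1 ^^ q.1, p.2 ^^ q.2)
/-- the cocycle: exponents of `z` and `x` -/
def cc (l : Bool) (v w : V) : Bool × Bool :=
  ((v.2.1 && w.1) ^^ (l && (v.2.2.2 && w.2.2.1)),
    ((v.2.2.2 && w.1) ^^ (v.2.2.1 && w.2.1)) ^^ (v.2.2.2 && w.2.2.1))
def va : V := (true, false, false, false)
def vb : V := (false, true, false, false)
def vm : V := (false, false, true, false)
def vn : V := (false, false, false, true)
def lin (A B M N v : V) : V :=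
  add (add (add (sm v.1 A) (sm v.2.1 B)) (sm v.2.2.1 M)) (sm v.2.2.2 N)
def σt (v : V) : V := (v.1 ^^ v.2.2.1, v.2.1 ^^ v.2.2.2, v.2.2.1, v.2.2.2)
def σg (v : V) : V := (v.2.1, v.1, v.2.2.2, v.2.2.1)
/-- the action of `g ^ i t ^ j` -/
def σ3 (i j : Bool) (v : V) : V := bif j then σt (bif i then σg v else v) else (bif i then σg v else v)
def σk (v : V) : V := lin (true, false, true, true) (false, true, true, true) vn vm v
def o2 : Bool × Bool := (false, false)

theorem add_self : ∀ v : V, add v v = vz := by decide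
theorem add_cm : ∀ v w : V, add w v = add v w := by decide
theorem add_eq : ∀ v w : V, add v w = vz → v = w := by decide
theorem d_zero : ∀ (l : Bool) (v : V), cc l v va = cc l va v → cc l v vb = cc l vb v →
    cc l v vm = cc l vm v → v = vz := by decide
theorem d_inj : ∀ i j i' j' : Bool, σ3 i j vm = σ3 i' j' vm → i = i' ∧ j = j' := by decide
theorem d_mul : ∀ (i j i' j' : Bool) (v : V), (σ3 i' j' ∘ σ3 i j) v = σ3 (i ^^ i') (j ^^ j') v := by
  decide
theorem d_k1 : ∀ l α β : Bool, cc l (α, false, β, false) (α, false, β, false) = o2 := by decide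
theorem d_am : ∀ β : Bool, add (sm β va) vm ≠ vz := by decide

variable {G : Type u} [Group G]

def pw (x : G) (β : Bool) : G := bif β then x else 1

@[simp] theorem pw_t (x : G) : pw x true = x := rfl
@[simp] theorem pw_f (x : G) : pw x false = 1 := rfl

theorem pw_mem {S : Subgroup G} {x : G} (h : x ∈ S) (β : Bool) : pw x β ∈ S := by
  cases β
  · exact one_mem _
  · exact h

theorem pw_mul {x : G} (h : x * x = 1) (α β : Bool) : pw x α * pw x β = pw x (α ^^ β) := by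
  cases α <;> cases β <;> simp [h]

theorem pw_sw {x y c : G} (h : y * x = x * y * c) (α β : Bool) :
    pw y β * pw x α = pw x α * pw y β * pw c (β && α) := by
  cases α <;> cases β <;> simp [h]

theorem pw_cm {x y : G} (h : y * x = x * y) (α β : Bool) : pw y β * pw x α = pw x α * pw y β := by
  cases α <;> cases β <;> simp [h]

theorem cn_mul (x y c : G) : cn (x * y) c = cn x c * cn y c := by simp only [cn]; group
theorem cn_cn (x c d : G) : cn x (c * d) = cn (cn x c) d := by simp only [cn]; group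
theorem cn_one (c : G) : cn 1 c = 1 := by simp [cn]
theorem cn_one' (x : G) : cn x 1 = x := by simp [cn]
theorem cn_inv (x c : G) : cn x⁻¹ c = (cn x c)⁻¹ := by simp only [cn]; group
theorem cn_pw (x c : G) (β : Bool) : cn (pw x β) c = pw (cn x c) β := by
  cases β
  · exact cn_one c
  · rfl
theorem cn_of_comm {x c : G} (h : Commute x c) : cn x c = x := by
  rw [cn, mul_assoc, h.eq, inv_mul_cancel_left]
theorem comm_of_cn {x c : G} (h : cn x c = x) : Commute x c := by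
  have : c * (c⁻¹ * x * c) = c * x := by rw [show c⁻¹ * x * c = x from h]
  rw [← mul_assoc, ← mul_assoc, mul_inv_cancel, one_mul] at this
  exact this
theorem cn_mem {S : Subgroup G} {x c : G} (hc : c ∈ normalizer (S : Set G)) (h : x ∈ S) :
    cn x c ∈ S := by
  have := (mem_normalizer_iff''.1 hc x).1 h
  exact this
theorem cn_mem' {S : Subgroup G} {x c : G} (hc : c ∈ S) (h : x ∈ S) : cn x c ∈ S :=
  mul_mem (mul_mem (inv_mem hc) h) hc
theorem isConj_cn (x c : G) : IsConj x (cn x c) := isConj_iff.2 ⟨c⁻¹, by simp [cn]⟩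
theorem cn_sq {x : G} (h : x * x = 1) (c : G) : cn x c * cn x c = 1 := by
  rw [← cn_mul, h, cn_one]
theorem mul_cn (x c : G) : c * cn x c = x * c := by simp only [cn]; group

theorem ea_comm {A : Subgroup G} (h : EA A) {x y : G} (hx : x ∈ A) (hy : y ∈ A) : Commute x y := by
  have h1 := h _ (mul_mem hx hy)
  have e1 : x⁻¹ = x := inv_eq_of_mul_eq_one_right (h x hx)
  have e2 : y⁻¹ = y := inv_eq_of_mul_eq_one_right (h y hy)
  have : (x * y)⁻¹ = x * y := inv_eq_of_mul_eq_one_right h1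
  rw [mul_inv_rev, e1, e2] at this
  exact this.symm

theorem ea_two {A : Subgroup G} (h : EA A) : IsPGroup 2 A := fun g =>
  ⟨1, Subtype.ext (by simpa [pow_two] using h g g.2)⟩

theorem ea_cj {A : Subgroup G} (h : EA A) (g : G) : EA (cj g A) := by
  rintro _ ⟨y, hy, rfl⟩
  change g * y * g⁻¹ * (g * y * g⁻¹) = 1
  rw [conj_mul, h y hy, mul_one, mul_inv_cancel]

theorem mem_cj' {A : Subgroup G} {x : G} (g : G) (h : x ∈ A) : cn x g ∈ cj g⁻¹ A := by
  rw [mem_cj]; simpa [cn, mul_assoc] using h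

theorem cj_ex' {A : Subgroup G} {x g : G} (h : x ∈ cj g⁻¹ A) : ∃ y ∈ A, x = cn y g := by
  obtain ⟨y, hy, rfl⟩ := h
  exact ⟨y, hy, by simp [cn]⟩

theorem norm_of [Finite G] {S : Subgroup G} {d : G} (h : ∀ x ∈ S, cn x d ∈ S) :
    d ∈ normalizer (S : Set G) := by
  have : d⁻¹ ∈ normalizer (S : Set G) := mem_normalizer_of_cj_le (fun x hx => by
    obtain ⟨y, hy, rfl⟩ := cj_ex' hx
    exact h y hy)
  simpa using inv_mem this

theorem cn_closure {s : Set G} {S : Subgroup G} {d : G} (h : ∀ x ∈ s, cn x d ∈ S) :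
    ∀ x ∈ closure s, cn x d ∈ S := by
  intro x hx
  induction hx using closure_induction with
  | mem x hx => exact h x hx
  | one => rw [cn_one]; exact one_mem _
  | mul x y _ _ a b => rw [cn_mul]; exact mul_mem a b
  | inv x _ a => rw [cn_inv]; exact inv_mem a

/-- `S ⊔ ⟨c⟩ = S ∪ c S` -/
theorem dec_zp {S : Subgroup G} {c x : G} (hc : c ∈ normalizer (S : Set G)) (h2 : c * c ∈ S)
    (hx : x ∈ S ⊔ zpowers c) : ∃ β : Bool, (pw c β)⁻¹ * x ∈ S := by
  obtain ⟨p, hp, s, hs, rfl⟩ := (mem_sup_of_le_normalizer' (A := zpowers c) (B := S)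
    (zpowers_le.2 hc)).1 (sup_comm S _ ▸ hx)
  obtain ⟨n, rfl⟩ := mem_zpowers_iff.1 hp
  rcases Int.even_or_odd' n with ⟨j, rfl | rfl⟩
  · refine ⟨false, ?_⟩
    rw [pw_f, inv_one, one_mul, zpow_mul, zpow_two]
    exact mul_mem (zpow_mem h2 j) hs
  · refine ⟨true, ?_⟩
    rw [pw_t, add_comm, zpow_one_add, zpow_mul, zpow_two, mul_assoc, inv_mul_cancel_left]
    exact mul_mem (zpow_mem h2 j) hs

theorem two_le_of_lt [Finite G] {A B : Subgroup G} (h : A < B) : 2 * Nat.card A ≤ Nat.card B := by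
  obtain ⟨c, hc⟩ := card_dvd_of_le h.le
  have h1 : Nat.card A < Nat.card B := by
    refine lt_of_le_of_ne (card_le_of_le h.le) fun e => h.ne (eq_of_le_of_card_ge h.le e.ge)
  have h2 : 0 < Nat.card A := Nat.card_pos
  rw [hc] at h1 ⊢
  have : 2 ≤ c := by
    by_contra hh
    have : c ≤ 1 := by omega
    nlinarith
  nlinarith

/-- index at most two -/
theorem le_two [Finite G] {A B : Subgroup G}
    (h : ∀ x ∈ A, ∀ y ∈ A, x ∉ B → y ∉ B → x * y ∈ B) :
    Nat.card A ≤ 2 * Nat.card (A ⊓ B : Subgroup G) := by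
  by_cases hA : A ≤ B
  · rw [inf_eq_left.2 hA]; omega
  obtain ⟨c, hc, hcB⟩ := SetLike.not_le_iff_exists.1 hA
  have h2 : (B.subgroupOf A).index = 2 := by
    rw [index_eq_two_iff]
    refine ⟨⟨c, hc⟩, fun b => ?_⟩
    simp only [mem_subgroupOf, coe_mul]
    by_cases hb : (b : G) ∈ B
    · exact Or.inr ⟨hb, fun e => hcB (by simpa using mul_mem (inv_mem hb) e)⟩
    · exact Or.inl ⟨h _ b.2 _ hc hb hcB, hb⟩
  have h3 := (B.subgroupOf A).card_mul_index
  rw [h2] at h3
  have h4 : Nat.card (B.subgroupOf A) = Nat.card (A ⊓ B : Subgroup G) := by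
    rw [← inf_subgroupOf_right, inf_comm]
    exact Nat.card_congr (subgroupOfEquivOfLe inf_le_left).toEquiv
  omega

theorem core_calc {A B M N A' B' M' N' c1 c2 c3 c4 : G} (S : Subgroup G)
    (k1 : ∀ u ∈ S, c1 * u = u * c1) (k2 : ∀ u ∈ S, c2 * u = u * c2)
    (k3 : ∀ u ∈ S, c3 * u = u * c3) (k4 : ∀ u ∈ S, c4 * u = u * c4)
    (hM : M ∈ S) (hN : N ∈ S) (hB' : B' ∈ S) (hM' : M' ∈ S) (hN' : N' ∈ S)
    (h1 : B * A' = A' * B * c1) (h2 : M * A' = A' * M) (h3 : N * A' = A' * N * c2)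
    (h4 : M * B' = B' * M * c3) (h5 : N * B' = B' * N) (h6 : N * M' = M' * N * c4) :
    A * B * M * N * (A' * B' * M' * N') =
      A * A' * (B * B') * (M * M') * (N * N') * (c3 * c4 * c1 * c2) := by
  have e2 := k2 (B' * M' * N') (mul_mem (mul_mem hB' hM') hN')
  have e1 := k1 (M * B' * N * M' * N')
    (mul_mem (mul_mem (mul_mem (mul_mem hM hB') hN) hM') hN')
  have e3 := k3 (M' * N * N') (mul_mem (mul_mem hM' hN) hN')
  have e4 := k4 N' hN'
  calc A * B * M * N * (A' * B' * M' * N') = A * B * M * (N * A') * (B' * M' * N') := by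
        simp only [mul_assoc]
    _ = A * B * (M * A') * N * (c2 * (B' * M' * N')) := by rw [h3]; simp only [mul_assoc]
    _ = A * (B * A') * M * (N * B') * M' * N' * c2 := by rw [h2, e2]; simp only [mul_assoc]
    _ = A * A' * B * (c1 * (M * B' * N * M' * N')) * c2 := by rw [h1, h5]; simp only [mul_assoc]
    _ = A * A' * B * (M * B') * (N * M') * N' * c1 * c2 := by rw [e1]; simp only [mul_assoc]
    _ = A * A' * B * B' * M * c3 * M' * N * (c4 * N') * c1 * c2 := by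
        rw [h4, h6]; simp only [mul_assoc]
    _ = A * A' * B * B' * M * (c3 * (M' * N * N')) * c4 * c1 * c2 := by
        rw [e4]; simp only [mul_assoc]
    _ = _ := by rw [e3]; simp only [mul_assoc]

/-! ### The context -/

def zx (h : EN G) (p : Bool × Bool) : G := pw h.z p.1 * pw h.x p.2

def wd (h : EN G) (v : V) : G := pw h.a v.1 * pw h.b v.2.1 * pw h.m v.2.2.1 * pw h.n v.2.2.2

/-- `u` has coordinates `v` -/
def Co (h : EN G) (u : G) (v : V) : Prop := (wd h v)⁻¹ * u ∈ h.ZU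

def Acts (h : EN G) (c : G) (σ : V → V) : Prop :=
  c ∈ normalizer (h.U : Set G) ∧ ∀ u v, Co h u v → Co h (cn u c) (σ v)

/-- `u ∈ g ^ i t ^ j U` -/
def In3 (h : EN G) (u : G) (i j : Bool) : Prop := (pw h.g i * pw h.t j)⁻¹ * u ∈ h.U

structure Cx (h : EN G) (l : Bool) : Prop where
  K : Kit h.toHyp
  u1 : ∀ u ∈ h.U, ¬ IsConj h.t u
  u2 : ∀ u ∈ h.U, (h.t * u) * (h.t * u) = 1 → ∃ v ∈ h.U, cn h.t v = h.t * u ∨
      (h.y = 1 ∧ cn (h.t * h.f) v = h.t * u)
  c32 : 32 ≤ Nat.card h.K1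
  p3 : IsPGroup 2 h.T3
  n3 : h.T3 ≤ normalizer (h.U : Set G)
  b2 : h.Big h.T2
  zu : h.U ⊓ centralizer (h.U : Set G) = h.ZU
  tT : h.T ≤ h.T3
  hl : h.m * h.n * h.m * h.n = zx h (l, true)

section Basic

variable (h : EN G)

theorem zU : h.z ∈ h.U := subset_closure (by simp)
theorem fU : h.f ∈ h.U := subset_closure (by simp)
theorem xU : h.x ∈ h.U := subset_closure (by simp)
theorem yU : h.y ∈ h.U := subset_closure (by simp)
theorem aU : h.a ∈ h.U := subset_closure (by simp)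
theorem bU : h.b ∈ h.U := subset_closure (by simp)
theorem mU : h.m ∈ h.U := subset_closure (by simp)
theorem nU : h.n ∈ h.U := subset_closure (by simp)
theorem zZ : h.z ∈ h.ZU := subset_closure (by simp)
theorem fZ : h.f ∈ h.ZU := subset_closure (by simp)
theorem xZ : h.x ∈ h.ZU := subset_closure (by simp)
theorem yZ : h.y ∈ h.ZU := subset_closure (by simp)
theorem ZU_le : h.ZU ≤ h.U := closure_mono (by intro x; simp only [Set.mem_insert_iff, Set.mem_singleton_iff]; tauto)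
theorem ZK1 : h.ZU ≤ h.K1 := closure_mono (by intro x; simp only [Set.mem_insert_iff, Set.mem_singleton_iff]; tauto)
theorem K1U : h.K1 ≤ h.U := closure_mono (by intro x; simp only [Set.mem_insert_iff, Set.mem_singleton_iff]; tauto)
theorem UT2 : h.U ≤ h.T2 := closure_mono (by intro x; simp only [Set.mem_insert_iff, Set.mem_singleton_iff]; tauto)
theorem T23 : h.T2 ≤ h.T3 := closure_mono (by intro x; simp only [Set.mem_insert_iff, Set.mem_singleton_iff]; tauto)
theorem UT3 : h.U ≤ h.T3 := (UT2 h).trans (T23 h)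
theorem aK1 : h.a ∈ h.K1 := subset_closure (by simp)
theorem mK1 : h.m ∈ h.K1 := subset_closure (by simp)
theorem tT2 : h.t ∈ h.T2 := subset_closure (by simp)
theorem tT3 : h.t ∈ h.T3 := subset_closure (by simp)
theorem gT3 : h.g ∈ h.T3 := subset_closure (by simp)
theorem zxZ (p : Bool × Bool) : zx h p ∈ h.ZU := mul_mem (pw_mem (zZ h) _) (pw_mem (xZ h) _)
theorem wdU (v : V) : wd h v ∈ h.U :=
  mul_mem (mul_mem (mul_mem (pw_mem (aU h) _) (pw_mem (bU h) _)) (pw_mem (mU h) _)) (pw_mem (nU h) _)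

theorem T2_eq : h.T2 = h.U ⊔ zpowers h.t := by
  rw [TT.T2, TT.U, zpowers_eq_closure, ← Subgroup.closure_union]
  congr 1
  ext x; simp only [Set.mem_insert_iff, Set.mem_singleton_iff, Set.mem_union]; tauto

theorem T3_eq : h.T3 = h.T2 ⊔ zpowers h.g := by
  rw [TT.T3, TT.T2, zpowers_eq_closure, ← Subgroup.closure_union]
  congr 1
  ext x; simp only [Set.mem_insert_iff, Set.mem_singleton_iff, Set.mem_union]; tauto

theorem z_eq : h.z = h.a⁻¹ * cn h.a h.b := by rw [h.ab, inv_mul_cancel_left]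

theorem tz : Commute h.t h.z := by
  rw [z_eq]
  exact h.ta.inv_right.mul_right ((h.tb.inv_right.mul_right h.ta).mul_right h.tb)

theorem zL : h.z ∈ h.L := by
  have : closure {h.a, h.b} ≤ h.L := h.LiT ▸ inf_le_left
  have ha : h.a ∈ h.L := this (subset_closure (by simp))
  have hb : h.b ∈ h.L := this (subset_closure (by simp))
  rw [z_eq]
  exact mul_mem (inv_mem ha) (cn_mem' hb ha)

theorem f1 : h.f ≠ 1 := fun e => h.fL (e ▸ one_mem _)
theorem fz : h.f ≠ h.z := fun e => h.fL (e ▸ zL h)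

theorem xt : ¬ Commute h.t h.x := fun e => h.z1 (by
  have := h.tx
  rw [cn_of_comm e] at this
  exact (mul_eq_left.1 this.symm))

theorem zx_one {p : Bool × Bool} (e : zx h p = 1) : p = o2 := by
  obtain ⟨α, β⟩ := p
  cases α <;> cases β
  · rfl
  · simp only [zx, pw_f, pw_t, one_mul] at e
    exact (xt h (e ▸ Commute.one_right _)).elim
  · simp only [zx, pw_f, pw_t, mul_one] at e
    exact (h.z1 e).elim
  · simp only [zx, pw_t] at e
    exact (xt h ((eq_inv_of_mul_eq_one_right e) ▸ (tz h).inv_right)).elim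

theorem zx_o2 : zx h o2 = 1 := by simp [zx, o2]

theorem f_zx (p : Bool × Bool) : h.f ≠ zx h p := by
  obtain ⟨α, β⟩ := p
  intro e
  cases α <;> cases β
  · simp only [zx, pw_f, mul_one] at e
    exact f1 h e
  · simp only [zx, pw_f, pw_t, one_mul] at e
    exact xt h (e ▸ h.tf)
  · simp only [zx, pw_f, pw_t, mul_one] at e
    exact fz h e
  · simp only [zx, pw_t] at e
    refine xt h ?_
    rw [show h.x = h.z⁻¹ * h.f by rw [e, inv_mul_cancel_left]]
    exact (tz h).inv_right.mul_right h.tf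

/-- the action of `g` -/
theorem gf : cn h.a h.g = h.b ∧ cn h.b h.g = h.a ∧ cn h.f h.g = h.f * h.z ∧
    (cn h.t h.g = h.t ∨ cn h.t h.g = h.t * h.f * h.z) ∧ h.g * h.g ∈ h.ZU ∧ cn h.m h.g = h.n := by
  have h1 : h.g * h.g ∈ h.ZU := by
    rcases h.gg' with ⟨a, b, -⟩ | ⟨-, -, a | a⟩
    · rw [a, b]; exact one_mem _
    · rw [a]; exact xZ h
    · rw [a]; exact mul_mem (xZ h) (zZ h)
  have h2 : h.g = h.e → cn h.a h.g = h.b ∧ cn h.b h.g = h.a ∧ cn h.f h.g = h.f * h.z ∧
      (cn h.t h.g = h.t ∨ cn h.t h.g = h.t * h.f * h.z) := fun e => by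
    obtain ⟨a, b, c, -⟩ := h.he.resolve_left (e ▸ h.g1)
    rw [e]
    exact ⟨a, b, c, Or.inl (cn_of_comm h.te)⟩
  have h3 := (h.sw h.g1).2.1
  rcases h.alt with ⟨-, e, -⟩ | ⟨-, -, a, b, c, d, -⟩ | ⟨-, e, -⟩
  · obtain ⟨a, b, c, d⟩ := h2 e
    exact ⟨a, b, c, d, h1, h3⟩
  · exact ⟨a, b, c, Or.inr d, h1, h3⟩
  · obtain ⟨a, b, c, d⟩ := h2 e
    exact ⟨a, b, c, d, h1, h3⟩

theorem mt : cn h.m h.t = h.m * h.a := by
  have e : h.t * h.m = h.m * (h.t * h.a) := by rw [← h.tm, mul_cn]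
  have e1 : h.t⁻¹ = h.t := inv_eq_of_mul_eq_one_right h.tt
  rw [cn, e1, e, mul_assoc, mul_assoc, ← h.ta.eq, ← mul_assoc h.t, h.tt, one_mul]

theorem nt : cn h.n h.t = h.n * h.b := by
  have e : h.t * h.n = h.n * (h.t * h.b) := by rw [← h.tn, mul_cn]
  have e1 : h.t⁻¹ = h.t := inv_eq_of_mul_eq_one_right h.tt
  rw [cn, e1, e, mul_assoc, mul_assoc, ← h.tb.eq, ← mul_assoc h.t, h.tt, one_mul]

end Basic

namespace Cx

variable [Finite G] {h : EN G} {l : Bool} (c : Cx h l)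
include c

theorem cen {z : G} (hz : z ∈ h.ZU) : ∀ u ∈ h.U, z * u = u * z := fun u hu => by
  rw [← c.zu] at hz
  exact (mem_centralizer_iff.1 hz.2 u hu).symm

theorem eaZ : EA h.ZU := by
  intro z hz
  induction hz using closure_induction with
  | mem x hx =>
    simp only [Set.mem_insert_iff, Set.mem_singleton_iff] at hx
    rcases hx with rfl | rfl | rfl | rfl
    exacts [h.zz, h.ff, h.xx, h.yy]
  | one => simp
  | mul x y hx hy a b =>
    have := c.cen hx y (ZU_le h hy)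
    calc x * y * (x * y) = x * (y * x) * y := by simp only [mul_assoc]
      _ = (x * x) * (y * y) := by rw [← this]; simp only [mul_assoc]
      _ = 1 := by rw [a, b, mul_one]
  | inv x _ a => rw [← mul_inv_rev, a, inv_one]

theorem zx_mul (p q : Bool × Bool) : zx h p * zx h q = zx h (ad2 p q) := by
  have e : h.x * h.z = h.z * h.x := c.cen (xZ h) _ (zU h)
  calc zx h p * zx h q = pw h.z p.1 * (pw h.x p.2 * pw h.z q.1) * pw h.x q.2 := by
        simp only [zx, mul_assoc]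
    _ = (pw h.z p.1 * pw h.z q.1) * (pw h.x p.2 * pw h.x q.2) := by
        rw [pw_cm e]; simp only [mul_assoc]
    _ = _ := by rw [pw_mul h.zz, pw_mul h.xx]; rfl

theorem zx_inj {p q : Bool × Bool} (e : zx h p = zx h q) : p = q := by
  have h1 : zx h (ad2 p q) = 1 := by rw [← c.zx_mul, e, c.eaZ _ (zxZ h q)]
  have := zx_one h h1
  revert this
  generalize p = p; generalize q = q
  revert p q
  decide

theorem nZ {d : G} (hd : d ∈ normalizer (h.U : Set G)) : d ∈ normalizer (h.ZU : Set G) := by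
  rw [← c.zu]
  exact le_normalizer_inf le_rfl (normalizer_le_normalizer_centralizer _) hd

theorem sw_of {x y z : G} (hz : z ∈ h.ZU) (e : cn x y = x * z) : y * x = x * y * z := by
  have h1 : x * y = y * (x * z) := by rw [← e, mul_cn]
  rw [h1, mul_assoc, mul_assoc, c.eaZ z hz, mul_one]

theorem wd_mul (v w : V) : wd h v * wd h w = wd h (add v w) * zx h (cc l v w) := by
  have r1 := c.sw_of (zZ h) h.ab
  have r3 := c.sw_of (xZ h) (h.wx' ▸ h.an : cn h.a h.n = h.a * h.x)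
  have r4 := c.sw_of (xZ h) h.bm
  have r6 : h.n * h.m = h.m * h.n * zx h (l, true) := by
    have e := c.eaZ _ (zxZ h (l, true))
    have e1 : h.n * h.m * (h.m * h.n * h.m * h.n) = h.m * h.n := by
      calc _ = h.n * (h.m * h.m) * h.n * h.m * h.n := by simp only [mul_assoc]
        _ = _ := by rw [h.mm, mul_one, h.nn, one_mul]
    rw [← e1, c.hl, mul_assoc (h.n * h.m), e, mul_one]
  have := core_calc (A := pw h.a v.1) (N' := pw h.n w.2.2.2) h.U
    (c.cen (pw_mem (zZ h) (v.2.1 && w.1))) (c.cen (pw_mem (xZ h) (v.2.2.2 && w.1)))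
    (c.cen (pw_mem (xZ h) (v.2.2.1 && w.2.1))) (c.cen (pw_mem (zxZ h (l, true)) (v.2.2.2 && w.2.2.1)))
    (pw_mem (mU h) _) (pw_mem (nU h) _) (pw_mem (bU h) _) (pw_mem (mU h) _) (pw_mem (nU h) _)
    (pw_sw r1 _ _) (pw_cm h.ma.eq _ _) (pw_sw r3 _ _) (pw_sw r4 _ _) (pw_cm h.nb.eq _ _)
    (pw_sw r6 _ _)
  rw [wd, wd, this, pw_mul h.aa, pw_mul h.bb, pw_mul h.mm, pw_mul h.nn]
  congr 1
  have q1 : ∀ β, pw h.z β = zx h (β, false) := fun β => by simp [zx]
  have q2 : ∀ β, pw h.x β = zx h (false, β) := fun β => by simp [zx]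
  have q3 : ∀ β, pw (zx h (l, true)) β = zx h (l && β, β) := fun β => by cases β <;> simp [zx]
  rw [q1, q2, q2, q3, c.zx_mul, c.zx_mul, c.zx_mul]
  congr 1
  obtain ⟨v0, v1, v2, v3⟩ := v
  obtain ⟨w0, w1, w2, w3⟩ := w
  simp only [ad2, cc]
  generalize (v1 && w0) = p1
  generalize (v3 && w0) = p2
  generalize (v2 && w1) = p3
  generalize (v3 && w2) = p4
  generalize (l && p4) = p5
  revert p1 p2 p3 p4 p5
  decide

theorem co_wd (v : V) : Co h (wd h v) v := by
  rw [Co, inv_mul_cancel]; exact one_mem _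

theorem co_Z {z : G} (hz : z ∈ h.ZU) : Co h z vz := by
  simpa [Co, wd, vz] using hz

theorem co_vz {z : G} (hz : Co h z vz) : z ∈ h.ZU := by
  simpa [Co, wd, vz] using hz

theorem co_ex {u : G} {v : V} (k : Co h u v) : ∃ z ∈ h.ZU, u = wd h v * z :=
  ⟨_, k, (mul_inv_cancel_left _ _).symm⟩

theorem co_of (v : V) {z : G} (hz : z ∈ h.ZU) : Co h (wd h v * z) v := by
  rwa [Co, inv_mul_cancel_left]

theorem co_U {u : G} {v : V} (k : Co h u v) : u ∈ h.U := by
  obtain ⟨z, hz, rfl⟩ := c.co_ex k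
  exact mul_mem (wdU h v) (ZU_le h hz)

theorem mul_eq (v w : V) {z z' : G} (hz : z ∈ h.ZU) :
    wd h v * z * (wd h w * z') = wd h (add v w) * (zx h (cc l v w) * (z * z')) := by
  calc _ = wd h v * (z * wd h w) * z' := by simp only [mul_assoc]
    _ = (wd h v * wd h w) * (z * z') := by rw [c.cen hz _ (wdU h w)]; simp only [mul_assoc]
    _ = _ := by rw [c.wd_mul, mul_assoc]

theorem co_mul {u u' : G} {v w : V} (k : Co h u v) (k' : Co h u' w) : Co h (u * u') (add v w) := by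
  obtain ⟨z, hz, rfl⟩ := c.co_ex k
  obtain ⟨z', hz', rfl⟩ := c.co_ex k'
  rw [c.mul_eq _ _ hz]
  exact c.co_of _ (mul_mem (zxZ h _) (mul_mem hz hz'))

theorem co_mulZ {u z : G} {v : V} (k : Co h u v) (hz : z ∈ h.ZU) : Co h (u * z) v := by
  rw [Co, ← mul_assoc]; exact mul_mem k hz

theorem co_sq {u : G} {v : V} (k : Co h u v) : u * u = zx h (cc l v v) := by
  obtain ⟨z, hz, rfl⟩ := c.co_ex k
  rw [c.mul_eq _ _ hz, c.eaZ z hz, mul_one, add_self]
  simp [wd, vz]

theorem co_inv {u : G} {v : V} (k : Co h u v) : Co h u⁻¹ v := by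
  have : u⁻¹ = u * (u * u)⁻¹ := by group
  rw [this, c.co_sq k]
  exact c.co_mulZ k (inv_mem (zxZ h _))

theorem co_inv2 {u : G} {v : V} (k : Co h u v) (e : u * u = 1) : cc l v v = o2 :=
  zx_one h (c.co_sq k ▸ e)

theorem co_sq1 {u : G} {v : V} (k : Co h u v) (e : cc l v v = o2) : u * u = 1 := by
  rw [c.co_sq k, e, zx_o2]

theorem co_sw {u u' : G} {v w : V} (k : Co h u v) (k' : Co h u' w) :
    u * u' = u' * u * zx h (ad2 (cc l w v) (cc l v w)) := by
  obtain ⟨z, hz, rfl⟩ := c.co_ex k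
  obtain ⟨z', hz', rfl⟩ := c.co_ex k'
  rw [c.mul_eq _ _ hz, c.mul_eq _ _ hz', add_cm v w, ← c.zx_mul, c.cen hz' _ (ZU_le h hz),
    c.cen (zxZ h (cc l w v)) _ (ZU_le h (mul_mem hz hz')),
    c.cen (zxZ h (cc l v w)) _ (ZU_le h (mul_mem hz hz'))]
  simp only [mul_assoc]
  rw [← mul_assoc (zx h (cc l w v)), c.eaZ _ (zxZ h _), one_mul]

theorem co_cm {u u' : G} {v w : V} (k : Co h u v) (k' : Co h u' w) :
    Commute u u' ↔ cc l v w = cc l w v := by
  have e := c.co_sw k k'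
  constructor
  · intro h1
    rw [h1.eq] at e
    have := zx_one h (mul_eq_left.1 e.symm)
    revert this
    generalize cc l v w = p; generalize cc l w v = q
    revert p q; decide
  · intro h1
    rw [h1, show ad2 (cc l w v) (cc l w v) = o2 by generalize cc l w v = q; revert q; decide,
      zx_o2, mul_one] at e
    exact e

theorem co_a : Co h h.a va := by simpa [wd, va] using c.co_wd va
theorem co_b : Co h h.b vb := by simpa [wd, vb] using c.co_wd vb
theorem co_m : Co h h.m vm := by simpa [wd, vm] using c.co_wd vm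
theorem co_n : Co h h.n vn := by simpa [wd, vn] using c.co_wd vn

theorem ex_co {u : G} (hu : u ∈ h.U) : ∃ v, Co h u v := by
  induction hu using closure_induction with
  | mem x hx =>
    simp only [Set.mem_insert_iff, Set.mem_singleton_iff] at hx
    rcases hx with rfl | rfl | rfl | rfl | rfl | rfl | rfl | rfl
    exacts [⟨_, c.co_Z (zZ h)⟩, ⟨_, c.co_Z (fZ h)⟩, ⟨_, c.co_Z (xZ h)⟩, ⟨_, c.co_Z (yZ h)⟩,
      ⟨_, c.co_a⟩, ⟨_, c.co_b⟩, ⟨_, c.co_m⟩, ⟨_, c.co_n⟩]
  | one => exact ⟨_, c.co_Z (one_mem _)⟩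
  | mul x y _ _ a b =>
    obtain ⟨v, a⟩ := a
    obtain ⟨w, b⟩ := b
    exact ⟨_, c.co_mul a b⟩
  | inv x _ a =>
    obtain ⟨v, a⟩ := a
    exact ⟨_, c.co_inv a⟩

theorem co_zero {u : G} {v : V} (k : Co h u v) (hu : u ∈ h.ZU) : v = vz := by
  have h1 := (c.co_cm k c.co_a).1 (c.cen hu _ (aU h))
  have h2 := (c.co_cm k c.co_b).1 (c.cen hu _ (bU h))
  have h3 := (c.co_cm k c.co_m).1 (c.cen hu _ (mU h))
  exact d_zero l v h1 h2 h3

theorem co_same {u u' : G} {v : V} (k : Co h u v) (k' : Co h u' v) : u * u' ∈ h.ZU := by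
  have := c.co_mul k k'
  rw [add_self] at this
  exact c.co_vz this

theorem co_uniq {u : G} {v w : V} (k : Co h u v) (k' : Co h u w) : v = w := by
  exact add_eq _ _ (c.co_zero (c.co_mul k k') (c.co_same k k))

theorem co_pw {u : G} {v : V} (k : Co h u v) (β : Bool) : Co h (pw u β) (sm β v) := by
  cases β
  · exact c.co_Z (one_mem _)
  · exact k

theorem acts_lin {d : G} (hd : d ∈ normalizer (h.U : Set G)) {A B M N : V}
    (hA : Co h (cn h.a d) A) (hB : Co h (cn h.b d) B) (hM : Co h (cn h.m d) M)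
    (hN : Co h (cn h.n d) N) : Acts h d (lin A B M N) := by
  refine ⟨hd, fun u v k => ?_⟩
  obtain ⟨z, hz, rfl⟩ := c.co_ex k
  rw [cn_mul, wd, cn_mul, cn_mul, cn_mul, cn_pw, cn_pw, cn_pw, cn_pw]
  exact c.co_mulZ (c.co_mul (c.co_mul (c.co_mul (c.co_pw hA _) (c.co_pw hB _)) (c.co_pw hM _))
    (c.co_pw hN _)) (cn_mem (c.nZ hd) hz)

theorem acts_U {d : G} (hd : d ∈ h.U) : Acts h d id := by
  refine ⟨le_normalizer hd, fun u v k => ?_⟩
  obtain ⟨w, k'⟩ := c.ex_co hd
  rw [cn, mul_assoc, c.co_sw k k', mul_assoc, inv_mul_cancel_left]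
  exact c.co_mulZ k (zxZ h _)

theorem acts_mul {d d' : G} {σ τ : V → V} (k : Acts h d σ) (k' : Acts h d' τ) :
    Acts h (d * d') (τ ∘ σ) :=
  ⟨mul_mem k.1 k'.1, fun u v e => by rw [cn_cn]; exact k'.2 _ _ (k.2 _ _ e)⟩

theorem acts_uniq {d : G} {σ τ : V → V} (k : Acts h d σ) (k' : Acts h d τ) (v : V) : σ v = τ v :=
  c.co_uniq (k.2 _ _ (c.co_wd v)) (k'.2 _ _ (c.co_wd v))

theorem acts_congr {d : G} {σ τ : V → V} (k : Acts h d σ) (e : ∀ v, σ v = τ v) : Acts h d τ :=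
  (funext e : σ = τ) ▸ k

theorem acts_t : Acts h h.t σt := by
  refine c.acts_congr (c.acts_lin (c.n3 (tT3 h)) (A := va) (B := vb) (M := add vm va)
    (N := add vn vb) ?_ ?_ ?_ ?_) (by decide)
  · rw [cn_of_comm h.ta.symm]; exact c.co_a
  · rw [cn_of_comm h.tb.symm]; exact c.co_b
  · rw [mt]; exact c.co_mul c.co_m c.co_a
  · rw [nt]; exact c.co_mul c.co_n c.co_b

theorem ng : cn h.n h.g = h.m := by
  obtain ⟨-, -, -, -, a, b⟩ := gf h
  rw [← b, ← cn_cn]
  exact cn_of_comm (c.cen a _ (mU h)).symm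

theorem acts_g : Acts h h.g σg := by
  obtain ⟨a, b, -, -, -, d⟩ := gf h
  refine c.acts_congr (c.acts_lin (c.n3 (gT3 h)) (A := vb) (B := va) (M := vn)
    (N := vm) ?_ ?_ ?_ ?_) (by decide)
  · rw [a]; exact c.co_b
  · rw [b]; exact c.co_a
  · rw [d]; exact c.co_n
  · rw [c.ng]; exact c.co_m

theorem acts_3 (i j : Bool) : Acts h (pw h.g i * pw h.t j) (σ3 i j) := by
  have h1 := c.acts_U (one_mem h.U)
  cases i <;> cases j
  · exact c.acts_mul h1 h1
  · exact c.acts_mul h1 c.acts_t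
  · exact c.acts_mul c.acts_g h1
  · exact c.acts_mul c.acts_g c.acts_t

theorem acts_in {u : G} {i j : Bool} (k : In3 h u i j) : Acts h u (σ3 i j) := by
  have := c.acts_mul (c.acts_3 i j) (c.acts_U k)
  rwa [mul_inv_cancel_left] at this

theorem dec2 {u : G} (hu : u ∈ h.T2) : ∃ j, In3 h u false j := by
  obtain ⟨j, k⟩ := dec_zp (c.n3 (tT3 h)) (h.tt ▸ one_mem _) (T2_eq h ▸ hu)
  exact ⟨j, by simpa [In3] using k⟩

theorem gN2 : h.g ∈ normalizer (h.T2 : Set G) := by
  refine norm_of fun x hx => ?_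
  obtain ⟨j, k⟩ := c.dec2 hx
  have e : x = pw h.t j * ((pw h.g false * pw h.t j)⁻¹ * x) := by simp
  rw [e, cn_mul, cn_pw]
  refine mul_mem (pw_mem ?_ _) (UT2 h (cn_mem (c.n3 (gT3 h)) k))
  rcases (gf h).2.2.2.1 with a | a <;> rw [a]
  · exact tT2 h
  · exact mul_mem (mul_mem (tT2 h) (UT2 h (fU h))) (UT2 h (zU h))

theorem dec3 {u : G} (hu : u ∈ h.T3) : ∃ i j, In3 h u i j := by
  obtain ⟨i, k⟩ := dec_zp c.gN2 (UT2 h (ZU_le h (gf h).2.2.2.2.1)) (T3_eq h ▸ hu)
  obtain ⟨j, k⟩ := c.dec2 k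
  exact ⟨i, j, by simpa [In3, mul_assoc] using k⟩

theorem in_T3 {u : G} {i j : Bool} (k : In3 h u i j) : u ∈ h.T3 := by
  have := mul_mem (mul_mem (pw_mem (gT3 h) i) (pw_mem (tT3 h) j)) (UT3 h k)
  rwa [mul_inv_cancel_left] at this

theorem in_T2 {u : G} {j : Bool} (k : In3 h u false j) : u ∈ h.T2 := by
  have := mul_mem (mul_mem (one_mem h.T2) (pw_mem (tT2 h) j)) (UT2 h k)
  rwa [show (1 : G) = pw h.g false from rfl, mul_inv_cancel_left] at this

theorem in_U {u : G} : In3 h u false false ↔ u ∈ h.U := by simp [In3]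

theorem in_t {u : G} : In3 h u false true ↔ h.t⁻¹ * u ∈ h.U := by simp [In3]

theorem in_of_acts {u : G} {i j : Bool} (hu : u ∈ h.T3) (k : Acts h u (σ3 i j)) : In3 h u i j := by
  obtain ⟨i', j', k'⟩ := c.dec3 hu
  have := c.acts_uniq k (c.acts_in k') vm
  obtain ⟨rfl, rfl⟩ := d_inj _ _ _ _ this
  exact k'

theorem in_mul {u u' : G} {i j i' j' : Bool} (k : In3 h u i j) (k' : In3 h u' i' j') :
    In3 h (u * u') (i ^^ i') (j ^^ j') :=
  c.in_of_acts (mul_mem (c.in_T3 k) (c.in_T3 k'))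
    (c.acts_congr (c.acts_mul (c.acts_in k) (c.acts_in k')) (d_mul _ _ _ _))

theorem f_T2 {u : G} (hu : u ∈ h.T2) : Commute h.f u := by
  obtain ⟨j, k⟩ := c.dec2 hu
  have e : u = pw h.t j * ((pw h.g false * pw h.t j)⁻¹ * u) := by simp
  rw [e]
  refine Commute.mul_right ?_ (c.cen (fZ h) _ k)
  cases j
  · exact Commute.one_right _
  · exact h.tf.symm

/-- elements of `T₃ \ T₂` move `f` -/
theorem f_mov {u : G} {j : Bool} (k : In3 h u true j) : ¬ Commute h.f u := by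
  intro e
  have h1 : h.g⁻¹ * u ∈ h.T2 := by
    have := mul_mem (pw_mem (tT2 h) j) (UT2 h k)
    simpa [mul_assoc] using this
  have h2 : Commute h.f h.g := by
    have := e.mul_right (c.f_T2 h1).inv_right
    simpa using this
  have := (gf h).2.2.1
  rw [cn_of_comm h2] at this
  exact h.z1 (mul_eq_left.1 this.symm)

theorem k1_co {u : G} (hu : u ∈ h.K1) : ∃ α β, Co h u (α, false, β, false) := by
  induction hu using closure_induction with
  | mem x hx =>
    simp only [Set.mem_insert_iff, Set.mem_singleton_iff] at hx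
    rcases hx with rfl | rfl | rfl | rfl | rfl | rfl
    exacts [⟨_, _, c.co_Z (zZ h)⟩, ⟨_, _, c.co_Z (fZ h)⟩, ⟨_, _, c.co_Z (xZ h)⟩,
      ⟨_, _, c.co_Z (yZ h)⟩, ⟨_, _, c.co_a⟩, ⟨_, _, c.co_m⟩]
  | one => exact ⟨_, _, c.co_Z (one_mem _)⟩
  | mul x y _ _ a b =>
    obtain ⟨v, v', a⟩ := a
    obtain ⟨w, w', b⟩ := b
    exact ⟨_, _, c.co_mul a b⟩
  | inv x _ a =>
    obtain ⟨v, v', a⟩ := a
    exact ⟨_, _, c.co_inv a⟩

theorem eaK1 : EA h.K1 := fun u hu => by
  obtain ⟨α, β, k⟩ := c.k1_co hu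
  exact c.co_sq1 k (d_k1 _ _ _)

theorem four_le : 4 * Nat.card h.ZU ≤ Nat.card h.K1 := by
  have ha : h.a ∈ normalizer (h.ZU : Set G) := c.nZ (le_normalizer (aU h))
  have h1 : h.ZU < h.ZU ⊔ zpowers h.a := by
    refine lt_of_le_of_ne le_sup_left fun e => ?_
    have : h.a ∈ h.ZU := e ▸ mem_sup_right (mem_zpowers _)
    exact absurd (c.co_zero c.co_a this) (by decide)
  have h2 : h.ZU ⊔ zpowers h.a < h.K1 := by
    refine lt_of_le_of_ne (sup_le (ZK1 h) (zpowers_le.2 (aK1 h))) fun e => ?_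
    obtain ⟨β, k⟩ := dec_zp ha (h.aa ▸ one_mem _) (e ▸ mK1 h)
    exact d_am β (c.co_zero (c.co_mul (c.co_inv (c.co_pw c.co_a β)) c.co_m) k)
  have := two_le_of_lt h1
  have := two_le_of_lt h2
  omega

/-- the counting argument -/
theorem count {A B : Subgroup G} (h1 : ∀ x ∈ A, ∀ y ∈ A, x ∉ B → y ∉ B → x * y ∈ B)
    (h2 : ∀ x ∈ A, x ∈ B → ∀ y ∈ A, y ∈ B → x ∉ h.ZU → y ∉ h.ZU → x * y ∈ h.ZU)
    (hf : h.f ∉ A) : Nat.card A < Nat.card h.K1 := by
  have e1 := le_two h1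
  have e2 := le_two (A := A ⊓ B) (B := h.ZU) fun x hx y hy => h2 x hx.1 hx.2 y hy.1 hy.2
  have e3 : A ⊓ B ⊓ h.ZU < h.ZU :=
    lt_of_le_of_ne inf_le_right fun e => hf (e.ge (fZ h)).1.1
  have e4 := two_le_of_lt e3
  have e5 := c.four_le
  have e6 : 0 < Nat.card h.ZU := Nat.card_pos
  omega

/-- no elementary subgroup of order `32` centralises a conjugate of `t` -/
theorem no32 {A : Subgroup G} {u : G} (hA : EA A) (hc : 32 ≤ Nat.card A) (hu : IsConj h.t u)
    (k : ∀ x ∈ A, Commute u x) : False := by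
  obtain ⟨g, -, hg⟩ := c.K.into u A hu (ea_two hA) fun x hx =>
    mem_centralizer_singleton_iff.2 (k x hx).symm
  have h1 : cj g⁻¹ A ≤ h.T := fun x hx => by
    obtain ⟨y, hy, rfl⟩ := cj_ex' hx
    exact hg y hy
  have h2 := card_cj g⁻¹ A
  obtain ⟨a, b, -⟩ := c.K.cE
  rcases c.K.j16 _ h1 (ea_cj hA _) (by omega) with e | e <;> rw [e] at h2 <;> omega

end Cx

end Cfsg.Agent.H90.EE3
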