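import Cfsg.Agent.H48.M2Defs

/-! Maximal 2-local subgroups of the Monster, piece BF0. -/

set_option autoImplicit false

namespace Cfsg.Agent.H48.M2

open Cfsg Subgroup Cfsg.Agent.H48 Cfsg.Agent.H48.Rec Cfsg.Agent.H49 Cfsg.Agent.H95.Par
open Cfsg.Agent.H97.Gr (DD ZZ)
open Cfsg.Agent.H97.Yt (M)

namespace BF0

theorem card_le_two {G : Type*} [Group G] [Finite G] {Y Q : Subgroup G}
    (h : ∀ x ∈ Y, ∀ y ∈ Y, x ∉ Q → y ∉ Q → x * y ∈ Q) : Nat.card Y ≤ 2 * Nat.card ↥(Y ⊓ Q) := by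
  classical
  by_cases hl : Y ≤ Q
  · rw [inf_eq_left.2 hl]; omega
  obtain ⟨t, ht, hq⟩ := SetLike.not_le_iff_exists.1 hl
  have := Nat.card_le_card_of_injective (fun y : Y => if hy : (y : G) ∈ Q then
    (Sum.inl ⟨y, y.2, hy⟩ : ↥(Y ⊓ Q) ⊕ ↥(Y ⊓ Q)) else
      Sum.inr ⟨t * y, mul_mem ht y.2, h t ht y y.2 hq hy⟩) (fun a b e => by
    by_cases ha : (a : G) ∈ Q <;> by_cases hb : (b : G) ∈ Q <;> simp [ha, hb] at e
    exacts [Subtype.ext (congrArg Subtype.val e :), Subtype.ext (mul_left_cancel (congrArg Subtype.val e :))])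
  rwa [Nat.card_sum, ← two_mul] at this

theorem two_card_le {G : Type*} [Group G] [Finite G] {H K : Subgroup G} (l : H ≤ K) {t : G}
    (ht : t ∈ K) (hn : t ∉ H) : 2 * Nat.card H ≤ Nat.card K := by
  obtain ⟨k, hk⟩ := card_dvd_of_le l
  have h0 : 0 < Nat.card K := Nat.card_pos
  have h1 : k ≠ 1 := by
    rintro rfl
    exact hn (eq_of_le_of_card_ge l (by omega) ▸ ht)
  have h2 : k ≠ 0 := by
    rintro rfl
    omega
  rw [hk, mul_comm]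
  exact Nat.mul_le_mul_left _ (by omega)

theorem tt_le (bu : BuStmt) {w w' u : M} (b : Bp w w') (hu : u ∈ U0 w w') (u1 : u ≠ 1) :
    TT w w' ≤ Qz u ⊔ Ak w w' :=
  inf_le_right.trans (sup_le le_sup_right
    ((zpowers_le.2 ((bu w w' b).2.2.2.2.2.2.1 u hu u1).2).trans le_sup_left))

theorem half (bu : BuStmt) (pf : PfStmt) {V : Subgroup M} {w w' u : M} (b : Bp w w')
    (h : V ⊓ Qz w ≤ TT w w') (hu : u ∈ U0 w w') (u1 : u ≠ 1) :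
    Nat.card ↥(V ⊓ Qz w) ≤ 2 * Nat.card ↥(V ⊓ Qz w ⊓ Qz u) :=
  card_le_two fun x hx y hy => (pf _ b.t1.ark).ix u ((bu w w' b).2.2.2.2.1 hu)
    ((bu w w' b).2.2.2.2.2.1 u hu u1).1 x (tt_le bu b hu u1 (h hx)) y (tt_le bu b hu u1 (h hy))

end BF0

open BF0 in
theorem bf0_of (bu : BuStmt) (bd : BdStmt) (bi : BiStmt) (idx : IdxStmt) (pf : PfStmt)
    (ta : TaStmt) : Bf0Stmt := by
  intro R V w w' h hY hY'
  obtain ⟨-, -, c16, -, uA, sg, uq, -⟩ := bu w w' h.bp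
  have el : El (U0 w w') := fun x hx => (pf _ h.bp.t1.ark).el x (uA hx)
  have nU : R ≤ NN (U0 w w') := fun r hr => n_U0 (h.vs.cm hr h.m1.mem) (h.vs.cm hr h.m2.mem)
  obtain ⟨u, hu, uV, u1⟩ := h.vs.fp _ el (by
    intro e
    rw [e, card_bot] at c16
    omega) nU
  obtain ⟨b1, b2⟩ := (bi R V w w' h).2 u hu uV u1
  have c1 := half bu pf h.bp hY hu u1
  have c2 := half bu pf h.bp.symm hY' (U0_comm w w' ▸ hu) u1
  rw [← h.m1.card_eq h.m2] at c2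
  have c0 : 0 < Nat.card ↥(V ⊓ Qz w) := Nat.card_pos
  have c4 : Nat.card ↥(V ⊓ Qz w) ≤ 4 * Nat.card ↥(V ⊓ Qz w ⊓ Qz w') := by
    refine Nat.le_of_mul_le_mul_left ?_ c0
    calc _ ≤ _ := Nat.mul_le_mul c1 c2
      _ = 4 * (Nat.card ↥(V ⊓ Qz w ⊓ Qz u) * Nat.card ↥(V ⊓ Qz w' ⊓ Qz u)) := by ring
      _ ≤ 4 * _ := Nat.mul_le_mul_left _ b2
      _ = _ := by ring
  set Y₁ : Subgroup M := V ⊓ Qz w ⊓ ⨅ (x : M) (_ : x ∈ U0 w w') (_ : x ≠ 1), Qz x with hY₁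
  have mY : ∀ {y}, y ∈ Y₁ ↔ y ∈ V ⊓ Qz w ∧ ∀ x ∈ U0 w w', x ≠ 1 → y ∈ Qz x := by
    intro y
    simp only [hY₁, mem_inf, mem_iInf]
  have d1 : 2 * Nat.card ↥(V ⊓ Qz w ⊓ Qz w') ≤ Nat.card Y₁ :=
    two_card_le (t := w) (fun y hy => mY.2 ⟨hy.1, fun x hx x1 =>
      ((bd w w' h.bp).2 x hx x1).1 ⟨hy.1.2, hy.2⟩⟩)
      (mY.2 ⟨⟨h.m1.mem, (lx h.bp.z1).mem⟩, fun x hx x1 => (uq x hx x1).1⟩)
      fun e => (ta w' w h.bp.t2).2.2.1 e.2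
  obtain ⟨t, ht, tn⟩ := SetLike.not_le_iff_exists.1
    (show ¬ V ⊓ Qz w ≤ Y₁ from fun l => b1 fun y hy => (mY.1 (l hy)).2 u hu u1)
  obtain ⟨N, mN, -, cN⟩ := idx _ _ h.bp.t1.ark uA sg t fun x hx x1 => tt_le bu h.bp hx x1 (hY ht)
  obtain ⟨x, hx, xV, x1⟩ := h.vs.fp N (fun x hx => el x ((mN x).1 hx).1) (by
    intro e
    rw [e, card_bot] at cN
    omega) fun r hr => mem_normalizer_fintype fun n hn => by
      obtain ⟨n1, n2⟩ := (mN n).1 hn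
      refine (mN _).2 ⟨(mem_normalizer_iff.1 (nU hr) n).1 n1, ?_⟩
      by_cases e : n = 1
      · exact .inl (by simp [e])
      · refine .inr ?_
        rw [Qz_cj (sg n n1 e).1, mem_cj, mul_assoc, ← h.vs.cm hr ht.1, inv_mul_cancel_left]
        exact n2.resolve_left e
  obtain ⟨x0, xt⟩ := (mN x).1 hx
  have d2 : 2 * Nat.card Y₁ ≤ Nat.card ↥(V ⊓ Qz w ⊓ Qz x) :=
    two_card_le (fun y hy => ⟨(mY.1 hy).1, (mY.1 hy).2 x x0 x1⟩) ⟨ht, xt.resolve_left x1⟩ tn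
  exact ((bi R V w w' h).2 x x0 xV x1).1
    (inf_eq_left.1 (eq_of_le_of_card_ge inf_le_left (by omega)))

end Cfsg.Agent.H48.M2
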