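import Cfsg.Agent.H78.McDefs
import Cfsg.Agent.H5.PE1
import Cfsg.Agent.H90.MaxClassPow

/-! Uniform elements outside a given proper subgroup. -/

set_option autoImplicit false

namespace Cfsg.Agent.H90.McUni

open Subgroup Cfsg.Agent.H78.Mc Cfsg.Agent.H5 Cfsg.Agent.H5.PE

universe u

theorem low {P : Type u} [Group P] [Finite P] {p : ℕ} [Fact p.Prime] (hP : IsPGroup p P) {x : P}
    (hx : x ∉ center P) : p ^ 2 ≤ Nat.card (centralizer ({x} : Set P)) := by
  have : Nontrivial P := ⟨⟨x, 1, fun e => hx (e ▸ one_mem _)⟩⟩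
  have h1 : (⊥ : Subgroup P) < center P := by
    have := hP.center_nontrivial
    exact bot_lt_iff_ne_bot.2 ((Subgroup.nontrivial_iff_ne_bot _).1 this)
  have h2 : center P < centralizer ({x} : Set P) :=
    lt_of_le_of_ne (center_le_centralizer _) fun e =>
      hx (e ▸ mem_centralizer_singleton_iff.2 rfl)
  have h3 := card_mul_le_of_lt hP h1
  have h4 := card_mul_le_of_lt hP h2
  rw [card_bot, one_mul] at h3
  rw [pow_two]
  exact (Nat.mul_le_mul_right _ h3).trans h4

theorem uni : UniStmt.{u} := by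
  intro P _ _ p n hp hn h3 hcl M hM
  classical
  have hm := maxCl_of_nilpotencyClass (by omega) hn hcl
  have hP : IsPGroup p P := IsPGroup.of_card hn
  have p2 := hp.out.two_le
  rcases Nat.eq_or_lt_of_le h3 with rfl | h4
  · have hz : center P ≠ ⊤ := fun e => hm.ne_bot (by
      show (⊤ : Subgroup P).lowerCentralSeries 1 = ⊥
      rw [eq_bot_iff]
      refine commutator_le.2 fun a _ b _ => ?_
      have : a ∈ center P := e ▸ mem_top a
      rw [mem_bot, commutatorElement_eq_one_iff_mul_comm]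
      exact (mem_center_iff.1 this b).symm)
    obtain ⟨x, hx⟩ := exists_not_mem_of_card_le hP ({M, center P} : Finset (Subgroup P))
      (Finset.card_le_two.trans p2) id (by simp [hM, hz])
    have x1 : x ∉ M := hx M (by simp)
    have x2 : x ∉ center P := hx (center P) (by simp)
    refine ⟨x, x1, le_antisymm ?_ (low hP x2)⟩
    have h5 : centralizer ({x} : Set P) < ⊤ := lt_top_iff_ne_top.2 fun e =>
      x2 (mem_center_iff.2 fun g => mem_centralizer_singleton_iff.1 (e ▸ mem_top g))
    have h6 := card_mul_le_of_lt hP h5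
    rw [card_top, hn, pow_succ] at h6
    exact Nat.le_of_mul_le_mul_right h6 hp.out.pos
  · have h : MX p (⊤ : Subgroup P) (n - 2) :=
      ⟨⟨by rw [card_top]; exact hm.card, hm.ne_bot⟩, by omega⟩
    have ne : ∀ K : Subgroup P, K.relIndex ⊤ = p → K ≠ ⊤ := fun K e e' => by
      rw [e', relIndex_top_left] at e; omega
    obtain ⟨x, hx⟩ := exists_not_mem_of_card_le hP
      ({M, PP ⊤ 0, Kc ⊤ (n - 2 - 1)} : Finset (Subgroup P)) (by
        rcases Nat.eq_or_lt_of_le p2 with e | e
        · rw [h.nx_of (by omega), Finset.pair_eq_singleton]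
          exact Finset.card_le_two.trans p2
        · exact Finset.card_le_three.trans e) id
      (by simp [hM, ne _ h.rel0, ne _ h.relQ])
    have x1 : x ∉ M := hx M (by simp)
    have x2 : x ∉ PP ⊤ 0 := hx (PP ⊤ 0) (by simp)
    have x3 : x ∉ Kc ⊤ (n - 2 - 1) := hx (Kc ⊤ (n - 2 - 1)) (by simp)
    have hu := h.uni_of (mem_top x) x2 x3
    have h5 := h.toMxC.card_centralizer_le h.c2 hu (H := ⊤) le_rfl
    rw [inf_top_eq] at h5
    refine ⟨x, x1, le_antisymm h5 (low hP fun e => x2 ⟨mem_top x, fun y _ => ?_⟩)⟩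
    rw [← mem_center_iff.1 e y]
    simp

end Cfsg.Agent.H90.McUni
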