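import Mathlib
import Cfsg.Agent.H90.MaxClass

/-! Automorphisms of order `p` of metacyclic `p`-groups without cyclic maximal subgroup. -/

set_option autoImplicit false

namespace Cfsg.Agent.H90

open Subgroup
open scoped commutatorElement

variable {G : Type*} [Group G] {p : ℕ}

theorem card_mul_card_le_of_inf_eq_bot' [Finite G] {A B K : Subgroup G} (h : A ⊓ B = ⊥)
    (hA : A ≤ K) (hB : B ≤ K) : Nat.card A * Nat.card B ≤ Nat.card K := by
  have := card_mul_card_le_of_inf_eq_bot (A := A.subgroupOf K) (B := B.subgroupOf K)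
    (by rw [← comap_subtype, ← comap_subtype, ← comap_inf, h, comap_subtype, bot_subgroupOf])
  rwa [Nat.card_congr (subgroupOfEquivOfLe hA).toEquiv,
    Nat.card_congr (subgroupOfEquivOfLe hB).toEquiv] at this

theorem normal_map_inl {N H : Type*} [Group N] [Group H] (φ : H →* MulAut N) (K : Subgroup N)
    [hK : K.Characteristic] :
    (K.map (SemidirectProduct.inl : N →* SemidirectProduct N H φ)).Normal := by
  refine ⟨?_⟩
  rintro _ ⟨k, hk, rfl⟩ g
  refine ⟨g.left * φ g.right k * g.left⁻¹, (inferInstance : K.Normal).conj_mem _ ?_ _, ?_⟩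
  · exact (characteristic_iff_le_comap.1 hK (φ g.right)) hk
  · ext <;> simp

theorem orderOf_pow_pred [hp : Fact p.Prime] {x : G} {e : ℕ} (h : orderOf x = p ^ (e + 1)) :
    orderOf (x ^ p ^ e) = p := by
  rw [orderOf_pow_of_dvd (pow_pos hp.out.pos e).ne' (h ▸ pow_dvd_pow p (Nat.le_succ e)), h,
    pow_succ, Nat.mul_div_cancel_left _ (pow_pos hp.out.pos e)]

section

variable [Finite G] [hp : Fact p.Prime] (h2 : p ≠ 2) (hG : IsPGroup p G) (hm : IsMetacyclic G)
include h2 hG hm

theorem omega_le_powerClosure_of_metacyclic [Nontrivial G]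
    (hnc : ∀ C : Subgroup G, IsCyclic C → C.index ≠ p) :
    (weakReg_of_metacyclic h2 hG hm).omega 1 ≤ powerClosure p 1 ⊤ ∧
      Nat.card ((weakReg_of_metacyclic h2 hG hm).omega 1) = p ^ 2 ∧ p ^ 4 ≤ Nat.card G := by
  set h := weakReg_of_metacyclic h2 hG hm
  obtain ⟨x, y, hinf, -, ho⟩ := exists_factorization h2 hG hm
  have key : ∀ (x y : G) (f : ℕ), orderOf x * orderOf y = Nat.card G → orderOf y = p ^ f →
      ∃ g, f = g + 1 + 1 := by
    intro x y f ho hf
    have h1 := (zpowers x).card_mul_index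
    rw [Nat.card_zpowers, ← ho, hf] at h1
    have h3 := Nat.eq_of_mul_eq_mul_left (orderOf_pos x) h1
    have h4 : f ≠ 1 := by
      rintro rfl
      exact hnc _ inferInstance (h3.trans (pow_one p))
    have h5 : f ≠ 0 := by
      rintro rfl
      have : IsCyclic G := isCyclic_iff_exists_zpowers_eq_top.2 ⟨x, index_eq_one.1 h3⟩
      obtain ⟨M, -, -, hM⟩ := H7.exists_le_index_eq hG (bot_ne_top (α := Subgroup G))
      exact hnc M inferInstance hM
    exact ⟨f - 2, by omega⟩
  obtain ⟨e, he⟩ := IsPGroup.iff_orderOf.1 hG x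
  obtain ⟨f, hf⟩ := IsPGroup.iff_orderOf.1 hG y
  obtain ⟨f, rfl⟩ := key x y f ho hf
  obtain ⟨e, rfl⟩ := key y x e ((mul_comm _ _).trans ho) he
  have hmem : ∀ (x : G) (e : ℕ), orderOf x = p ^ (e + 1 + 1) →
      zpowers (x ^ p ^ (e + 1)) ≤ h.omega 1 ⊓ powerClosure p 1 ⊤ := fun x e he =>
    zpowers_le.2 ⟨h.mem_omega.2 (by rw [← pow_mul, ← pow_add, ← he, pow_orderOf_eq_one]),
      powerClosure_anti (by omega) ⊤ (pow_mem_powerClosure (mem_top x))⟩
  have h1 := card_mul_card_le_of_inf_eq_bot' (le_bot_iff.1 ((inf_le_inf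
    (zpowers_le.2 (pow_mem (mem_zpowers x) _)) (zpowers_le.2 (pow_mem (mem_zpowers y) _))).trans
    hinf.le)) (hmem x e he) (hmem y f hf)
  rw [Nat.card_zpowers, Nat.card_zpowers, orderOf_pow_pred he, orderOf_pow_pred hf, ← sq] at h1
  have h3 : Nat.card (h.omega 1) ≤ p ^ 2 := by
    have := card_dvd_sq_of_metacyclic (H71.isMetacyclic_of_injective hm _
      (h.omega 1).subtype_injective) (e := p ^ 1) fun g => Subtype.ext g.2
    rw [pow_one] at this
    exact Nat.le_of_dvd (pow_pos hp.out.pos _) this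
  have h4 := eq_of_le_of_card_ge (inf_le_left : h.omega 1 ⊓ powerClosure p 1 ⊤ ≤ _) (h3.trans h1)
  refine ⟨h4.ge.trans inf_le_right, le_antisymm h3 (h4 ▸ h1), ?_⟩
  rw [← ho, he, hf, ← pow_add]
  exact Nat.pow_le_pow_right hp.out.pos (by omega)

theorem comm_pow_eq_one_of_pow_sq {x y : G} (hx : x ^ p ^ 2 = 1) (hy : y ^ p ^ 2 = 1) :
    ⁅x, y⁆ ^ p = 1 := by
  set h := weakReg_of_metacyclic h2 hG hm
  have hW := H71.isMetacyclic_of_injective hm _ (h.omega 2).subtype_injective
  have hWp := hG.to_subgroup (h.omega 2)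
  have h1 := card_dvd_sq_of_metacyclic hW (e := p ^ 2) fun g => Subtype.ext g.2
  obtain ⟨n, hn⟩ := H7.card_eq_pow hWp (_root_.commutator (h.omega 2))
  have h3 : n ≤ 1 := by
    rcases subsingleton_or_nontrivial (h.omega 2) with hs | hs
    · have := card_le_card_group (_root_.commutator (h.omega 2))
      rw [hn, Nat.card_of_subsingleton (1 : h.omega 2), ← pow_zero p,
        Nat.pow_le_pow_iff_right hp.out.one_lt] at this
      omega
    have h4 := card_mul_le_of_lt hWp (bot_lt_iff_ne_bot.2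
      ((nontrivial_iff_ne_bot _).1 hWp.center_nontrivial))
    have h5 := (center (h.omega 2)).card_mul_index
    rw [index_center_of_metacyclic h2 hWp hW, hn] at h5
    rw [card_bot, one_mul] at h4
    have h6 := (Nat.mul_le_mul_right _ h4).trans
      (h5.le.trans (Nat.le_of_dvd (pow_pos (pow_pos hp.out.pos _) _) h1))
    rw [← pow_mul, ← pow_mul, ← pow_succ', Nat.pow_le_pow_iff_right hp.out.one_lt] at h6
    omega
  have h4 := pow_card_eq_one' (x := (⟨⁅(⟨x, hx⟩ : h.omega 2), ⟨y, hy⟩⁆,
    commutator_mem_commutator (mem_top _) (mem_top _)⟩ : _root_.commutator (h.omega 2)))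
  rw [hn] at h4
  exact H7.pow_eq_one_of_dvd (congrArg (fun z : _root_.commutator (h.omega 2) => ((z : h.omega 2) : G)) h4)
    ((pow_dvd_pow p h3).trans (pow_one p).dvd)

theorem aut_fix_pow_of_three_lt (h3 : 3 < p) {a : MulAut G} (ha : a ^ p = 1) {d : G}
    (hd : d ^ p ^ 2 = 1) : a (d ^ p) = d ^ p := by
  set h := weakReg_of_metacyclic h2 hG hm
  let S := SemidirectProduct G (zpowers a) (zpowers a).subtype
  let s : S := SemidirectProduct.inr ⟨a, mem_zpowers a⟩
  have hs : s ^ p = 1 := by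
    rw [← map_pow, show (⟨a, mem_zpowers a⟩ : zpowers a) ^ p = 1 from Subtype.ext ha, map_one]
  have : Finite S := Finite.of_equiv _ SemidirectProduct.equivProd.symm
  let W : Subgroup S := (h.omega 2).map SemidirectProduct.inl
  have hWn : W.Normal := normal_map_inl _ _
  have hK : IsPGroup p (zpowers s ⊔ W : Subgroup S) :=
    IsPGroup.to_sup_of_normal_right (isPGroup_zpowers (k := 1) (by rwa [pow_one]))
      ((hG.to_subgroup _).map _)
  have h1 : Nat.card (zpowers s ⊔ W : Subgroup S) ≤ p ^ (4 + 1) := by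
    have h4 := H7.card_sup_mul_card_inf (zpowers s) W
    have h5 : Nat.card W ≤ p ^ 4 := by
      rw [card_map_of_injective SemidirectProduct.inl_injective, show 4 = 2 * 2 from rfl, pow_mul]
      exact Nat.le_of_dvd (pow_pos (pow_pos hp.out.pos _) _) (card_dvd_sq_of_metacyclic
        (H71.isMetacyclic_of_injective hm _ (h.omega 2).subtype_injective)
        fun g => Subtype.ext g.2)
    have h6 : Nat.card (zpowers s) ≤ p := by
      rw [Nat.card_zpowers]
      exact Nat.le_of_dvd hp.out.pos (orderOf_dvd_of_pow_eq_one hs)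
    rw [pow_succ']
    exact (Nat.le_mul_of_pos_right _ Nat.card_pos).trans (h4.le.trans (Nat.mul_le_mul h6 h5))
  have h4 : 4 ≤ p - 1 := by
    have : p ≠ 4 := by rintro rfl; exact absurd hp.out (by decide)
    omega
  have hr := weakReg_of_class_lt hK (le_bot_iff.1
    ((Subgroup.lowerCentralSeries_antitone _ h4).trans
      (lcs_eq_bot_of_card_le hK (by omega) h1).le))
  let d' : (zpowers s ⊔ W : Subgroup S) := ⟨SemidirectProduct.inl d, mem_sup_right ⟨d, hd, rfl⟩⟩
  let s' : (zpowers s ⊔ W : Subgroup S) := ⟨s, mem_sup_left (mem_zpowers s)⟩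
  have h5 := (hr.commute_pow_iff 1 d' s').2 ((hr.commute_pow_right_iff 1 d' s').1 (by
    rw [pow_one, show s' ^ p = 1 from Subtype.ext hs]; exact Commute.one_right _))
  rw [pow_one] at h5
  have h6 : (SemidirectProduct.inl d : S) ^ p * s = s * SemidirectProduct.inl d ^ p :=
    congrArg Subtype.val h5
  rw [← map_pow] at h6
  have h7 : d ^ p * 1 = 1 * a (d ^ p) := by
    have := congrArg SemidirectProduct.left h6
    rwa [SemidirectProduct.mul_left, SemidirectProduct.mul_left, SemidirectProduct.left_inr,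
      map_one] at this
  rw [mul_one, one_mul] at h7
  exact h7.symm

end

end Cfsg.Agent.H90
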