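import Cfsg.Agent.H90.Basic

/-!
Minimal covers by nilpotent subgroups (Bryce–Serena): the case of an abelian Sylow subgroup
lying in a member of the cover.
-/

set_option autoImplicit false

namespace Cfsg.Agent.H90

variable {G : Type*} [Group G]

theorem cover_sup_eq_top {𝓐 : Finset (Subgroup G)}
    (h1 : (∀ A ∈ 𝓐, A ≠ ⊤) ∧ (∀ g : G, ∃ A ∈ 𝓐, g ∈ A))
    (h2 : ∀ 𝓑 : Finset (Subgroup G), (∀ A ∈ 𝓑, A ≠ ⊤) ∧ (∀ g : G, ∃ A ∈ 𝓑, g ∈ A) →
      𝓐.card ≤ 𝓑.card) {A B : Subgroup G} (hA : A ∈ 𝓐) (hB : B ∈ 𝓐) (hne : A ≠ B) :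
    A ⊔ B = ⊤ := by
  classical
  by_contra h
  have := h2 (insert (A ⊔ B) ((𝓐.erase A).erase B)) ⟨?_, ?_⟩
  · have h3 := Finset.card_insert_le (A ⊔ B) ((𝓐.erase A).erase B)
    have h4 : B ∈ 𝓐.erase A := Finset.mem_erase.2 ⟨hne.symm, hB⟩
    have h5 := Finset.card_erase_lt_of_mem h4
    have h6 := Finset.card_erase_lt_of_mem hA
    omega
  · intro C hC
    rcases Finset.mem_insert.1 hC with rfl | hC
    · exact h
    · exact h1.1 C (Finset.mem_of_mem_erase (Finset.mem_of_mem_erase hC))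
  · intro g
    obtain ⟨C, hC, hg⟩ := h1.2 g
    by_cases hCA : C = A
    · exact ⟨_, Finset.mem_insert_self _ _, Subgroup.mem_sup_left (hCA ▸ hg)⟩
    by_cases hCB : C = B
    · exact ⟨_, Finset.mem_insert_self _ _, Subgroup.mem_sup_right (hCB ▸ hg)⟩
    exact ⟨C, Finset.mem_insert_of_mem (by simp [hC, hCA, hCB]), hg⟩

theorem sylow_comm_of_comm [Finite G] {p : ℕ} [Fact p.Prime] {P : Sylow p G}
    (hab : IsMulCommutative ↥(P : Subgroup G)) (Q : Sylow p G) {x y : G}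
    (hx : x ∈ (Q : Subgroup G)) (hy : y ∈ (Q : Subgroup G)) : x * y = y * x := by
  obtain ⟨g, rfl⟩ := MulAction.exists_smul_eq G P Q
  rw [mem_sylow_smul] at hx hy
  have := congrArg Subtype.val (hab.is_comm.comm ⟨_, hx⟩ ⟨_, hy⟩)
  simp only [Subgroup.coe_mul] at this
  calc x * y = g * (g⁻¹ * x * g * (g⁻¹ * y * g)) * g⁻¹ := by group
    _ = g * (g⁻¹ * y * g * (g⁻¹ * x * g)) * g⁻¹ := by rw [this]
    _ = y * x := by group

/-- If the Sylow `p`-subgroups are abelian, a `p`-element of a nilpotent subgroup is central in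
it. -/
theorem comm_of_mem_nilpotent [Finite G] {p : ℕ} [hp : Fact p.Prime] {P : Sylow p G}
    (hab : IsMulCommutative ↥(P : Subgroup G)) {A : Subgroup G} (hA : Group.IsNilpotent A)
    {x y : G} {k : ℕ} (hxp : x ^ p ^ k = 1) (hx : x ∈ A) (hy : y ∈ A) : Commute x y := by
  obtain ⟨a, b, l, h1, h2, h3⟩ := exists_pPart p y
  rw [← h1]
  refine Commute.mul_right ?_ ?_
  · let S : Sylow p A := Sylow.nonempty.some
    have hS : Subgroup.normalizer ((S : Subgroup A) : Set A) = ⊤ :=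
      Subgroup.normalizer_eq_top _
    have hx' : (⟨x, hx⟩ : A) ∈ (S : Subgroup A) :=
      mem_sylow_of_mem_normalizer S (k := k) (Subtype.ext hxp) (hS ▸ Subgroup.mem_top _)
    have hy' : (⟨y ^ a, A.pow_mem hy a⟩ : A) ∈ (S : Subgroup A) :=
      mem_sylow_of_mem_normalizer S (k := l) (Subtype.ext h2) (hS ▸ Subgroup.mem_top _)
    obtain ⟨Q, hQ⟩ := S.exists_comap_subtype_eq
    rw [← hQ] at hx' hy'
    exact sylow_comm_of_comm hab Q hx' hy'
  · have hc : (orderOf (⟨x, hx⟩ : A)).Coprime (orderOf (⟨y ^ b, A.pow_mem hy b⟩ : A)) := by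
      rw [Subgroup.orderOf_mk, Subgroup.orderOf_mk]
      exact Nat.Coprime.coprime_dvd_left (orderOf_dvd_of_pow_eq_one hxp)
        (((Nat.Prime.coprime_iff_not_dvd hp.out).2 h3).pow_left k)
    exact congrArg Subtype.val (commute_of_coprime_of_isNilpotent hc).eq

theorem cover_eq_of_mem [Finite G] (hZ : Subgroup.center G = ⊥) {𝓐 : Finset (Subgroup G)}
    (h𝓐 : ((∀ A ∈ 𝓐, A ≠ ⊤) ∧ (∀ g : G, ∃ A ∈ 𝓐, g ∈ A)) ∧
      (∀ 𝓑 : Finset (Subgroup G), (∀ A ∈ 𝓑, A ≠ ⊤) ∧ (∀ g : G, ∃ A ∈ 𝓑, g ∈ A) →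
        𝓐.card ≤ 𝓑.card) ∧ (∀ A ∈ 𝓐, Group.IsNilpotent ↥A))
    {p : ℕ} [Fact p.Prime] {P : Sylow p G} (hab : IsMulCommutative ↥(P : Subgroup G))
    {A B : Subgroup G} (hA : A ∈ 𝓐) (hB : B ∈ 𝓐) {x : G} {k : ℕ} (hxp : x ^ p ^ k = 1)
    (hx1 : x ≠ 1) (hxA : x ∈ A) (hxB : x ∈ B) : A = B := by
  by_contra hne
  have h1 := cover_sup_eq_top h𝓐.1 h𝓐.2.1 hA hB hne
  have h2 : A ⊔ B ≤ Subgroup.centralizer {x} := by
    refine sup_le ?_ ?_
    · intro y hy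
      rw [Subgroup.mem_centralizer_singleton_iff]
      exact (comm_of_mem_nilpotent hab (h𝓐.2.2 A hA) hxp hxA hy).eq.symm
    · intro y hy
      rw [Subgroup.mem_centralizer_singleton_iff]
      exact (comm_of_mem_nilpotent hab (h𝓐.2.2 B hB) hxp hxB hy).eq.symm
  have h3 : x ∈ Subgroup.center G := by
    rw [Subgroup.mem_center_iff]
    intro g
    exact Subgroup.mem_centralizer_singleton_iff.1 (h2 (h1 ▸ Subgroup.mem_top g))
  rw [hZ] at h3
  exact hx1 h3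

theorem exists_pow_eq_one_of_mem_sylow {p : ℕ} {P : Sylow p G} {x : G}
    (hx : x ∈ (P : Subgroup G)) : ∃ k, x ^ p ^ k = 1 := by
  obtain ⟨k, hk⟩ := P.isPGroup' ⟨x, hx⟩
  exact ⟨k, congrArg Subtype.val hk⟩

/-- Main lemma: every Sylow `p`-subgroup lies in a member of the cover. -/
theorem cover_main [Finite G] (hZ : Subgroup.center G = ⊥) {𝓐 : Finset (Subgroup G)}
    (h𝓐 : ((∀ A ∈ 𝓐, A ≠ ⊤) ∧ (∀ g : G, ∃ A ∈ 𝓐, g ∈ A)) ∧
      (∀ 𝓑 : Finset (Subgroup G), (∀ A ∈ 𝓑, A ≠ ⊤) ∧ (∀ g : G, ∃ A ∈ 𝓑, g ∈ A) →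
        𝓐.card ≤ 𝓑.card) ∧ (∀ A ∈ 𝓐, Group.IsNilpotent ↥A))
    {p : ℕ} [hp : Fact p.Prime] {P : Sylow p G} (hab : IsMulCommutative ↥(P : Subgroup G))
    (hnn : ¬ (P : Subgroup G).Normal) (hall : ∀ Q : Sylow p G, ∃ A ∈ 𝓐, (Q : Subgroup G) ≤ A) :
    (∀ Q : Sylow p G, Subgroup.centralizer ((Q : Subgroup G) : Set G) ∈ 𝓐) ∧
    (∀ Q R : Sylow p G, ∀ x : G, x ≠ 1 → x ∈ (Q : Subgroup G) → x ∈ (R : Subgroup G) → Q = R) ∧
    IsCoatom (Subgroup.normalizer ((P : Subgroup G) : Set G)) ∧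
    ∀ M : Subgroup G, M ≠ ⊤ → Subgroup.centralizer ((P : Subgroup G) : Set G) ≤ M →
      M ≤ Subgroup.normalizer ((P : Subgroup G) : Set G) := by
  have hPne : ∀ Q : Sylow p G, (Q : Subgroup G) ≠ ⊥ := by
    intro Q hQ
    apply hnn
    have : Nat.card (P : Subgroup G) = 1 := by
      rw [Sylow.card_eq_multiplicity, ← Sylow.card_eq_multiplicity Q, hQ, Subgroup.card_bot]
    rw [Subgroup.card_eq_one] at this
    rw [this]; infer_instance
  have hC : ∀ Q : Sylow p G, ∀ A ∈ 𝓐, (Q : Subgroup G) ≤ A →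
      Subgroup.centralizer ((Q : Subgroup G) : Set G) = A := by
    intro Q A hA hQA
    apply le_antisymm
    · intro c hc
      obtain ⟨x, hx, hx1⟩ := (Subgroup.bot_or_exists_ne_one _).resolve_left (hPne Q)
      obtain ⟨k, hk⟩ := exists_pow_eq_one_of_mem_sylow hx
      obtain ⟨a, b, l, h1, h2, h3⟩ := exists_pPart p c
      rw [← h1]
      refine A.mul_mem (hQA ?_) ?_
      · exact mem_sylow_of_mem_normalizer Q h2
          (Subgroup.centralizer_le_normalizer _ (Subgroup.pow_mem _ hc a))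
      · obtain ⟨B, hB, hxB⟩ := h𝓐.1.2 (x * c ^ b)
        have hcomm : Commute x (c ^ b) :=
          Subgroup.mem_centralizer_iff.1 (Subgroup.pow_mem _ hc b) x hx
        have hcop : (orderOf x).Coprime (orderOf (c ^ b)) :=
          Nat.Coprime.coprime_dvd_left (orderOf_dvd_of_pow_eq_one hk)
            (((Nat.Prime.coprime_iff_not_dvd hp.out).2 h3).pow_left k)
        have h4 : x ∈ B := (Subgroup.zpowers_le.2 hxB) (mem_zpowers_mul_of_coprime hcomm hcop)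
        have h5 := cover_eq_of_mem hZ h𝓐 hab hA hB hk hx1 (hQA hx) h4
        rw [h5]
        simpa using B.mul_mem (B.inv_mem h4) hxB
    · intro c hc
      rw [Subgroup.mem_centralizer_iff]
      intro x hx
      obtain ⟨k, hk⟩ := exists_pow_eq_one_of_mem_sylow hx
      exact (comm_of_mem_nilpotent hab (h𝓐.2.2 A hA) hk (hQA hx) hc).eq
  have hC' : ∀ Q : Sylow p G, Subgroup.centralizer ((Q : Subgroup G) : Set G) ∈ 𝓐 := by
    intro Q
    obtain ⟨A, hA, hQA⟩ := hall Q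
    rwa [hC Q A hA hQA]
  have hle : ∀ Q : Sylow p G, (Q : Subgroup G) ≤ Subgroup.centralizer ((Q : Subgroup G) : Set G) :=
    fun Q x hx => Subgroup.mem_centralizer_iff.2 fun y hy => sylow_comm_of_comm hab Q hy hx
  have hinj : ∀ Q R : Sylow p G, Subgroup.centralizer ((Q : Subgroup G) : Set G) =
      Subgroup.centralizer ((R : Subgroup G) : Set G) → Q = R := by
    intro Q R h
    apply Sylow.ext
    symm
    apply Q.3 R.isPGroup'
    intro x hx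
    obtain ⟨k, hk⟩ := exists_pow_eq_one_of_mem_sylow hx
    exact mem_sylow_of_mem_normalizer R hk
      (Subgroup.centralizer_le_normalizer _ (h ▸ hle Q hx))
  have hM : ∀ M : Subgroup G, M ≠ ⊤ → Subgroup.centralizer ((P : Subgroup G) : Set G) ≤ M →
      M ≤ Subgroup.normalizer ((P : Subgroup G) : Set G) := by
    intro M hM hCM m hm
    change _ ∈ Subgroup.normalizer (P : Set G)
    rw [← Sylow.smul_eq_iff_mem_normalizer]
    apply hinj
    by_contra hne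
    have h1 := cover_sup_eq_top h𝓐.1 h𝓐.2.1 (hC' _) (hC' _) hne
    apply hM
    rw [eq_top_iff, ← h1]
    refine sup_le ?_ hCM
    rw [sylow_coe_smul, centralizer_map_conj, ← map_conj_of_mem hm]
    exact Subgroup.map_mono hCM
  refine ⟨hC', ?_, ⟨?_, ?_⟩, hM⟩
  · intro Q R x hx1 hQ hR
    obtain ⟨k, hk⟩ := exists_pow_eq_one_of_mem_sylow hQ
    exact hinj _ _ (cover_eq_of_mem hZ h𝓐 hab (hC' Q) (hC' R) hk hx1 (hle Q hQ) (hle R hR))
  · exact fun h => hnn (Subgroup.normalizer_eq_top_iff.1 h)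
  · intro M hM'
    by_contra h
    exact hM'.not_ge (hM M h ((Subgroup.centralizer_le_normalizer _).trans hM'.le))

/-- If a Sylow subgroup lies in no member of the cover, it is elementary abelian of order `> p`. -/
theorem cover_elementary [Finite G] (hZ : Subgroup.center G = ⊥) {𝓐 : Finset (Subgroup G)}
    (h𝓐 : ((∀ A ∈ 𝓐, A ≠ ⊤) ∧ (∀ g : G, ∃ A ∈ 𝓐, g ∈ A)) ∧
      (∀ 𝓑 : Finset (Subgroup G), (∀ A ∈ 𝓑, A ≠ ⊤) ∧ (∀ g : G, ∃ A ∈ 𝓑, g ∈ A) →
        𝓐.card ≤ 𝓑.card) ∧ (∀ A ∈ 𝓐, Group.IsNilpotent ↥A))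
    {p : ℕ} [hp : Fact p.Prime] {P : Sylow p G} (hab : IsMulCommutative ↥(P : Subgroup G))
    (Q : Sylow p G) (hQ : ¬ ∃ A ∈ 𝓐, (Q : Subgroup G) ≤ A) :
    (∀ x ∈ (P : Subgroup G), x ^ p = 1) ∧ ¬ IsCyclic (P : Subgroup G) := by
  have hnc : ¬ IsCyclic (Q : Subgroup G) := by
    intro h
    obtain ⟨g, hg⟩ := (Subgroup.isCyclic_iff_exists_zpowers_eq_top _).1 h
    obtain ⟨A, hA, hgA⟩ := h𝓐.1.2 g
    exact hQ ⟨A, hA, hg ▸ Subgroup.zpowers_le.2 hgA⟩
  refine ⟨?_, fun h => hnc (isCyclic_of_surjective _ (Sylow.equiv P Q).surjective)⟩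
  suffices h : ∀ x ∈ (Q : Subgroup G), x ^ p = 1 by
    intro x hx
    obtain ⟨g, rfl⟩ := MulAction.exists_smul_eq G Q P
    have := h _ (mem_sylow_smul.1 hx)
    have h2 : g⁻¹ * x * g = g⁻¹ * x * g⁻¹⁻¹ := by rw [inv_inv]
    rw [h2, conj_pow] at this
    exact conj_eq_one_iff.1 this
  have hne : (Q : Subgroup G) ≠ ⊥ := fun h => hnc (h ▸ inferInstance)
  obtain ⟨a, ha⟩ := exists_prime_orderOf_dvd_card' (G := (Q : Subgroup G)) p
    (Q.isPGroup'.card_eq_or_dvd.resolve_left (by rwa [Subgroup.card_eq_one]))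
  have ha1 : (a : G) ≠ 1 := by
    intro h
    rw [(Subtype.ext h : a = 1), orderOf_one] at ha
    exact hp.out.one_lt.ne ha
  have hap : (a : G) ^ p = 1 := by
    have := congrArg Subtype.val (pow_orderOf_eq_one a)
    rwa [ha] at this
  obtain ⟨A, hA, haA⟩ := h𝓐.1.2 a
  have key : ∀ g ∈ (Q : Subgroup G), g ∉ A → g ^ p = 1 := by
    intro g hgQ hg
    by_contra hgp
    obtain ⟨B, hB, hgB⟩ := h𝓐.1.2 g
    obtain ⟨C, hC, hgC⟩ := h𝓐.1.2 (g * a)
    have hBC : B = C := by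
      obtain ⟨k, hk⟩ := exists_pow_eq_one_of_mem_sylow (Subgroup.pow_mem _ hgQ p)
      refine cover_eq_of_mem hZ h𝓐 hab hB hC hk hgp (B.pow_mem hgB p) ?_
      have := C.pow_mem hgC p
      rwa [Commute.mul_pow (sylow_comm_of_comm hab Q hgQ a.2), hap, mul_one] at this
    subst hBC
    have haB : (a : G) ∈ B := by simpa using B.mul_mem (B.inv_mem hgB) hgC
    have hAB : A = B :=
      cover_eq_of_mem hZ h𝓐 hab hA hB (k := 1) (by rw [pow_one, hap]) ha1 haA haB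
    exact hg (hAB ▸ hgB)
  obtain ⟨g, hgQ, hg⟩ : ∃ g ∈ (Q : Subgroup G), g ∉ A := by
    by_contra h
    push Not at h
    exact hQ ⟨A, hA, h⟩
  intro x hxQ
  by_cases hx : x ∈ A
  · have h1 : x * g ∉ A := fun h => hg (by simpa using A.mul_mem (A.inv_mem hx) h)
    have h2 := key _ (Subgroup.mul_mem _ hxQ hgQ) h1
    rwa [Commute.mul_pow (sylow_comm_of_comm hab Q hxQ hgQ), key g hgQ hg, mul_one] at h2
  · exact key x hxQ hx

end Cfsg.Agent.H90
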