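import Cfsg.Agent.H42.PcDefs

/-! Counting a coset by the `2`-parts of its elements. -/

set_option autoImplicit false

namespace Cfsg.Agent.H90.PcCnt

open Subgroup Cfsg.Agent.H42.Pc

universe u

theorem ex_e (G : Type u) [Group G] [Finite G] : ∃ a m e : ℕ, Odd m ∧ Nat.card G = 2 ^ a * m ∧
    e ≡ 1 [MOD 2 ^ a] ∧ m ∣ e := by
  obtain ⟨a, m, hm, h⟩ := Nat.exists_eq_two_pow_mul_odd (n := Nat.card G) Nat.card_pos.ne'
  have hc : Nat.Coprime (2 ^ a) m := (Nat.coprime_two_left.mpr hm).pow_left a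
  obtain ⟨e, h1, h2⟩ := Nat.chineseRemainder hc 1 0
  exact ⟨a, m, e, hm, h, h1, (Nat.modEq_zero_iff_dvd).mp h2⟩

theorem part {G : Type u} [Group G] [Finite G] {a m e : ℕ} (hm : Odd m)
    (h : Nat.card G = 2 ^ a * m) (h1 : e ≡ 1 [MOD 2 ^ a]) (h2 : m ∣ e) {y g : G} (hy : Two y)
    (hg : Odd (orderOf g)) (hc : Commute g y) : (y * g) ^ e = y := by
  obtain ⟨k, hk⟩ := hy
  have d1 : orderOf y ∣ 2 ^ k := orderOf_dvd_of_pow_eq_one hk
  have c1 : Nat.Coprime (orderOf y) m :=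
    Nat.Coprime.coprime_dvd_left d1 ((Nat.coprime_two_left.mpr hm).pow_left k)
  have d2 : orderOf y ∣ 2 ^ a := c1.dvd_of_dvd_mul_right (h ▸ orderOf_dvd_natCard y)
  have c2 : Nat.Coprime (orderOf g) (2 ^ a) := (Nat.coprime_two_left.mpr hg).symm.pow_right a
  have d3 : orderOf g ∣ m := c2.dvd_of_dvd_mul_left (h ▸ orderOf_dvd_natCard g)
  have e1 : y ^ e = y := by
    have : y ^ e = y ^ 1 := pow_eq_pow_iff_modEq.mpr (h1.of_dvd d2)
    simpa using this
  have e2 : g ^ e = 1 := orderOf_dvd_iff_pow_eq_one.mp (d3.trans h2)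
  rw [hc.symm.mul_pow, e1, e2, mul_one]

theorem cnt : CntStmt.{u} := by
  intro G _ _ S _ y l hy hl
  classical
  obtain ⟨a, m, e, hm, h, h1, h2⟩ := ex_e G
  let Ω := {y' : G // y⁻¹ * y' ∈ S ∧ Two y'}
  let β : Ω → Type u := fun y' => {g : G // g ∈ S ∧ Commute g y'.1 ∧ Odd (orderOf g)}
  let f : (Σ y' : Ω, β y') → S := fun x =>
    ⟨y⁻¹ * (x.1.1 * x.2.1), by
      rw [← mul_assoc]; exact S.mul_mem x.1.2.1 x.2.2.1⟩
  have hf : Function.Bijective f := by
    constructor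
    · rintro ⟨⟨y1, p1⟩, ⟨g1, q1⟩⟩ ⟨⟨y2, p2⟩, ⟨g2, q2⟩⟩ hh
      have h0 : y1 * g1 = y2 * g2 := mul_left_cancel (congrArg Subtype.val hh)
      have a1 := part hm h h1 h2 p1.2 q1.2.2 q1.2.1
      have a2 := part hm h h1 h2 p2.2 q2.2.2 q2.2.1
      have hy12 : y1 = y2 := by rw [← a1, ← a2, h0]
      subst hy12
      have hg12 : g1 = g2 := mul_left_cancel h0
      subst hg12
      rfl
    · rintro ⟨s, hs⟩
      obtain ⟨x, hx⟩ : ∃ x, x = y * s := ⟨_, rfl⟩
      have hn : x ^ (2 ^ a * m) = 1 := by rw [← h]; exact pow_card_eq_one'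
      have t2 : Two (x ^ e) := by
        refine ⟨a, ?_⟩
        obtain ⟨c, hc⟩ := h2
        rw [← pow_mul, hc, show m * c * 2 ^ a = 2 ^ a * m * c by ring, pow_mul, hn, one_pow]
      have cx : Commute (x ^ e)⁻¹ x := ((Commute.refl x).pow_left e).inv_left
      have gm : ((x ^ e)⁻¹ * x) ^ m = 1 := by
        rw [cx.mul_pow, inv_pow, ← pow_mul, inv_mul_eq_one]
        refine pow_eq_pow_iff_modEq.mpr ?_
        have : e * m ≡ 1 * m [MOD 2 ^ a * m] := h1.mul_right' m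
        rw [one_mul] at this
        exact this.of_dvd (orderOf_dvd_of_pow_eq_one hn)
      have go : Odd (orderOf ((x ^ e)⁻¹ * x)) :=
        Odd.of_dvd_nat hm (orderOf_dvd_of_pow_eq_one gm)
      have x2 : (x : G ⧸ S) ^ 2 = 1 := by
        have e0 : (x : G ⧸ S) = (y : G ⧸ S) := by
          rw [hx, QuotientGroup.mk_mul, (QuotientGroup.eq_one_iff s).mpr hs, mul_one]
        rw [e0, sq, ← QuotientGroup.mk_mul]
        exact (QuotientGroup.eq_one_iff _).mpr hy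
      have gS : (x ^ e)⁻¹ * x ∈ S := by
        rw [← QuotientGroup.eq_one_iff]
        have b2 : (((x ^ e)⁻¹ * x : G) : G ⧸ S) ^ 2 = 1 := by
          rw [← QuotientGroup.mk_pow, cx.mul_pow, inv_pow, ← pow_mul, mul_comm e 2, pow_mul,
            QuotientGroup.mk_mul, QuotientGroup.mk_inv, QuotientGroup.mk_pow, QuotientGroup.mk_pow,
            x2]
          simp
        have bm : (((x ^ e)⁻¹ * x : G) : G ⧸ S) ^ m = 1 := by
          rw [← QuotientGroup.mk_pow, gm]; rfl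
        have := pow_gcd_eq_one.mpr ⟨b2, bm⟩
        rwa [Nat.Coprime.gcd_eq_one (Nat.coprime_two_left.mpr hm), pow_one] at this
      have yS : y⁻¹ * x ^ e ∈ S := by
        have : y⁻¹ * x ^ e = s * ((x ^ e)⁻¹ * x)⁻¹ := by
          have c2 : x * (x⁻¹ * x ^ e) = x ^ e := by group
          calc y⁻¹ * x ^ e = y⁻¹ * (x * (x⁻¹ * x ^ e)) := by rw [c2]
            _ = y⁻¹ * (y * s * (x⁻¹ * x ^ e)) := by rw [← hx]
            _ = s * ((x ^ e)⁻¹ * x)⁻¹ := by group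
        rw [this]; exact S.mul_mem hs (S.inv_mem gS)
      refine ⟨⟨⟨x ^ e, yS, t2⟩, ⟨(x ^ e)⁻¹ * x, gS, ?_, go⟩⟩, Subtype.ext ?_⟩
      · exact ((Commute.refl (x ^ e)).inv_left).mul_left ((Commute.refl x).pow_right e)
      · show y⁻¹ * (x ^ e * ((x ^ e)⁻¹ * x)) = s
        rw [mul_inv_cancel_left, hx, inv_mul_cancel_left]
  rw [← Nat.card_eq_of_bijective f hf]
  haveI : Fintype Ω := Fintype.ofFinite Ω
  rw [Nat.card_sigma]
  have : ∀ y' : Ω, Nat.card (β y') = l := fun y' => hl y'.1 y'.2.1 y'.2.2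
  simp only [this, Finset.sum_const, Finset.card_univ, smul_eq_mul]
  rw [← Nat.card_eq_fintype_card]

end Cfsg.Agent.H90.PcCnt
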