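import Cfsg.Agent.H90.RB

/-! The spin modules of `A₉` over `F₂`. -/

set_option autoImplicit false

namespace Cfsg.Agent.H90.Rec

open Cfsg.Agent.H69.XV Matrix

variable {V : Type*} [AddCommGroup V] [Module (ZMod 2) V]

/-- The standard space. -/
abbrev W8 := Fin 8 → ZMod 2
/-- Matrices. -/
abbrev Mx := Matrix (Fin 8) (Fin 8) (ZMod 2)

/-- annihilation -/
def N1W : Mx := !![0, 1, 0, 0, 0, 0, 0, 0; 0, 0, 0, 0, 0, 0, 0, 0; 0, 0, 0, 1, 0, 0, 0, 0; 0, 0, 0, 0, 0, 0, 0, 0; 0, 0, 0, 0, 0, 1, 0, 0; 0, 0, 0, 0, 0, 0, 0, 0; 0, 0, 0, 0, 0, 0, 0, 1; 0, 0, 0, 0, 0, 0, 0, 0]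
/-- annihilation -/
def N2W : Mx := !![0, 0, 1, 0, 0, 0, 0, 0; 0, 0, 0, 1, 0, 0, 0, 0; 0, 0, 0, 0, 0, 0, 0, 0; 0, 0, 0, 0, 0, 0, 0, 0; 0, 0, 0, 0, 0, 0, 1, 0; 0, 0, 0, 0, 0, 0, 0, 1; 0, 0, 0, 0, 0, 0, 0, 0; 0, 0, 0, 0, 0, 0, 0, 0]
/-- annihilation -/
def N3W : Mx := !![0, 0, 0, 0, 1, 0, 0, 0; 0, 0, 0, 0, 0, 1, 0, 0; 0, 0, 0, 0, 0, 0, 1, 0; 0, 0, 0, 0, 0, 0, 0, 1; 0, 0, 0, 0, 0, 0, 0, 0; 0, 0, 0, 0, 0, 0, 0, 0; 0, 0, 0, 0, 0, 0, 0, 0; 0, 0, 0, 0, 0, 0, 0, 0]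
/-- creation -/
def M1W : Mx := !![0, 0, 0, 0, 0, 0, 0, 0; 1, 0, 0, 0, 0, 0, 0, 0; 0, 0, 0, 0, 0, 0, 0, 0; 0, 0, 1, 0, 0, 0, 0, 0; 0, 0, 0, 0, 0, 0, 0, 0; 0, 0, 0, 0, 1, 0, 0, 0; 0, 0, 0, 0, 0, 0, 0, 0; 0, 0, 0, 0, 0, 0, 1, 0]
/-- creation -/
def M2W : Mx := !![0, 0, 0, 0, 0, 0, 0, 0; 0, 0, 0, 0, 0, 0, 0, 0; 1, 0, 0, 0, 0, 0, 0, 0; 0, 1, 0, 0, 0, 0, 0, 0; 0, 0, 0, 0, 0, 0, 0, 0; 0, 0, 0, 0, 0, 0, 0, 0; 0, 0, 0, 0, 1, 0, 0, 0; 0, 0, 0, 0, 0, 1, 0, 0]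
/-- creation -/
def M3W : Mx := !![0, 0, 0, 0, 0, 0, 0, 0; 0, 0, 0, 0, 0, 0, 0, 0; 0, 0, 0, 0, 0, 0, 0, 0; 0, 0, 0, 0, 0, 0, 0, 0; 1, 0, 0, 0, 0, 0, 0, 0; 0, 1, 0, 0, 0, 0, 0, 0; 0, 0, 1, 0, 0, 0, 0, 0; 0, 0, 0, 1, 0, 0, 0, 0]
/-- the three-cycles `(i 0 1)` -/
def XW : Fin 9 → Mx := ![1, 1,
  !![0, 1, 1, 0, 1, 0, 0, 0; 1, 1, 0, 1, 0, 1, 0, 0; 1, 0, 1, 1, 0, 0, 1, 0; 0, 1, 1, 0, 0, 0, 0, 1; 1, 0, 0, 0, 1, 1, 1, 0; 0, 1, 0, 0, 1, 0, 0, 1; 0, 0, 1, 0, 1, 0, 0, 1; 0, 0, 0, 1, 0, 1, 1, 1],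
  !![0, 0, 1, 0, 0, 0, 0, 0; 1, 1, 0, 1, 0, 0, 0, 0; 1, 0, 1, 0, 0, 0, 0, 0; 0, 1, 1, 0, 0, 0, 0, 0; 0, 0, 0, 0, 1, 0, 1, 0; 0, 0, 0, 0, 1, 0, 0, 1; 0, 0, 0, 0, 1, 0, 0, 0; 0, 0, 0, 0, 0, 1, 1, 1],
  !![0, 1, 0, 0, 0, 0, 0, 0; 1, 1, 0, 0, 0, 0, 0, 0; 0, 0, 1, 1, 0, 0, 0, 0; 0, 0, 1, 0, 0, 0, 0, 0; 1, 0, 0, 0, 1, 1, 0, 0; 0, 1, 0, 0, 1, 0, 0, 0; 0, 0, 1, 0, 0, 0, 0, 1; 0, 0, 0, 1, 0, 0, 1, 1],
  !![0, 1, 0, 0, 1, 0, 0, 0; 1, 1, 0, 0, 0, 1, 0, 0; 0, 0, 1, 1, 0, 0, 1, 0; 0, 0, 1, 0, 0, 0, 0, 1; 0, 0, 0, 0, 1, 1, 0, 0; 0, 0, 0, 0, 1, 0, 0, 0; 0, 0, 0, 0, 0, 0, 0, 1; 0, 0, 0, 0, 0, 0, 1, 1],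
  !![0, 0, 0, 0, 1, 0, 0, 0; 0, 1, 0, 0, 0, 1, 0, 0; 1, 0, 1, 0, 0, 0, 1, 0; 0, 1, 0, 0, 0, 0, 0, 1; 1, 0, 0, 0, 1, 0, 0, 0; 0, 1, 0, 0, 0, 0, 0, 0; 0, 0, 1, 0, 1, 0, 0, 0; 0, 0, 0, 1, 0, 1, 0, 1],
  !![0, 1, 1, 0, 0, 0, 0, 0; 0, 1, 0, 1, 0, 0, 0, 0; 1, 0, 1, 1, 0, 0, 0, 0; 0, 1, 0, 0, 0, 0, 0, 0; 0, 0, 0, 0, 1, 1, 1, 0; 0, 0, 0, 0, 0, 0, 0, 1; 0, 0, 0, 0, 1, 0, 0, 1; 0, 0, 0, 0, 0, 1, 0, 1],
  !![0, 0, 1, 0, 1, 0, 0, 0; 0, 1, 0, 1, 0, 1, 0, 0; 0, 0, 1, 0, 0, 0, 1, 0; 0, 0, 0, 0, 0, 0, 0, 1; 1, 0, 0, 0, 1, 0, 1, 0; 0, 1, 0, 0, 0, 0, 0, 1; 0, 0, 1, 0, 0, 0, 0, 0; 0, 0, 0, 1, 0, 0, 0, 1]]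

/-- the bilinear form -/
def B0 (u v : W8) : ZMod 2 := ∑ i, u i * v i.rev
/-- the quadratic form -/
def q0 (u : W8) : ZMod 2 := B0 u (XW 2 *ᵥ u)
/-- the vacuum -/
def e0 : W8 := Pi.single 0 1

/-- `φ` intertwines `A` and `T`. -/
def Tw (φ : W8 →ₗ[ZMod 2] V) (T : Module.End (ZMod 2) V) (A : Mx) : Prop :=
  ∀ w, T (φ w) = φ (A *ᵥ w)

theorem Tw.add {φ : W8 →ₗ[ZMod 2] V} {T T' : Module.End (ZMod 2) V} {A A' : Mx} (h : Tw φ T A)
    (h' : Tw φ T' A') : Tw φ (T + T') (A + A') := fun w => by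
  rw [LinearMap.add_apply, h, h', add_mulVec, map_add]

theorem Tw.congr {φ : W8 →ₗ[ZMod 2] V} {T T' : Module.End (ZMod 2) V} {A A' : Mx} (h : Tw φ T A)
    (e : T' = T) (e' : A' = A) : Tw φ T' A' := e ▸ e' ▸ h

theorem tw_of (b : Fin 8 → V) {T : Module.End (ZMod 2) V} {A : Mx}
    (h : ∀ j, T (b j) = ∑ i, A i j • b i) : Tw (Fintype.linearCombination (ZMod 2) b) T A := by
  intro w
  simp only [Fintype.linearCombination_apply, map_sum, map_smul, h, mulVec, dotProduct,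
    Finset.smul_sum, Finset.sum_smul, smul_smul]
  rw [Finset.sum_comm]
  simp only [mul_comm]

theorem W8_ind {P : W8 → Prop} (h0 : P e0) (hz : P 0) (ha : ∀ u v, P u → P v → P (u + v))
    (h1 : ∀ w, P w → P (M1W *ᵥ w)) (h2 : ∀ w, P w → P (M2W *ᵥ w)) (h3 : ∀ w, P w → P (M3W *ᵥ w))
    (w : W8) : P w := by
  have a1 : P (Pi.single 1 1) := (show M1W *ᵥ e0 = Pi.single 1 1 by decide) ▸ h1 _ h0
  have a2 : P (Pi.single 2 1) := (show M2W *ᵥ e0 = Pi.single 2 1 by decide) ▸ h2 _ h0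
  have a3 : P (Pi.single 3 1) := (show M1W *ᵥ Pi.single 2 1 = Pi.single 3 1 by decide) ▸ h1 _ a2
  have a4 : P (Pi.single 4 1) := (show M3W *ᵥ e0 = Pi.single 4 1 by decide) ▸ h3 _ h0
  have a5 : P (Pi.single 5 1) := (show M1W *ᵥ Pi.single 4 1 = Pi.single 5 1 by decide) ▸ h1 _ a4
  have a6 : P (Pi.single 6 1) := (show M2W *ᵥ Pi.single 4 1 = Pi.single 6 1 by decide) ▸ h2 _ a4
  have a7 : P (Pi.single 7 1) := (show M1W *ᵥ Pi.single 6 1 = Pi.single 7 1 by decide) ▸ h1 _ a6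
  rw [← Finset.univ_sum_single w]
  refine Finset.sum_induction _ P ha hz fun i _ => ?_
  rcases z2 (w i) with e | e <;> rw [e]
  · rwa [Pi.single_zero]
  · fin_cases i <;> assumption

theorem Tw.eq_zero {φ : W8 →ₗ[ZMod 2] V} {M1 M2 M3 : Module.End (ZMod 2) V} (h1 : Tw φ M1 M1W)
    (h2 : Tw φ M2 M2W) (h3 : Tw φ M3 M3W) (h0 : φ e0 = 0) (w : W8) : φ w = 0 :=
  W8_ind (P := fun w => φ w = 0) h0 (map_zero _) (fun u v a b => by rw [map_add, a, b, add_zero])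
    (fun w a => by rw [← h1, a, map_zero]) (fun w a => by rw [← h2, a, map_zero])
    (fun w a => by rw [← h3, a, map_zero]) w

theorem vac : ∀ w : W8, N1W *ᵥ w = 0 → N2W *ᵥ w = 0 → N3W *ᵥ w = 0 → w = 0 ∨ w = e0 := by
  decide +kernel

theorem exists_ker {α : Type*} [Zero α] {N : α → α} (hN : ∀ v, N (N v) = 0) {P : α → Prop}
    (hP : ∀ v, P v → P (N v)) (h : ∃ v, v ≠ 0 ∧ P v) : ∃ v, v ≠ 0 ∧ P v ∧ N v = 0 := by
  obtain ⟨v, h0, hv⟩ := h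
  by_cases e : N v = 0
  exacts [⟨v, h0, hv, e⟩, ⟨N v, e, hP v hv, hN v⟩]

theorem exists_vac {α : Type*} [Zero α] {N1 N2 N3 : α → α} (s1 : ∀ v, N1 (N1 v) = 0)
    (s2 : ∀ v, N2 (N2 v) = 0) (s3 : ∀ v, N3 (N3 v) = 0) (c1 : ∀ v, N1 (N2 v) = N2 (N1 v))
    (c2 : ∀ v, N1 (N3 v) = N3 (N1 v)) (c3 : ∀ v, N2 (N3 v) = N3 (N2 v)) (z2 : N2 0 = 0)
    (z3 : N3 0 = 0) {P : α → Prop} (p1 : ∀ v, P v → P (N1 v)) (p2 : ∀ v, P v → P (N2 v))
    (p3 : ∀ v, P v → P (N3 v)) (h : ∃ v, v ≠ 0 ∧ P v) :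
    ∃ v, v ≠ 0 ∧ ((P v ∧ N1 v = 0) ∧ N2 v = 0) ∧ N3 v = 0 :=
  exists_ker s3 (fun v h => ⟨⟨p3 v h.1.1, by rw [c2, h.1.2, z3]⟩, by rw [c3, h.2, z3]⟩)
    (exists_ker s2 (fun v h => ⟨p2 v h.1, by rw [c1, h.2, z2]⟩) (exists_ker s1 p1 h))

theorem Tw.inj {φ : W8 →ₗ[ZMod 2] V} {N1 N2 N3 : Module.End (ZMod 2) V} (h1 : Tw φ N1 N1W)
    (h2 : Tw φ N2 N2W) (h3 : Tw φ N3 N3W) (h0 : φ e0 ≠ 0) : Function.Injective φ := by
  refine (injective_iff_map_eq_zero φ).2 fun w hw => by_contra fun w0 => ?_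
  have k : ∀ A B : Mx, A * B = B * A → ∀ v, A *ᵥ (B *ᵥ v) = B *ᵥ (A *ᵥ v) := fun A B e v => by
    rw [mulVec_mulVec, mulVec_mulVec, e]
  have k' : ∀ A : Mx, A * A = 0 → ∀ v, A *ᵥ (A *ᵥ v) = 0 := fun A e v => by
    rw [mulVec_mulVec, e, zero_mulVec]
  obtain ⟨v, v0, ⟨⟨a, b⟩, c⟩, d⟩ := exists_vac (k' N1W (by decide)) (k' N2W (by decide))
    (k' N3W (by decide)) (k N1W N2W (by decide)) (k N1W N3W (by decide)) (k N2W N3W (by decide))
    (mulVec_zero _) (mulVec_zero _) (P := fun w => φ w = 0) (fun w a => by rw [← h1, a, map_zero])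
    (fun w a => by rw [← h2, a, map_zero]) (fun w a => by rw [← h3, a, map_zero]) ⟨w, w0, hw⟩
  exact h0 ((vac v b c d).resolve_left v0 ▸ a)

theorem B0_add (u v w : W8) : B0 (u + v) w = B0 u w + B0 v w := by
  simp [B0, add_mul, Finset.sum_add_distrib]

theorem B0_M (u w : W8) : B0 (M1W *ᵥ u) w = B0 u (M1W *ᵥ w) ∧ B0 (M2W *ᵥ u) w = B0 u (M2W *ᵥ w) ∧
    B0 (M3W *ᵥ u) w = B0 u (M3W *ᵥ w) := by
  simp only [B0, mulVec, dotProduct, Fin.sum_univ_eight, M1W, M2W, M3W]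
  refine ⟨?_, ?_, ?_⟩ <;> simp [Fin.rev]

theorem form {φ : W8 →ₗ[ZMod 2] V} {N1 N2 N3 M1 M2 M3 : Module.End (ZMod 2) V} (n1 : Tw φ N1 N1W)
    (n2 : Tw φ N2 N2W) (n3 : Tw φ N3 N3W) (m1 : Tw φ M1 M1W) (m2 : Tw φ M2 M2W) (m3 : Tw φ M3 M3W)
    (B : LinearMap.BilinForm (ZMod 2) V) (a1 : ∀ u v, B (N1 u) v = B u (N1 v))
    (a2 : ∀ u v, B (N2 u) v = B u (N2 v)) (a3 : ∀ u v, B (N3 u) v = B u (N3 v))
    (b1 : ∀ u v, B (M1 u) v = B u (M1 v)) (b2 : ∀ u v, B (M2 u) v = B u (M2 v))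
    (b3 : ∀ u v, B (M3 u) v = B u (M3 v)) (u w : W8) :
    B (φ u) (φ w) = B (φ e0) (φ (Pi.single 7 1)) * B0 u w := by
  revert w
  refine W8_ind (P := fun u => ∀ w, B (φ u) (φ w) = _ * B0 u w) (fun w => ?_) (fun w => by simp [B0])
    (fun u v a b w => by rw [map_add, map_add, LinearMap.add_apply, a, b, B0_add, mul_add])
    (fun u a w => by rw [← m1, b1, m1, a, (B0_M u w).1])
    (fun u a w => by rw [← m2, b2, m2, a, (B0_M u w).2.1])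
    (fun u a w => by rw [← m3, b3, m3, a, (B0_M u w).2.2]) u
  have k : ∀ {N : Module.End (ZMod 2) V} {A : Mx}, Tw φ N A → (∀ u v, B (N u) v = B u (N v)) →
      A *ᵥ e0 = 0 → ∀ w, B (φ e0) (φ (A *ᵥ w)) = 0 := fun h a e w => by
    rw [← h, ← a, h, e, map_zero, map_zero, LinearMap.zero_apply]
  have : ∀ w : W8, w = N1W *ᵥ ![0, w 0, 0, w 2, 0, w 4, 0, w 6] +
      (N2W *ᵥ ![0, 0, 0, w 1, 0, 0, 0, w 5] + (N3W *ᵥ ![0, 0, 0, 0, 0, 0, 0, w 3] +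
      B0 e0 w • Pi.single 7 1)) := by decide +kernel
  conv_lhs => rw [this w]
  simp only [map_add, map_smul, k n1 a1 (by decide), k n2 a2 (by decide), k n3 a3 (by decide),
    zero_add, smul_eq_mul, mul_comm]

/-- The anticommutator. -/
def ac (x y : Module.End (ZMod 2) V) : Module.End (ZMod 2) V := x * y + y * x

theorem ac_add_left (x y z : Module.End (ZMod 2) V) : ac (x + y) z = ac x z + ac y z := by
  simp only [ac, add_mul, mul_add]; abel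

theorem ac_add_right (x y z : Module.End (ZMod 2) V) : ac x (y + z) = ac x y + ac x z := by
  simp only [ac, add_mul, mul_add]; abel

theorem sq_add (x y : Module.End (ZMod 2) V) : (x + y) * (x + y) = x * x + y * y + ac x y := by
  simp only [ac, add_mul, mul_add]; abel

theorem of_ac0 {x y : Module.End (ZMod 2) V} (h : ac x y = 0) (v : V) : x (y v) = y (x v) :=
  congrArg (fun t : Module.End (ZMod 2) V => t v) (az.1 h)

theorem of_ac1 {x y : Module.End (ZMod 2) V} (h : ac x y = 1) (v : V) : x (y v) = v + y (x v) := by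
  have : x (y v) + y (x v) = v := congrArg (fun t : Module.End (ZMod 2) V => t v) h
  rw [← add_add_cancel' (x (y v)) (y (x v)), this]

theorem of_sq {x : Module.End (ZMod 2) V} (h : x * x = 0) (v : V) : x (x v) = 0 :=
  congrArg (fun t : Module.End (ZMod 2) V => t v) h

theorem exists_fock0 {N1 N2 N3 M1 M2 M3 : Module.End (ZMod 2) V} (s1 : N1 * N1 = 0)
    (s2 : N2 * N2 = 0) (s3 : N3 * N3 = 0) (t1 : M1 * M1 = 0) (t2 : M2 * M2 = 0) (t3 : M3 * M3 = 0)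
    (n12 : ac N1 N2 = 0) (n13 : ac N1 N3 = 0) (n23 : ac N2 N3 = 0) (m12 : ac M2 M1 = 0)
    (m13 : ac M3 M1 = 0) (m23 : ac M3 M2 = 0) (a11 : ac N1 M1 = 1) (a12 : ac N1 M2 = 0)
    (a13 : ac N1 M3 = 0) (a21 : ac N2 M1 = 0) (a22 : ac N2 M2 = 1) (a23 : ac N2 M3 = 0)
    (a31 : ac N3 M1 = 0) (a32 : ac N3 M2 = 0) (a33 : ac N3 M3 = 1) {v : V} (hv : v ≠ 0) :
    ∃ φ : W8 →ₗ[ZMod 2] V, φ e0 ≠ 0 ∧ Tw φ N1 N1W ∧ Tw φ N2 N2W ∧ Tw φ N3 N3W ∧ Tw φ M1 M1W ∧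
      Tw φ M2 M2W ∧ Tw φ M3 M3W := by
  obtain ⟨v, v0, ⟨⟨-, a⟩, b⟩, c⟩ := exists_vac (of_sq s1) (of_sq s2) (of_sq s3) (of_ac0 n12)
    (of_ac0 n13) (of_ac0 n23) (map_zero _) (map_zero _) (P := fun _ => True) (fun _ _ => trivial)
    (fun _ _ => trivial) (fun _ _ => trivial) ⟨v, hv, trivial⟩
  refine ⟨Fintype.linearCombination (ZMod 2) ![v, M1 v, M2 v, M1 (M2 v), M3 v, M1 (M3 v), M2 (M3 v),
    M1 (M2 (M3 v))], by simpa [e0] using v0, tw_of _ fun j => ?_, tw_of _ fun j => ?_,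
    tw_of _ fun j => ?_, tw_of _ fun j => ?_, tw_of _ fun j => ?_, tw_of _ fun j => ?_⟩
  all_goals fin_cases j <;> simp [Fin.sum_univ_eight, N1W, N2W, N3W, M1W, M2W, M3W, a, b, c,
    of_sq t1, of_sq t2, of_sq t3, of_ac0 m12, of_ac0 m13, of_ac0 m23, of_ac1 a11, of_ac0 a12,
    of_ac0 a13, of_ac0 a21, of_ac1 a22, of_ac0 a23, of_ac0 a31, of_ac0 a32, of_ac1 a33]

/-- the number of a vector -/
def ix (w : W8) : ℕ := ∑ i, (w i).val * 2 ^ i.val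
/-- the distance from the vacuum -/
def dep (w : W8) : ℕ := (0x6030d80d86030d86030d86030d80d86036036036036036030c36186180c36180c36180c36186181041040c30c310410401248048001248001b48001b48048001201201201b01201b49200000049200049b00049b00000028a28a49249b28a280 >>> (3 * ix w)) % 8
/-- a letter that leads towards the vacuum -/
def par (w : W8) : Fin 9 := Fin.ofNat 9 ((0x5225282227427226227282272462522525522682222452256223322842233222282332422232232682722427726227222282624222222222262824222222222222664422222222883322224633222238222244222266228822772247227722782266222222224488222255652222558522222222226644883377555733775522 >>> (4 * ix w)) % 16)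

theorem dep_lt : ∀ w : W8, q0 w = 0 → w = 0 ∨ w = e0 ∨ (2 ≤ par w ∧ dep (XW (par w) *ᵥ w) < dep w) := by
  decide +kernel

namespace Rp

variable {r : Rp V}

theorem TyS.sq (h : r.TyS) {a b c : Fin 9} (hab : a ≠ b) (hac : a ≠ c) (hbc : b ≠ c) :
    r.R (cy a b c) * r.R (cy a b c) = 1 + r.R (cy a b c) :=
  LinearMap.ext fun v => mem_U.1 (h a b c hab hac hbc v)

theorem TyS.ac (h : r.TyS) {i j : Fin 9} (hi : 2 ≤ i) (hj : 2 ≤ j) (e : i ≠ j) :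
    ac (r.R (cy i 0 1)) (r.R (cy j 0 1)) = r.R (cy i 0 1) + r.R (cy j 0 1) + 1 := by
  have k : ∀ i j : Fin 9, 2 ≤ i → 2 ≤ j → i ≠ j → i ≠ 0 ∧ i ≠ 1 ∧ j ≠ 0 ∧ j ≠ 1 ∧
      cy i 0 1 * cy j 0 1 = (cy j 0 1 * cy j 0 1) * (cy i 0 1 * cy i 0 1) := by decide +kernel
  obtain ⟨a, b, c, d, k⟩ := k i j hi hj e
  rw [Rec.ac, ← map_mul, k, map_mul, map_mul, map_mul, h.sq a b (by decide), h.sq c d (by decide)]
  simp only [add_mul, mul_add, one_mul, mul_one]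
  refine eq1 ?_
  match_scalars <;> decide

theorem TyS.adj (h : r.TyS) {i : Fin 9} (hi : 2 ≤ i) (u v : V) :
    r.B (r.R (cy i 0 1) u) v = r.B u (v + r.R (cy i 0 1) v) := by
  have k : ∀ i : Fin 9, 2 ≤ i → i ≠ 0 ∧ i ≠ 1 ∧ (cy i 0 1)⁻¹ = cy i 0 1 * cy i 0 1 := by
    decide +kernel
  obtain ⟨a, b, k⟩ := k i hi
  rw [B_left, k, mul, mem_U.1 (h _ _ _ a b (by decide) v)]

theorem TyS.fock (h : r.TyS) : ∃ φ : W8 ≃ₗ[ZMod 2] V, (∀ w, r.q (φ w) = q0 w) ∧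
    ∃ ι : MulAut A9, ∀ i, 2 ≤ i → ∀ w, r.R (ι (cy i 0 1)) (φ w) = φ (XW i *ᵥ w) := by
  let X : Fin 9 → Module.End (ZMod 2) V := fun i => r.R (cy i 0 1)
  let g : Fin 6 → Module.End (ZMod 2) V := fun i => X (i.natAdd 3) + X 2
  have i2 : ∀ i : Fin 6, 2 ≤ i.natAdd 3 ∧ i.natAdd 3 ≠ 2 ∧ i.natAdd 3 ≠ 0 ∧ i.natAdd 3 ≠ 1 := by decide
  have g2 : ∀ i, g i * g i = 1 := fun i => by
    rw [sq_add, h.ac (i2 i).1 le_rfl (i2 i).2.1, h.sq (i2 i).2.2.1 (i2 i).2.2.2 (by decide),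
      h.sq (by decide) (by decide) (by decide)]
    refine eq1 ?_
    match_scalars <;> decide
  have ga : ∀ i j, Rec.ac (g i) (g j) = (if i = j then 0 else 1 : ZMod 2) • 1 := fun i j => by
    split_ifs with e
    · rw [e, zero_smul]; exact add_self _
    · rw [ac_add_left, ac_add_right, ac_add_right, h.ac (i2 i).1 le_rfl (i2 i).2.1,
        h.ac le_rfl (i2 j).1 (i2 j).2.1.symm, h.ac (i2 i).1 (i2 j).1 (fun e' => e (by simpa [Fin.ext_iff] using e')),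
        show Rec.ac (X 2) (X 2) = 0 from add_self _]
      match_scalars <;> decide
  have gx : ∀ i v, g i (X 2 v) = X 2 (g i v) + (g i v + v) := fun i v => by
    have : Rec.ac (g i) (X 2) = g i + 1 := by
      rw [ac_add_left, h.ac (i2 i).1 le_rfl (i2 i).2.1, show Rec.ac (X 2) (X 2) = 0 from add_self _,
        add_zero]
    have : g i (X 2 v) + X 2 (g i v) = g i v + v :=
      congrArg (fun t : Module.End (ZMod 2) V => t v) this
    rw [← this, add_comm (g i _), add_add_cancel]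
  have gb : ∀ i u v, r.B (g i u) v = r.B u (g i v) := fun i u v => by
    simp only [g, X, LinearMap.add_apply, map_add, h.adj (i2 i).1, h.adj le_rfl]
    refine eq1 ?_
    match_scalars <;> decide
  have sq : ∀ i j k, i ≠ j → i ≠ k → j ≠ k → (g i + g j + g k) * (g i + g j + g k) = 0 :=
    fun i j k a b c => by
      rw [sq_add, sq_add, ac_add_left (g i), ga, ga, ga, g2, g2, g2, if_neg a, if_neg b, if_neg c]
      refine eq1 ?_
      match_scalars <;> decide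
  obtain ⟨u, -, u0⟩ := r.exists_U
  obtain ⟨φ, h0, n1, n2, n3, m1, m2, m3⟩ := exists_fock0 (N1 := g 0 + g 1 + g 2)
    (N2 := g 0 + g 3 + g 4) (N3 := g 1 + g 3 + g 5) (M1 := g 1 + g 2 + g 4) (M2 := g 0 + g 4 + g 5)
    (M3 := g 2 + g 3 + g 5) (sq _ _ _ (by decide) (by decide) (by decide))
    (sq _ _ _ (by decide) (by decide) (by decide)) (sq _ _ _ (by decide) (by decide) (by decide))
    (sq _ _ _ (by decide) (by decide) (by decide)) (sq _ _ _ (by decide) (by decide) (by decide))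
    (sq _ _ _ (by decide) (by decide) (by decide)) (by simp only [ac_add_left, ac_add_right, ga]; exact eq1 (by match_scalars <;> decide))
    (by simp only [ac_add_left, ac_add_right, ga]; exact eq1 (by match_scalars <;> decide))
    (by simp only [ac_add_left, ac_add_right, ga]; exact eq1 (by match_scalars <;> decide))
    (by simp only [ac_add_left, ac_add_right, ga]; exact eq1 (by match_scalars <;> decide))
    (by simp only [ac_add_left, ac_add_right, ga]; exact eq1 (by match_scalars <;> decide))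
    (by simp only [ac_add_left, ac_add_right, ga]; exact eq1 (by match_scalars <;> decide))
    (by simp only [ac_add_left, ac_add_right, ga]; exact eq1 (by match_scalars <;> decide))
    (by simp only [ac_add_left, ac_add_right, ga]; exact eq1 (by match_scalars <;> decide))
    (by simp only [ac_add_left, ac_add_right, ga]; exact eq1 (by match_scalars <;> decide))
    (by simp only [ac_add_left, ac_add_right, ga]; exact eq1 (by match_scalars <;> decide))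
    (by simp only [ac_add_left, ac_add_right, ga]; exact eq1 (by match_scalars <;> decide))
    (by simp only [ac_add_left, ac_add_right, ga]; exact eq1 (by match_scalars <;> decide))
    (by simp only [ac_add_left, ac_add_right, ga]; exact eq1 (by match_scalars <;> decide))
    (by simp only [ac_add_left, ac_add_right, ga]; exact eq1 (by match_scalars <;> decide))
    (by simp only [ac_add_left, ac_add_right, ga]; exact eq1 (by match_scalars <;> decide)) u0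
  have inj := Tw.inj n1 n2 n3 h0
  have bij : Function.Bijective φ := by
    have := r.finite
    exact (Nat.bijective_iff_injective_and_card φ).2 ⟨inj, by rw [r.card]; simp⟩
  have tg : ∀ i, Tw φ (g i) (XW (i.natAdd 3) + XW 2) := fun i => by
    rcases (by decide : ∀ i : Fin 6, i = 0 ∨ i = 1 ∨ i = 2 ∨ i = 3 ∨ i = 4 ∨ i = 5) i with
      rfl | rfl | rfl | rfl | rfl | rfl
    · exact ((n1.add n3).add m3).congr (eq1 (by match_scalars <;> decide)) (by decide +kernel)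
    · exact ((n2.add n3).add m2).congr (eq1 (by match_scalars <;> decide)) (by decide +kernel)
    · exact ((n2.add m2).add m3).congr (eq1 (by match_scalars <;> decide)) (by decide +kernel)
    · exact ((n1.add n2).add m1).congr (eq1 (by match_scalars <;> decide)) (by decide +kernel)
    · exact ((n3.add m1).add m3).congr (eq1 (by match_scalars <;> decide)) (by decide +kernel)
    · exact ((n1.add m1).add m2).congr (eq1 (by match_scalars <;> decide)) (by decide +kernel)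
  have ad : ∀ i j k u v, r.B ((g i + g j + g k) u) v = r.B u ((g i + g j + g k) v) :=
    fun i j k u v => by simp only [LinearMap.add_apply, map_add, gb]
  have fm := form n1 n2 n3 m1 m2 m3 r.B (ad _ _ _) (ad _ _ _) (ad _ _ _) (ad _ _ _) (ad _ _ _)
    (ad _ _ _)
  have c1 : r.B (φ e0) (φ (Pi.single 7 1)) = 1 := z2_ne fun e => h0 (r.nondeg _ fun v => by
    obtain ⟨w, rfl⟩ := bij.2 v
    rw [fm, e, zero_mul])
  let D : W8 →ₗ[ZMod 2] V := X 2 ∘ₗ φ + φ ∘ₗ (XW 2).mulVecLin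
  have tD : ∀ i, Tw D (g i) (XW (i.natAdd 3) + XW 2) := fun i w => by
    have k : ∀ i : Fin 6, (XW (i.natAdd 3) + XW 2) * XW 2 =
        XW 2 * (XW (i.natAdd 3) + XW 2) + ((XW (i.natAdd 3) + XW 2) + 1) := by decide +kernel
    simp only [D, LinearMap.add_apply, LinearMap.comp_apply, mulVecLin_apply]
    rw [map_add, gx, tg, tg, mulVec_mulVec, k, mulVec_mulVec, add_mulVec _ (_ + 1),
      add_mulVec _ 1, one_mulVec, map_add, map_add]
    refine eq1 ?_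
    match_scalars <;> decide
  have t3 : ∀ {i j k A}, A = XW (i.natAdd 3) + XW 2 + (XW (j.natAdd 3) + XW 2) +
      (XW (k.natAdd 3) + XW 2) → Tw D (g i + g j + g k) A := fun e =>
    (((tD _).add (tD _)).add (tD _)).congr rfl e
  have d1 : Tw D (g 1 + g 2 + g 4) M1W := t3 (by decide +kernel)
  have d2 : Tw D (g 0 + g 4 + g 5) M2W := t3 (by decide +kernel)
  have d3 : Tw D (g 2 + g 3 + g 5) M3W := t3 (by decide +kernel)
  obtain ⟨w, hw⟩ := bij.2 (D e0)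
  have kz : ∀ {N A}, Tw φ N A → Tw D N A → A *ᵥ e0 = 0 → A *ᵥ w = 0 := fun a b e =>
    inj (by rw [← a, hw, b, e, map_zero, map_zero])
  have key : ∃ ι : MulAut A9, (∀ v, v ∈ r.U (ι (cy 2 0 1))) ∧
      ∀ i, 2 ≤ i → Tw φ (r.R (ι (cy i 0 1))) (XW i) := by
    have sp : ∀ i : Fin 9, 2 ≤ i → i = 2 ∨ ∃ j : Fin 6, i = j.natAdd 3 := by decide
    rcases vac w (kz n1 (t3 (by decide +kernel)) (by decide)) (kz n2 (t3 (by decide +kernel)) (by decide))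
      (kz n3 (t3 (by decide +kernel)) (by decide)) with e | e
    · have x2 : Tw φ (X 2) (XW 2) := fun v => az.1 (Tw.eq_zero d1 d2 d3 (by rw [← hw, e, map_zero]) v)
      refine ⟨1, h 2 0 1 (by decide) (by decide) (by decide), fun i hi => ?_⟩
      rcases sp i hi with rfl | ⟨j, rfl⟩
      · exact x2
      · exact ((tg j).add x2).congr (add_add_cancel' _ _).symm (add_add_cancel' _ _).symm
    · have a : ∀ {N A}, Tw φ N A → Tw D N A → Tw (D + φ) N A := fun a b v => by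
        rw [LinearMap.add_apply D, LinearMap.add_apply D, map_add, a, b]
      have x2 : Tw φ (1 + X 2) (XW 2) := fun v => by
        have := Tw.eq_zero (a m1 d1) (a m2 d2) (a m3 d3) (by rw [LinearMap.add_apply, ← hw, e, add_self]) v
        rw [← az, ← this]
        simp only [D, LinearMap.add_apply, LinearMap.comp_apply, mulVecLin_apply,
          Module.End.one_apply]
        abel
      have k : ∀ i : Fin 9, 2 ≤ i → i ≠ 0 ∧ i ≠ 1 ∧
          MulAut.conjNormal (Equiv.swap (0 : Fin 9) 1) (cy i 0 1) = cy i 0 1 * cy i 0 1 := by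
        decide +kernel
      refine ⟨MulAut.conjNormal (Equiv.swap (0 : Fin 9) 1), (show cy 2 1 0 = MulAut.conjNormal
        (Equiv.swap (0 : Fin 9) 1) (cy 2 0 1) by decide +kernel) ▸
        h 2 1 0 (by decide) (by decide) (by decide), fun i hi => ?_⟩
      rw [(k i hi).2.2, map_mul, h.sq (k i hi).1 (k i hi).2.1 (by decide)]
      rcases sp i hi with rfl | ⟨j, rfl⟩
      · exact x2
      · exact ((tg j).add x2).congr (eq1 (by simp only [g, X]; match_scalars <;> decide))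
          (add_add_cancel' _ _).symm
  obtain ⟨ι, hU, hι⟩ := key
  refine ⟨LinearEquiv.ofBijective φ bij, fun w => ?_, ι, hι⟩
  rw [q_U (hU _), LinearEquiv.ofBijective_apply, hι 2 le_rfl, fm, c1, one_mul, q0]

theorem TyS.trans (h : r.TyS) {u v : V} (u0 : u ≠ 0) (hu : r.q u = 0) (v0 : v ≠ 0) (hv : r.q v = 0) :
    ∃ σ, r.R σ u = v := by
  obtain ⟨φ, hq, ι, hι⟩ := h.fock
  have key : ∀ n w, dep w = n → φ w ≠ 0 → r.q (φ w) = 0 → ∃ σ, r.R σ (φ w) = φ e0 := fun n => by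
    induction n using Nat.strong_induction_on with | _ n ih => ?_
    intro w hn w0 hw
    rcases dep_lt w (by rw [← hq, hw]) with e | e | ⟨a, b⟩
    · exact absurd (by rw [e, map_zero]) w0
    · exact ⟨1, by rw [e, one]⟩
    · obtain ⟨σ, e⟩ := ih _ (b.trans_eq hn) _ rfl (by rw [← hι _ a]; exact r.R_ne _ w0)
        (by rw [← hι _ a, q_R, hw])
      exact ⟨σ * ι (cy (par w) 0 1), by rw [mul, hι _ a, e]⟩
  obtain ⟨u, rfl⟩ := φ.surjective u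
  obtain ⟨v, rfl⟩ := φ.surjective v
  obtain ⟨σ, e⟩ := key _ u rfl u0 hu
  obtain ⟨τ, e'⟩ := key _ v rfl v0 hv
  exact ⟨τ⁻¹ * σ, by rw [mul, e, ← e', inv_R]⟩

theorem TyS.iso {V' : Type*} [AddCommGroup V'] [Module (ZMod 2) V'] {r' : Rp V'} (h : r.TyS)
    (h' : r'.TyS) : ∃ ψ : V' ≃ₗ[ZMod 2] V, (∀ v, r.q (ψ v) = r'.q v) ∧
      ∃ ι : MulAut A9, ∀ σ v, r.R (ι σ) (ψ v) = ψ (r'.R σ v) := by
  obtain ⟨φ, hq, ι, hι⟩ := h.fock
  obtain ⟨φ', hq', ι', hι'⟩ := h'.fock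
  let H : Subgroup A9 :=
    { carrier := {σ | ∀ w, r.R (ι σ) (φ w) = φ (φ'.symm (r'.R (ι' σ) (φ' w)))}
      one_mem' := fun w => by simp
      mul_mem' := fun {a b} ha hb w => by
        rw [map_mul, map_mul ι', mul, mul, hb, ha, φ'.apply_symm_apply]
      inv_mem' := fun {a} ha w => r.R_inj (ι a) (by
        rw [map_inv, R_inv, ha, φ'.apply_symm_apply, map_inv, R_inv, φ'.symm_apply_apply]) }
  have hH := eq_top_of_cy (H := H) fun i a b w => by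
    have : 2 ≤ i := by revert i; decide
    rw [hι i this, hι' i this, φ'.symm_apply_apply]
  refine ⟨φ'.symm.trans φ, fun v => ?_, ι * ι'⁻¹, fun σ v => ?_⟩
  · rw [LinearEquiv.trans_apply, hq, ← hq', φ'.apply_symm_apply]
  · simpa using hH (ι'⁻¹ σ) (φ'.symm v)

theorem TyS.free (h : r.TyS) {τ : A9} (h2 : τ * τ = 1) (h1 : τ ≠ 1) {v : V} (hv : r.R τ v = v) :
    ∃ u, v = r.R τ u + u := by
  obtain ⟨i, hi⟩ := exists_moved h1
  obtain ⟨m, hm⟩ := exists_fixed h2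
  have a : i ≠ m := fun e => hi (e ▸ hm)
  have b : τ.1 i ≠ m := fun e => a (τ.1.injective (e.trans hm.symm))
  have e : τ * cy i (τ.1 i) m * τ⁻¹ = (cy i (τ.1 i) m)⁻¹ := by
    rw [cy_conj, sq_apply h2, hm, cy_inv _ _ _ a hi.symm b]
  refine ⟨r.R (cy i (τ.1 i) m) v, ?_⟩
  rw [← mul, ← inv_mul_cancel_right (τ * _) τ, e, mul, hv,
    inv_eq_of_mul_eq_one_right (cy_cube _ _ _ a), mul, mem_U.1 (h _ _ _ hi.symm a b v),
    add_add_cancel']

theorem sq_le {W W' : Submodule (ZMod 2) V} {g τ : A9} (hU : ∀ v, v ∈ r.U g) (h3 : g * (g * g) = 1)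
    (e : τ * g * τ⁻¹ = g⁻¹) (le : W ≤ W') (hg : ∀ v ∈ W, r.R g v ∈ W') (hτ : W ≤ r.F τ) :
    Nat.card W * Nat.card W ≤ Nat.card W' := by
  have := r.finite
  rw [← Nat.card_prod]
  let f : W × W →+ W' := AddMonoidHom.mk' (fun x => ⟨x.1 + r.R g x.2, add_mem (le x.1.2) (hg _ x.2.2)⟩)
    fun a b => Subtype.ext (by simp only [Prod.fst_add, Prod.snd_add, Submodule.coe_add, map_add]; abel)
  refine Nat.card_le_card_of_injective f ((injective_iff_map_eq_zero f).2 ?_)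
  rintro ⟨⟨a, ha⟩, b, hb⟩ e0
  have e1 : a = r.R g b := az.1 (congrArg Subtype.val e0)
  have e2 := mem_F.1 (hτ ha)
  rw [e1, ← mul, ← inv_mul_cancel_right (τ * _) τ, e, mul, mem_F.1 (hτ hb),
    inv_eq_of_mul_eq_one_right h3, mul, mem_U.1 (hU b), add_eq_right] at e2
  subst e2
  rw [map_zero] at e1
  subst e1
  rfl

theorem TyS.card_F (h : r.TyS) {τ : A9} (h2 : τ * τ = 1) (h1 : τ ≠ 1) : Nat.card (r.F τ) ≤ 16 := by
  obtain ⟨i, hi⟩ := exists_moved h1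
  obtain ⟨m, hm⟩ := exists_fixed h2
  have a : i ≠ m := fun e => hi (e ▸ hm)
  have b : τ.1 i ≠ m := fun e => a (τ.1.injective (e.trans hm.symm))
  have := sq_le (W' := ⊤) (h _ _ _ hi.symm a b) (cy_cube _ _ _ a) (τ := τ)
    (by rw [cy_conj, sq_apply h2, hm, cy_inv _ _ _ a hi.symm b]) le_top (fun _ _ => trivial) le_rfl
  rw [Nat.card_congr Submodule.topEquiv.toEquiv, r.card] at this
  nlinarith

theorem TyS.card_J (h : r.TyS) {W : Submodule (ZMod 2) V} (e : ∀ v ∈ W, r.R (dt 0 1 2 3) v = v ∧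
    r.R (dt 4 5 6 7) v = v) : Nat.card W ≤ 4 := by
  have a := h.card_F (τ := dt 0 1 2 3) (by decide +kernel) (by decide +kernel)
  have := sq_le (W := W) (W' := r.F (dt 0 1 2 3)) (h 4 5 8 (by decide) (by decide) (by decide))
    (by decide +kernel) (τ := dt 4 5 6 7) (by decide +kernel) (fun v hv => mem_F.2 (e v hv).1)
    (fun v hv => F_conj _ (by decide +kernel) (mem_F.2 (e v hv).1)) fun v hv => mem_F.2 (e v hv).2
  nlinarith

end Rp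

end Cfsg.Agent.H90.Rec
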