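import Cfsg.Agent.Lead.T3Defs
import Cfsg.Agent.H1.KBig

/-! Project T3, piece FIN: isomorphic buildings give isomorphic groups. -/

set_option autoImplicit false

namespace Cfsg.Agent.H90.T3Fin

open Cfsg Cfsg.Agent.H35 Cfsg.Agent.H35.BN Cfsg.Agent.Lead.T3 Equiv Subgroup

universe u

theorem le_of_cover {B : Type*} [Group B] [Finite B] {p : ℕ} [Fact p.Prime] {U K L : Subgroup B}
    [hn : U.Normal] (hU : IsPGroup p U) (hL : ¬ p ∣ Nat.card L) (h : ∀ b, ∃ l ∈ L, l * b ∈ K) :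
    U ≤ K := by
  have h1 : ∀ x : B ⧸ K, ∃ l : L, l • x = ((1 : B) : B ⧸ K) := fun x => by
    obtain ⟨b, rfl⟩ := QuotientGroup.mk_surjective x
    obtain ⟨l, hl, e⟩ := h b
    exact ⟨⟨l, hl⟩, QuotientGroup.eq.2 (by simpa using inv_mem e)⟩
  have : MulAction.IsPretransitive L (B ⧸ K) := ⟨fun x y => by
    obtain ⟨l, hl⟩ := h1 x
    obtain ⟨m, hm⟩ := h1 y
    exact ⟨m⁻¹ * l, by rw [mul_smul, hl, ← hm, inv_smul_smul]⟩⟩
  obtain ⟨x, hx⟩ := hU.nonempty_fixed_point_of_prime_not_dvd_card (B ⧸ K) fun e => hL (e.trans (by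
    rw [← MulAction.index_stabilizer_of_transitive L ((1 : B) : B ⧸ K)]
    exact index_dvd_card _))
  obtain ⟨b, rfl⟩ := QuotientGroup.mk_surjective x
  intro u hu
  have := QuotientGroup.eq.1 (hx ⟨_, hn.conj_mem _ (inv_mem hu) b⟩ : ((b * u⁻¹ * b⁻¹ * b : B) : B ⧸ K) = b)
  simpa using this

section one

variable {G : Type*} [Group G] (P : BNPair G)

theorem not_conj (i : P.S) (h : ∀ b ∈ P.B, (i : G) * b * (i : G)⁻¹ ∈ P.B) : False := by
  obtain ⟨b, hb, e⟩ := exists_conj_not_mem i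
  exact e (by simpa [mul_assoc] using mul_mem (h b hb) (P.sq_mem i i.2))

theorem not_comm (i : P.S) : ¬ ∀ a b : G, a * b = b * a := fun h =>
  not_conj P i fun b hb => by rwa [h i b, mul_inv_cancel_right]

theorem perm_inj [IsSimpleGroup G] (i : P.S) :
    Function.Injective (MulAction.toPermHom G (G ⧸ P.B)) := by
  rw [← MonoidHom.ker_eq_bot_iff, ← normalCore_eq_ker]
  exact (IsSimpleGroup.eq_bot_or_eq_top_of_normal _ inferInstance).resolve_right fun e =>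
    s_not_mem_B i (normalCore_le P.B (e ▸ mem_top _))

theorem smul_eq {g k l : G} : g • (k : G ⧸ P.B) = l ↔ (g * k)⁻¹ * l ∈ P.B := QuotientGroup.eq

/-- The centralizer of the group on the chambers is trivial. -/
theorem cent_eq_one (a : Perm (G ⧸ P.B)) (h : ∀ (g : G) x, a (g • x) = g • a x) : a = 1 := by
  obtain ⟨k, hk⟩ := QuotientGroup.mk_surjective (a (1 : G))
  have h1 : k⁻¹ ∈ P.B := mem_of_conj_le le_rfl fun b hb => by
    have := h b⁻¹ (1 : G)
    rw [(smul_eq P (l := 1)).2 (by simpa using hb), ← hk, eq_comm, smul_eq] at this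
    simpa [mul_assoc] using this
  ext x
  obtain ⟨g, rfl⟩ := QuotientGroup.mk_surjective x
  have := h g (1 : G)
  rw [(smul_eq P (l := g)).2 (by simp), ← hk] at this
  rw [this, Perm.one_apply, smul_eq]
  simpa using h1

/-- A strongly transitive subgroup is everything. -/
theorem eq_top [Finite G] [IsSimpleGroup G] (i : P.S) {p : ℕ} {U : Subgroup G} (hp : p.Prime)
    (h1 : IsPGroup p U) (h2 : U ⊔ (P.B ⊓ P.N) = P.B) (h3 : ∀ b ∈ P.B, ∀ u ∈ U, b * u * b⁻¹ ∈ U)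
    (h4 : ∀ n (hn : n ∈ P.N), (gens P).IsLongest Set.univ (mkW P n hn) →
      ¬ p ∣ Nat.card ↥(P.B ⊓ P.B.map (MulAut.conj n).toMonoidHom)) {H : Subgroup G}
    (h : ∀ x y x' y', wdist P x y = wdist P x' y' → ∃ g ∈ H, g • x = x' ∧ g • y = y') : H = ⊤ := by
  have : Fact p.Prime := ⟨hp⟩
  have hB : U ≤ P.B := h2 ▸ le_sup_left
  obtain ⟨w, hw⟩ := (gens P).exists_isLongest Set.univ
  obtain ⟨n, hn, rfl⟩ := exists_mkW w
  have : (U.subgroupOf P.B).Normal := ⟨fun u hu b => h3 b b.2 u hu⟩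
  have h5 := le_of_cover (U := U.subgroupOf P.B) (K := H.subgroupOf P.B) h1.comap_subtype
    (L := (P.B ⊓ P.B.map (MulAut.conj n).toMonoidHom).subgroupOf P.B)
    (by rw [Nat.card_congr (subgroupOfEquivOfLe inf_le_left).toEquiv]; exact h4 n hn hw) fun b => by
      obtain ⟨g, hg, e1, e2⟩ := h (1 : G) n (1 : G) ((b : G)⁻¹ * n : G) (by
        rw [wdist_mk, wdist_mk, inv_one, one_mul, one_mul, bruhat_mul_left (inv_mem b.2)])
      rw [smul_eq] at e1 e2
      have e3 : g⁻¹ ∈ P.B := by simpa using e1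
      refine ⟨⟨g⁻¹, e3⟩ * b⁻¹, mem_subgroupOf.2 ⟨(⟨g⁻¹, e3⟩ * b⁻¹ : P.B).2, _, e2, ?_⟩, ?_⟩
      · simp [mul_assoc]
      · simpa [mem_subgroupOf] using hg
  have h6 : U ≤ H.normalCore := fun u hu g => by
    obtain ⟨k, hk, e, -⟩ := h (1 : G) (1 : G) g g (by rw [wdist_self, wdist_self])
    rw [smul_eq, mul_one] at e
    have := mul_mem (mul_mem hk (h5 (x := ⟨_, hB (h3 _ e u hu)⟩) (h3 _ e u hu))) (inv_mem hk)
    simpa [mul_assoc] using this
  refine top_le_iff.1 (((IsSimpleGroup.eq_bot_or_eq_top_of_normal H.normalCore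
    inferInstance).resolve_left fun e => ?_).ge.trans (normalCore_le H))
  rw [le_bot_iff.1 (h6.trans e.le), bot_sup_eq] at h2
  exact not_conj P i fun b hb => P.conj_mem i (P.subset i.2) b (h2.ge hb)

end one

variable {Γ : Type} [Group Γ] {Q : BNPair Γ} {I W : Type} [Group W] {X : Cox I W} (T : Typed Q X)

theorem mem_univ (w : W) : w ∈ X.WJ Set.univ := by
  obtain ⟨l, rfl⟩ := X.wp_surjective w
  exact X.wp_mem_closure fun _ _ => trivial

theorem mem_aut {g : Perm (Γ ⧸ Q.B)} (c : Γ ⧸ Q.B) :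
    g ∈ T.bld.Aut Set.univ c ↔ ∀ x y, T.bld.δ (g x) (g y) = T.bld.δ x y :=
  ⟨fun h x y => h.2 x (mem_univ _) y (mem_univ _),
    fun h => ⟨fun _ e => (e (mem_univ _)).elim, fun x _ y _ => h x y⟩⟩

/-- The standard apartment. -/
noncomputable def sg (w : W) : Γ ⧸ Q.B := (rep Q (T.φ.symm w) : Γ)

theorem apt : T.bld.Apt (sg T) := fun u w => by
  change T.φ (wdist Q _ _) = _
  rw [sg, sg, wdist_mk, bruhat_of_mem_N (mul_mem (inv_mem (rep_mem _)) (rep_mem _)),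
    mkW_mul (inv_mem (rep_mem _)) (rep_mem _), mkW_inv (rep_mem _), mkW_rep, mkW_rep]
  simp

theorem sg_one : sg T 1 = (1 : Γ) := QuotientGroup.eq.2 (by
  rw [mul_one, inv_mem_iff, ← mkW_eq_one_iff (rep_mem _), mkW_rep, map_one])

theorem sg_s (i : I) : sg T (X.s i) = (T.e i : Γ) := QuotientGroup.eq.2 (by
  rw [← mkW_eq_iff (rep_mem _) (Q.subset (T.e i).2), mkW_rep, ← T.φ_s, MulEquiv.symm_apply_apply,
    gens_s])

theorem perm_mem (γ : Γ) (c : Γ ⧸ Q.B) : MulAction.toPermHom Γ (Γ ⧸ Q.B) γ ∈ T.bld.Aut Set.univ c :=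
  (mem_aut T c).2 fun x y => congrArg T.φ (wdist_smul γ x y)

theorem normal [Finite Γ] [IsSimpleGroup Γ] [Finite W] (fr : FreeStmt.{0}) (i : I)
    (hi : ∃ j, 3 ≤ X.m i j) (hQ : Good Q) (γ : Γ) (a : Perm (Γ ⧸ Q.B))
    (ha : a ∈ T.bld.Aut Set.univ (sg T 1)) :
    a * MulAction.toPermHom Γ (Γ ⧸ Q.B) γ * a⁻¹ ∈ (MulAction.toPermHom Γ (Γ ⧸ Q.B)).range := by
  obtain ⟨π, hπ⟩ : ∃ π, π = MulAction.toPermHom Γ (Γ ⧸ Q.B) := ⟨_, rfl⟩
  have hπ' : ∀ g x, π g x = g • x := fun g x => hπ ▸ rfl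
  have pm : ∀ g, π g ∈ T.bld.Aut Set.univ (sg T 1) := fun g => hπ ▸ perm_mem T g _
  rw [← hπ]
  obtain ⟨f1, f2, -, f4⟩ := fr T.bld (sg T) Set.univ (apt T)
  obtain ⟨Y, -, y2, y3⟩ := hQ.root (T.e i)
  have len : ∀ w, w ∈ X.rt 1 i → (gens Q).len (T.φ.symm w) <
      (gens Q).len ((gens Q).s (T.e i) * T.φ.symm w) := fun w hw => by
    rw [← T.len, ← T.len, map_mul, T.φ_s, MulEquiv.apply_symm_apply]
    simpa [Cox.rt] using hw
  have k1 : ∀ y ∈ Y, π y ∈ T.bld.R (sg T) Set.univ 1 i := fun y hy => by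
    refine ⟨pm y, fun w _ hw => ?_, fun w _ j _ hw hw' x hx => ?_⟩
    · have := (y3 _ (rep_mem (T.φ.symm w)) (by rw [mkW_rep]; exact len w hw)).1 _ (inv_mem hy)
      rw [hπ', sg, smul_eq]
      simpa [mul_assoc] using this
    · obtain ⟨k, rfl⟩ := QuotientGroup.mk_surjective x
      have e : bruhat Q ((rep Q (T.φ.symm w))⁻¹ * k) = (gens Q).s (T.e j) := by
        rw [← wdist_mk]
        exact T.φ.injective (hx.trans (T.φ_s j).symm)
      have := (y3 _ (rep_mem (T.φ.symm w)) (by rw [mkW_rep]; exact len w hw)).2 (T.e j) (by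
        have := len _ hw'
        rwa [map_mul, ← T.φ_s, MulEquiv.symm_apply_apply, ← mkW_rep (T.φ.symm w)] at this)
        _ (inv_mem hy) _ (mem_parabolic_singleton_iff.2 (.inr (bruhat_eq_iff.1 e)))
      rw [hπ', smul_eq]
      simpa [mul_assoc] using this
  have one : (1 : W) ∈ X.rt 1 i := by simp [Cox.rt, X.exch.len_s]
  have pan : sg T (X.s i) ∈ T.bld.pan (sg T 1) i := (apt T 1 _).trans (by simp)
  have k2 : ∀ g ∈ T.bld.R (sg T) Set.univ 1 i, g ∈ π.range := fun g hg => by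
    obtain ⟨k, hk⟩ := QuotientGroup.mk_surjective (g (sg T (X.s i)))
    have e := (mem_aut T _).1 hg.1 (sg T 1) (sg T (X.s i))
    rw [hg.2.1 1 (one_mem _) one, ← hk, pan, sg_one, ← T.φ_s] at e
    have e1 := T.φ.injective e
    rw [wdist_mk, inv_one, one_mul, bruhat_eq_iff] at e1
    obtain ⟨y, hy, e2⟩ := y2 k e1
    refine ⟨y, inv_mul_eq_one.1 (f1 1 (one_mem _) i trivial (hi.imp fun _ e => ⟨trivial, e⟩) _
      (mul_mem (inv_mem (k1 y hy)) hg) _ pan ?_)⟩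
    rw [Perm.mul_apply, Perm.inv_eq_iff_eq, ← hk, hπ', sg_s]
    exact QuotientGroup.eq.2 e2
  let D : Subgroup Γ :=
    { carrier := {γ | ∀ a ∈ T.bld.Aut Set.univ (sg T 1), a * π γ * a⁻¹ ∈ π.range}
      one_mem' := fun a _ => by simp
      mul_mem' := fun {g k} hg hk a ha => by
        rw [map_mul, ← conj_mul]; exact mul_mem (hg a ha) (hk a ha)
      inv_mem' := fun {g} hg a ha => by rw [map_inv, ← conj_inv]; exact inv_mem (hg a ha) }
  have hD : D.Normal := ⟨fun g hg k a ha => by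
    have := hg _ (mul_mem ha (pm k))
    simpa [mul_assoc] using this⟩
  have hY : Y ≤ D := fun y hy a ha => by
    obtain ⟨γ, e1, e2⟩ := exists_smul_eq_of_wdist_eq (T.φ.injective
      ((mem_aut T _).1 ha (sg T 1) (sg T (X.wJ Set.univ))).symm)
    have hb := mul_mem (inv_mem (pm γ)) ha
    have h1 := f4 _ hb 1 (one_mem _) 1 (one_mem _)
      (by rw [Perm.mul_apply, Perm.inv_eq_iff_eq, hπ', mul_one, e1])
      (by rw [Perm.mul_apply, Perm.inv_eq_iff_eq, hπ', one_mul, one_mul, e2])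
    have h2 := f2 _ hb 1 (one_mem _) h1 1 i _ (k1 y hy)
    rw [one_mul] at h2
    have := mul_mem (mul_mem (⟨γ, rfl⟩ : π γ ∈ π.range) (k2 _ h2)) (inv_mem ⟨γ, rfl⟩)
    simpa [mul_assoc] using this
  rcases IsSimpleGroup.eq_bot_or_eq_top_of_normal D hD with e | e
  · refine (not_conj Q (T.e i) fun b hb => ?_).elim
    obtain ⟨y, hy, e2⟩ := y2 _ (mul_mem_cell_left (inv_mem hb) (s_mem_cell (T.e i)))
    rw [mem_bot.1 (e.le (hY hy))] at e2
    have h2 := Q.sq_mem _ (T.e i).2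
    have := mul_mem (mul_mem h2 e2) (inv_mem h2)
    simpa [mul_assoc] using this
  · exact (e ▸ mem_top γ : γ ∈ D) a ha

/-- **FIN** -/
theorem finStmt (fr : FreeStmt.{0}) : FinStmt.{u} := by
  intro G _ _ _ P Γ _ _ _ Q I W _ _ X T T' ⟨i⟩ hm hc hQ ⟨f, hf⟩
  obtain ⟨π, hπ⟩ : ∃ π, π = MulAction.toPermHom Γ (Γ ⧸ Q.B) := ⟨_, rfl⟩
  have hπ' : ∀ g x, π g x = g • x := fun g x => hπ ▸ rfl
  have iπ : Function.Injective π := hπ ▸ perm_inj Q (T'.e i)
  obtain ⟨ρ, hρ⟩ : ∃ ρ, ρ = f.permCongrHom.toMonoidHom.comp (MulAction.toPermHom G (G ⧸ P.B)) :=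
    ⟨_, rfl⟩
  have hρ' : ∀ g x, ρ g (f x) = f (g • x) := fun g x => by simp [hρ]
  have iρ : Function.Injective ρ := hρ ▸ f.permCongrHom.injective.comp (perm_inj P (T.e i))
  have nor : ∀ g, ρ g ∈ normalizer (π.range : Set (Perm (Γ ⧸ Q.B))) := fun g =>
    mem_normalizer_fintype (by
      rintro _ ⟨γ, rfl⟩
      rw [hπ]
      refine normal T' fr i (hm i) hQ γ _ ((mem_aut T' _).2 fun x y => ?_)
      obtain ⟨x, rfl⟩ := f.surjective x
      obtain ⟨y, rfl⟩ := f.surjective y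
      rw [hρ', hρ', hf, hf]
      exact congrArg T.φ (wdist_smul g x y))
  let θ : G →* MulAut Γ := (MulAut.congr (MonoidHom.ofInjective iπ)).symm.toMonoidHom.comp
    (π.range.normalizerMonoidHom.comp (ρ.codRestrict _ nor))
  have hθ : ∀ g γ, π (θ g γ) = ρ g * π γ * (ρ g)⁻¹ := fun g γ =>
    congrArg Subtype.val ((MonoidHom.ofInjective iπ).apply_symm_apply _)
  have hs : Group.IsSolvable (Out Γ) := H1.KO.schK' Γ
    (fun h => not_comm Q (T'.e i) fun a b => h.1.1 a b) (by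
      unfold Concl at hc; unfold IsKnownSimple'; tauto)
  have le : ρ.range ≤ π.range := by
    rcases IsSimpleGroup.eq_bot_or_eq_top_of_normal ((QuotientGroup.mk' (Inn Γ)).comp θ).ker
      inferInstance with e | e
    · exact (not_comm P (T.e i) (IsSimpleGroup.comm_iff_isSolvable.2
        (Group.isSolvable_of_isSolvable_injective ((MonoidHom.ker_eq_bot_iff _).1 e)))).elim
    rintro _ ⟨g, rfl⟩
    obtain ⟨γ, hγ⟩ := (QuotientGroup.eq_one_iff (θ g)).1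
      (e ▸ mem_top g : g ∈ ((QuotientGroup.mk' (Inn Γ)).comp θ).ker)
    refine ⟨γ, inv_mul_eq_one.1 (cent_eq_one Q _ fun k x => ?_)⟩
    have := hθ g k
    rw [← hγ, MulAut.conj_apply, map_mul, map_mul, map_inv] at this
    rw [← hπ', ← hπ', ← Perm.mul_apply, ← Perm.mul_apply]
    congr 1
    calc _ = (π γ)⁻¹ * (ρ g * π k * (ρ g)⁻¹) * ρ g := by group
      _ = _ := by rw [← this]; group
  obtain ⟨p, U, h0, h1, h2, h3, h4⟩ := hQ.syl
  have top := eq_top Q (T'.e i) h0 h1 h2 h3 h4 (H := ρ.range.comap π) fun x y x' y' e => by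
    obtain ⟨x, rfl⟩ := f.surjective x
    obtain ⟨y, rfl⟩ := f.surjective y
    obtain ⟨x', rfl⟩ := f.surjective x'
    obtain ⟨y', rfl⟩ := f.surjective y'
    obtain ⟨g, e1, e2⟩ := exists_smul_eq_of_wdist_eq (T.φ.injective
      ((hf x y).symm.trans ((congrArg T'.φ e).trans (hf x' y'))))
    obtain ⟨γ, hγ⟩ := le ⟨g, rfl⟩
    exact ⟨γ, ⟨g, hγ.symm⟩, by rw [← hπ', hγ, hρ', e1], by rw [← hπ', hγ, hρ', e2]⟩
  have eq : ρ.range = π.range := le_antisymm le (by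
    rintro _ ⟨γ, rfl⟩
    exact (top ▸ mem_top γ : γ ∈ ρ.range.comap π))
  exact ⟨((MonoidHom.ofInjective iρ).trans (MulEquiv.subgroupCongr eq)).trans
    (MonoidHom.ofInjective iπ).symm⟩

end Cfsg.Agent.H90.T3Fin
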