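import Cfsg.Agent.H90.ThS
import Cfsg.Agent.H90.Cnt

/-!
# The centraliser of an involution in the Thompson group
-/

set_option autoImplicit false
set_option maxRecDepth 1000000
set_option maxHeartbeats 200000
set_option linter.all false
set_option Elab.async false

namespace Cfsg.Agent.H90.ThC

open Cfsg.Agent.H44 Cfsg.Agent.H68 Cfsg.Agent.H90.M24 Cfsg.Agent.H90.ThM Cfsg.Agent.H90.ThD
  Cfsg.Agent.H90.ThP Cfsg.Agent.H90.ThV Cfsg.Agent.H90.ThU Cfsg.Agent.H90.Cnt MulAction Subgroup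

attribute [local irreducible] M24.mul can dec codeW

theorem den_mul {c c' : ℕ} {q q' : ThK.K} (h : S.Den c q) (h' : S.Den c' q') :
    S.Den (mul c c') (q * q') :=
  den_iff.2 ⟨can_mul _ _, by
    rw [dec_mul (den_iff.1 h).1 (den_iff.1 h').1, (den_iff.1 h).2, (den_iff.1 h').2, map_mul]⟩

theorem den_one : S.Den one 1 := den_iff.2 ⟨can_one, by rw [dec_one, map_one]⟩

theorem den_gc {x : ℕ} (h1 : 1 ≤ x) (h2 : x ≤ 9) : S.Den (nth 0 gc x) (ThK.k x) :=
  den_iff.2 ⟨(g24_spec h1 h2).1, by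
    have := (den_iff.1 (den_codeW (l := [x]) (by simp [lettersIn, h1, h2]))).2
    rw [dec_codeW (by simp [lettersIn, h1, h2]), ev_single, ev_single] at this
    rw [← this, (g24_spec h1 h2).2]⟩

/-- The square is trivial. -/
noncomputable def sqB (y : ℕ) : Bool := Nat.beq (mul y y) one

theorem cnt_spec {H : Subgroup ThK.K} {ev : ℕ → (ℕ → Bool) → Bool}
    (hev : ∀ s k, ev s k = true → ∃ y, InH H y ∧ k y = true) {Y : ℕ} (hY : can Y = true)
    {A B : List ℕ} {n : ℕ} (h : cntChk mul sqB ev Y A B n = true)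
    (hc : Nat.card H ≤ A.length * B.length) : {y | y ∈ H ∧ y * y = 1}.ncard ≤ n :=
  cnt_aux (pt := pX) (D := S.Den) (fun _ _ h => den_smul h hY)
    (fun _ _ e => pX_inj (can_mul _ _) (can_mul _ _) e) (fun _ _ _ => den_inj)
    (fun _ _ _ _ => den_mul) (fun _ _ h e => Nat.beq_eq ▸ den_inj (den_mul h h) (e ▸ den_one)) hev h hc

theorem cn2 : cntChk mul sqB (evS FU (nat_lit 4283) (nat_lit 42)) Y2 A2 B2 272 = true := by
  decide +kernel

theorem cn3 : cntChk mul sqB (evS FU (nat_lit 4283) (nat_lit 63)) Y3 A3 B3 32 = true := by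
  decide +kernel

theorem cn4 : cntChk mul sqB (evS FU (nat_lit 4283) (nat_lit 101)) Y4 A4 B4 28 = true := by
  decide +kernel

theorem cn5 : cntChk mul sqB (evS FU (nat_lit 4283) (nat_lit 109)) Y5 A5 B5 4 = true := by
  decide +kernel

theorem cn6 : cntChk mul sqB (evS FU (nat_lit 4283) (nat_lit 2473)) Y6 A6 B6 10 = true := by
  decide +kernel

theorem cn7 : cntChk mul sqB (evS FU (nat_lit 4283) (nat_lit 3004)) Y7 A7 B7 8 = true := by
  decide +kernel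

theorem cn8 : cntChk mul sqB (evS FU (nat_lit 4283) (nat_lit 3292)) Y8 A8 B8 14 = true := by
  decide +kernel

theorem cn9 : cntChk mul sqB (evS FU (nat_lit 4283) (nat_lit 3771)) Y9 A9 B9 2 = true := by
  decide +kernel

theorem cn10 : cntChk mul sqB (evS FU (nat_lit 4283) (nat_lit 4252)) Y10 A10 B10 50 = true := by
  decide +kernel

/-- Bounds for the numbers of solutions of `y ^ 2 = 1` in the stabilisers. -/
def nI : Fin 11 → ℕ := ![634023936, 36864, 272, 32, 28, 4, 10, 8, 14, 2, 50]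

theorem inv_le (i : Fin 11) : {y | y ∈ stabilizer ThK.K (q i) ∧ y * y = 1}.ncard ≤ nI i := by
  have h0 : ∀ i, {y | y ∈ stabilizer ThK.K (q i) ∧ y * y = 1}.ncard ≤ sz i := fun i => by
    rw [← ThS.stab_card]
    exact Set.ncard_le_ncard (t := (stabilizer ThK.K (q i) : Set ThK.K)) (fun _ h => h.1)
      (Set.toFinite _)
  have h1 := ThS.stab_card i
  fin_cases i
  · exact (h0 _).trans (by decide)
  · exact (h0 _).trans (by decide)
  · exact (cnt_spec (evS_spec upto _) canY2 cn2 (h1.le.trans (le_of_eq_of_le (by decide) len2.ge))).trans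
      (by decide)
  · exact (cnt_spec (evS_spec upto _) canY3 cn3 (h1.le.trans (le_of_eq_of_le (by decide) len3.ge))).trans
      (by decide)
  · exact (cnt_spec (evS_spec upto _) canY4 cn4 (h1.le.trans (le_of_eq_of_le (by decide) len4.ge))).trans
      (by decide)
  · exact (cnt_spec (evS_spec upto _) canY5 cn5 (h1.le.trans (le_of_eq_of_le (by decide) len5.ge))).trans
      (by decide)
  · exact (cnt_spec (evS_spec upto _) canY6 cn6 (h1.le.trans (le_of_eq_of_le (by decide) len6.ge))).trans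
      (by decide)
  · exact (cnt_spec (evS_spec upto _) canY7 cn7 (h1.le.trans (le_of_eq_of_le (by decide) len7.ge))).trans
      (by decide)
  · exact (cnt_spec (evS_spec upto _) canY8 cn8 (h1.le.trans (le_of_eq_of_le (by decide) len8.ge))).trans
      (by decide)
  · exact (cnt_spec (evS_spec upto _) canY9 cn9 (h1.le.trans (le_of_eq_of_le (by decide) len9.ge))).trans
      (by decide)
  · exact (cnt_spec (evS_spec upto _) canY10 cn10 (h1.le.trans (le_of_eq_of_le (by decide) len10.ge))).trans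
      (by decide)

/-- Conjugate by the letters of a stream. -/
noncomputable def cjS (mu : ℕ → ℕ → ℕ) (tb ti : ℕ → ℕ) (n : ℕ) : ℕ → ℕ → (ℕ → Bool) → Bool :=
  Nat.rec (motive := fun _ => ℕ → ℕ → (ℕ → Bool) → Bool) (fun _ x k => k x)
    (fun _ ih s x k => Bool.rec (motive := fun _ => Bool)
      (DCE.frc (mu (tb (Nat.land s 7)) (mu x (ti (Nat.land s 7)))) fun y =>
        DCE.frc (Nat.shiftRight s 3) fun s' => ih s' y k) (k x) (Nat.beq s 0)) n

theorem cjS_spec {mu : ℕ → ℕ → ℕ} {tb ti : ℕ → ℕ} {P : ℕ → Prop}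
    (hP : ∀ j < 8, ∀ x, P x → P (mu (tb j) (mu x (ti j)))) (n : ℕ) :
    ∀ s x k, P x → cjS mu tb ti n s x k = true → ∃ y, P y ∧ k y = true := by
  induction n with
  | zero => exact fun _ x _ hx h => ⟨x, hx, h⟩
  | succ n ih =>
    intro s x k hx h
    have h1 : Bool.rec (motive := fun _ => Bool)
      (DCE.frc (mu (tb (Nat.land s 7)) (mu x (ti (Nat.land s 7)))) fun y =>
        DCE.frc (Nat.shiftRight s 3) fun s' => cjS mu tb ti n s' y k) (k x) (Nat.beq s 0) = true := h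
    cases e : Nat.beq s 0 <;> rw [e] at h1
    · exact ih _ _ _ (hP _ (Nat.and_lt_two_pow s (by norm_num : 7 < 2 ^ 3)) x hx) h1
    · exact ⟨x, hx, h1⟩

/-- Streams for the conjugates of `d`. -/
def CL : List ℕ := [(nat_lit 0x2a7714e9), (nat_lit 0x74a7114e9), (nat_lit 0x14a7114e9), (nat_lit 0x2f4e94e9), (nat_lit 0x4ed4e94e9), (nat_lit 1817), (nat_lit 0x4e94e9), (nat_lit 0x74a74a751), (nat_lit 922849), (nat_lit 0x29d74a759), (nat_lit 0x3d4e94e14e1), (nat_lit 1249), (nat_lit 0x475388a751), (nat_lit 0xf5d4e9), (nat_lit 0xbdd4e1), (nat_lit 0x5388a711), (nat_lit 0x1d74a759), (nat_lit 0x274a751), (nat_lit 0x468a711), (nat_lit 0xcd14e9), (nat_lit 0xea70a719), (nat_lit 0x29c719), (nat_lit 10001), (nat_lit 0x4e27514e1), (nat_lit 0x8ea7114e9), (nat_lit 0x10a74a74a711), (nat_lit 0xd1d4e1), (nat_lit 0xe44e14e1), (nat_lit 419), (nat_lit 0xa7114e1), (nat_lit 0x354e94e14e1), (nat_lit 218321), (nat_lit 27289), (nat_lit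 0x153b8a751), (nat_lit 0x54ea711), (nat_lit 214609), (nat_lit 0x539ca711), (nat_lit 0x72270a711), (nat_lit 27369), (nat_lit 0xa9d453a99), (nat_lit 0xae2759), (nat_lit 0x14a70a74a759), (nat_lit 0x214e94e94e9), (nat_lit 0x153a53b8a751), (nat_lit 0x2a74a7714e9), (nat_lit 239385), (nat_lit 0x394e94e94e1), (nat_lit 0x57314e1), (nat_lit 0xb9d4e94e1), (nat_lit 239441), (nat_lit 18665), (nat_lit 0x4e94e14e1), (nat_lit 0xb4a70a719), (nat_lit 0x1e94e14e1), (nat_lit 0x5ce94e1), (nat_lit 0xd4a7114e9), (nat_lit 0x394e94e14e1), (nat_lit 0xf53a99), (nat_lit 0x1d3a99), (nat_lit 0x70a70a74a719), (nat_lit 0x5ae274a711), (nat_lit 412), (nat_lit 0x274a70a711), (nat_lit 0x2b9ca711), (nat_lit 0x1ca74a74a711), (nat_lit 0xce229c4d1), (nat_lit 0x19c453899), (nat_lit 190225), (nat_lit 0x90a70a70a719), (nat_lit 3819), (nat_lit 0xa53853a53ad1), (nat_lit 0x122751), (nat_lit 289), (nat_lit 0xea7314e1), (nat_lit 0x29c4d1), (nat_lit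 0x15d4e94e94e9), (nat_lit 0x3c4e94e9), (nat_lit 0x1aa719), (nat_lit 0x14a7314e1), (nat_lit 0x314e94e94e9), (nat_lit 0x2470a719), (nat_lit 0xb9c4e1), (nat_lit 233), (nat_lit 0x674a711), (nat_lit 0x3574a751), (nat_lit 0x70a7314e1), (nat_lit 0xa70a7314e1), (nat_lit 0xf1a29c), (nat_lit 0x17a74a711), (nat_lit 0xbdc4e9), (nat_lit 0xa53a99), (nat_lit 0x1a3899), (nat_lit 0xd1c4d1), (nat_lit 178329), (nat_lit 0x15c4d1), (nat_lit 0xd14eba99), (nat_lit 0x68a75d4d1), (nat_lit 0x7694e94e9), (nat_lit 0xed4e94e1), (nat_lit 156897), (nat_lit 0x153a53ad1), (nat_lit 0x314e14e1), (nat_lit 0x2f4e94e1), (nat_lit 0x78ea759), (nat_lit 1873), (nat_lit 0x713a53ad1), (nat_lit 3817), (nat_lit 0x713bca751), (nat_lit 0x53a8a74a719), (nat_lit 0x3a53a53ad1), (nat_lit 0x27714e9), (nat_lit 0x193851), (nat_lit 0x1e94e94e14e1), (nat_lit 0x722751), (nat_lit 3740), (nat_lit 0x229c453899), (nat_lit 0x114e229c4d1), (nat_lit 0x10a7794e9),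 (nat_lit 0x29c70a711), (nat_lit 243793), (nat_lit 0x6ae2719), (nat_lit 0x1694e14e1), (nat_lit 0xea7114e9), (nat_lit 0x90a70a74a759), (nat_lit 0x2ba53a53ad1), (nat_lit 0x5753b8a751), (nat_lit 0xea74a751), (nat_lit 1257), (nat_lit 0x570a7114e9), (nat_lit 0x3a74a74a751), (nat_lit 0x577a751), (nat_lit 81), (nat_lit 0x1114e229c4d1), (nat_lit 0x2229c453899), (nat_lit 0xe538e14e1), (nat_lit 0x71388a711), (nat_lit 26833), (nat_lit 3353), (nat_lit 0x7714e9), (nat_lit 0x17274a711), (nat_lit 0xc8a751), (nat_lit 0x1d3851), (nat_lit 251729), (nat_lit 0x1dc651), (nat_lit 0x1d14e94e14e1), (nat_lit 0xee4e94e1), (nat_lit 0xb8a751), (nat_lit 0x47794e9), (nat_lit 0x74e94e1), (nat_lit 244305), (nat_lit 0x74a7314e1), (nat_lit 0x68e14e1), (nat_lit 0x2270a719), (nat_lit 0xa70a70a719), (nat_lit 0x1114e9), (nat_lit 0x23a53a8a711), (nat_lit 0x470a7114e9), (nat_lit 0x4713853a99), (nat_lit 644945), (nat_lit 0x1714e9), (nat_lit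 0x2d70a74a711), (nat_lit 0x3853a53ad1), (nat_lit 0x48e94e9), (nat_lit 0x2274a7114e9), (nat_lit 0x3c74a759), (nat_lit 136417), (nat_lit 0x44e229c4d1), (nat_lit 0x6aea751), (nat_lit 0x53a8a711), (nat_lit 0x570a74a759), (nat_lit 0xae27114e1), (nat_lit 17617), (nat_lit 2201), (nat_lit 0x9dd4e14e1), (nat_lit 0x3a74a711), (nat_lit 0xeea74a711), (nat_lit 0x11d4e94e9), (nat_lit 0x5d5d4e1), (nat_lit 0x529d4e1), (nat_lit 0x772751), (nat_lit 0x1c4e94e9), (nat_lit 0x390a70a759), (nat_lit 0x10a74a719), (nat_lit 0x29c8e94e9), (nat_lit 0xb9d4e14e1), (nat_lit 0x1a14e94e9), (nat_lit 0x1a94e94e1), (nat_lit 0x14a74a711), (nat_lit 0x29c68a711), (nat_lit 0xee94e94e14e1), (nat_lit 0xe94e14e1), (nat_lit 0x7853a99), (nat_lit 935137), (nat_lit 1809), (nat_lit 342681), (nat_lit 0x722711), (nat_lit 0x14a751), (nat_lit 0x538d14e1), (nat_lit 0x77a711), (nat_lit 0x15c4e9), (nat_lit 0x53853ad1), (nat_lit 0x4c53899), (nat_lit 0x774a74a70a711),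 (nat_lit 0x347114e9), (nat_lit 115945), (nat_lit 0x11d4e94e94e9), (nat_lit 0xf4a74a751), (nat_lit 0x574a7314e1), (nat_lit 0x5ae2751), (nat_lit 0x271c4d1), (nat_lit 0xe53899), (nat_lit 0x470a711), (nat_lit 0xb5c4e9), (nat_lit 0x4853899), (nat_lit 0xf5d4e1), (nat_lit 0x1e94e94e1), (nat_lit 5345), (nat_lit 339), (nat_lit 173649), (nat_lit 0x23a5388a751), (nat_lit 0x15d651), (nat_lit 0xeea74a70a711), (nat_lit 0x1a274a759), (nat_lit 0x7a53899), (nat_lit 0x1ca74a74a751), (nat_lit 173905), (nat_lit 0xf0a74a74a711), (nat_lit 22353), (nat_lit 0x470a7114e1), (nat_lit 0xee94e9), (nat_lit 0x1a14e1), (nat_lit 42769), (nat_lit 0x474a7114e9), (nat_lit 0x7514ea719), (nat_lit 0xe274a711), (nat_lit 0x9dd4d1), (nat_lit 0x13ba99), (nat_lit 0x1dd4e94e14e1), (nat_lit 0x53b8a751), (nat_lit 0x270a759), (nat_lit 0x10a70a759), (nat_lit 0x7794e94e14e1), (nat_lit 0x8ea7714e9), (nat_lit 25833), (nat_lit 0x23853853a99), (nat_lit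 0x1ea70a74a759), (nat_lit 244433), (nat_lit 157521), (nat_lit 0xb5c453899), (nat_lit 0x99d453a99), (nat_lit 0x113851), (nat_lit 0x1314e1), (nat_lit 0xae270a74a719), (nat_lit 0x138538d1), (nat_lit 0x75d4e1), (nat_lit 0x474a711), (nat_lit 145617), (nat_lit 0x64e94e94e9), (nat_lit 0x13ba51), (nat_lit 0x270a7314e1), (nat_lit 0x1388a74a711), (nat_lit 0x6a53899), (nat_lit 0x47514e1), (nat_lit 0x77a719), (nat_lit 244377), (nat_lit 0x1dd4d1), (nat_lit 0x5ae14e1), (nat_lit 0x3d4e14e1), (nat_lit 0x7ae94e94e1), (nat_lit 0xae44e1), (nat_lit 0xef4e94e9), (nat_lit 0x5713a99), (nat_lit 0x15d4e94e1), (nat_lit 1233), (nat_lit 153), (nat_lit 0xa70a74a719), (nat_lit 20195), (nat_lit 0xaea74a711), (nat_lit 0x2270a70a719), (nat_lit 0x91c4e1), (nat_lit 2641), (nat_lit 0x274a711), (nat_lit 0xe538d1), (nat_lit 0xe8a751), (nat_lit 0x9dc651), (nat_lit 0x153a8a711), (nat_lit 0x729d4d1), (nat_lit 141073), (nat_lit 23273), (nat_lit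 0x53a5388a751), (nat_lit 0x29d453a99), (nat_lit 931921), (nat_lit 0xe229d453a99), (nat_lit 0xe27314e14e1), (nat_lit 0x3853bca751), (nat_lit 0xaea7394e1), (nat_lit 0x74a711), (nat_lit 0x153bca74a711), (nat_lit 0x23a53ad1), (nat_lit 0x5753ad1), (nat_lit 0x1e274a74a711), (nat_lit 0x12270a759), (nat_lit 0x8e27114e1), (nat_lit 0xc538d1), (nat_lit 0x27394e1), (nat_lit 0xea74a7114e9), (nat_lit 0x2ba53899), (nat_lit 0xae14e94e1), (nat_lit 0xd0a7714e9), (nat_lit 0x27694e9), (nat_lit 0x193a99), (nat_lit 0x1aa70a719), (nat_lit 0x2a7794e94e1), (nat_lit 0x76a751), (nat_lit 0x14ea711), (nat_lit 0x72270a759), (nat_lit 0xea70a74a719), (nat_lit 0xa9c4d1), (nat_lit 0x114e94e1), (nat_lit 2716), (nat_lit 0xc9d4d1), (nat_lit 1820), (nat_lit 0xa70a74a759), (nat_lit 0xa74a759), (nat_lit 0x4eea751), (nat_lit 0xd0a74a759), (nat_lit 0x4e229c4d1), (nat_lit 0x3d74a711), (nat_lit 0x3c74a70a711), (nat_lit 0x8e94e94e14e1), (nat_lit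 0x4ce94e94e9), (nat_lit 30481), (nat_lit 227), (nat_lit 0x57114e1), (nat_lit 0x3270a70a719), (nat_lit 0x570a719), (nat_lit 0x12270a74a759), (nat_lit 0x3c7694e9), (nat_lit 0x5753a53ad1), (nat_lit 0xa539ca711), (nat_lit 0x68a751), (nat_lit 0x274a74a751), (nat_lit 0x57314e14e1), (nat_lit 0x4cd14e1), (nat_lit 0x229d4e1), (nat_lit 0x68ea719), (nat_lit 0x5e9d4d1), (nat_lit 0x2b88a711), (nat_lit 0xa753899), (nat_lit 0x47314e1), (nat_lit 0x15c4e94e9), (nat_lit 0x385388a711), (nat_lit 0x1a2651), (nat_lit 3347), (nat_lit 0x1a94e94e14e1), (nat_lit 0x10a70a74a719), (nat_lit 0x54e94e14e1), (nat_lit 0x6ad14e9), (nat_lit 0xb9c4e94e1), (nat_lit 0x5ae2711), (nat_lit 0xaea70a74a719), (nat_lit 0x3c7394e1), (nat_lit 0x14a70a7114e1), (nat_lit 0x1ab899), (nat_lit 0x1e3a99), (nat_lit 0x5388a751), (nat_lit 0x5ce14e1), (nat_lit 0x274a7314e1), (nat_lit 18193), (nat_lit 0x123a51), (nat_lit 0x78e94e94e9), (nat_lit 0x1c70a719),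 (nat_lit 1617), (nat_lit 0x4e2759), (nat_lit 0x229d4e14e1), (nat_lit 0x8a70a759), (nat_lit 0x2d4e94e9), (nat_lit 0xa70a719), (nat_lit 0x5453a99), (nat_lit 0x2a29d4d1), (nat_lit 2897), (nat_lit 186129), (nat_lit 0x8ea719), (nat_lit 0x8ef4e9), (nat_lit 0x274a719), (nat_lit 0x4772751), (nat_lit 0x1d3a51), (nat_lit 0x1ea74a751), (nat_lit 0x713853a99), (nat_lit 0x47694e9), (nat_lit 413), (nat_lit 0x13229d4d1), (nat_lit 0x26453a99), (nat_lit 0x18a711), (nat_lit 0x913899), (nat_lit 3229), (nat_lit 0x7394e1), (nat_lit 281), (nat_lit 0x4ed14e1), (nat_lit 0x768a711), (nat_lit 0x270a7114e1), (nat_lit 0x1dd4e9), (nat_lit 0x8ea29d4d1), (nat_lit 0x11d453a99), (nat_lit 0xe274a7714e9), (nat_lit 0x713a53b8a751), (nat_lit 214249), (nat_lit 0x713899), (nat_lit 0x14e229c4d1), (nat_lit 115937), (nat_lit 0x529c453899), (nat_lit 0x99d4e1), (nat_lit 0x294e229c4d1), (nat_lit 0x8ee4e9), (nat_lit 0x10a74a711), (nat_lit 0xb5d4e1),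 (nat_lit 0xae94e9), (nat_lit 0x27514e1), (nat_lit 45), (nat_lit 0xd4a70a711), (nat_lit 0x10a70a711), (nat_lit 0x394e94e9), (nat_lit 0xa53a53ad1), (nat_lit 0x774a74a759), (nat_lit 247569), (nat_lit 0x153853a53ad1), (nat_lit 0xa75d4d1), (nat_lit 0x8538d1), (nat_lit 9809), (nat_lit 19), (nat_lit 0xd1d4e9), (nat_lit 0x1e274a759), (nat_lit 0x8ea7514e1), (nat_lit 0x2a70a74a759), (nat_lit 0x3ae94e9), (nat_lit 0x53a53899), (nat_lit 0x3a9c4d1), (nat_lit 0x113a99), (nat_lit 0x113853a99), (nat_lit 0x13bca74a751), (nat_lit 0x27794e94e9), (nat_lit 0x9ca711), (nat_lit 0x1ca74a751), (nat_lit 0xea74a74a751), (nat_lit 0x470a74a759), (nat_lit 0x7214e94e9), (nat_lit 0x8539ca711), (nat_lit 0xa538d1), (nat_lit 0x47114e9), (nat_lit 0x390a74a751), (nat_lit 0x14a719), (nat_lit 0xea7114e94e1), (nat_lit 0x1a38d1), (nat_lit 3868), (nat_lit 0x9c70a719), (nat_lit 0x274a74a711), (nat_lit 0x15c453899), (nat_lit 0xae229c4d1), (nat_lit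 234729), (nat_lit 0x429d4e1), (nat_lit 0x15c4e1), (nat_lit 25), (nat_lit 14929), (nat_lit 0x9d74a711), (nat_lit 214809), (nat_lit 29), (nat_lit 0x5ae94e94e14e1), (nat_lit 0x23853a53ad1), (nat_lit 2972), (nat_lit 0x2e70a74a711), (nat_lit 644305), (nat_lit 0x227714e9), (nat_lit 0xeea70a711), (nat_lit 0x17a719), (nat_lit 0x4e2751), (nat_lit 0x70a74a7314e1), (nat_lit 0x1c70a711), (nat_lit 0x139a14e94e1), (nat_lit 218705), (nat_lit 0x529c4d1), (nat_lit 0x10a7114e9), (nat_lit 0x70a70a70a719), (nat_lit 0x1514e2759), (nat_lit 0x13bad1), (nat_lit 0xa74a74a751), (nat_lit 0x1694e94e1), (nat_lit 0x19c4e9), (nat_lit 0x1ea74a759), (nat_lit 14417), (nat_lit 0x70a759), (nat_lit 0x391d4e9), (nat_lit 0x3274a7114e9), (nat_lit 0x11d651), (nat_lit 0x29c4e94e1), (nat_lit 0x14a7794e9), (nat_lit 0x47138d1), (nat_lit 0x1dd4e14e1), (nat_lit 0x74a7514e1), (nat_lit 0xa7538d1), (nat_lit 33), (nat_lit 194321), (nat_lit 0x1314e94e14e1),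 (nat_lit 206681), (nat_lit 21737), (nat_lit 927569), (nat_lit 0xf4a74a711), (nat_lit 0x388a751), (nat_lit 0x3a538538d1), (nat_lit 0x394e94e94e9), (nat_lit 0x13853ad1), (nat_lit 0x11c453899), (nat_lit 0x8e229c4d1), (nat_lit 0x1dc453899), (nat_lit 0x15d453a99), (nat_lit 0x13b899), (nat_lit 0x9dc4d1), (nat_lit 0x8e14e1), (nat_lit 0x27794e9), (nat_lit 21729), (nat_lit 0x13b8a74a711), (nat_lit 0x27714e94e1), (nat_lit 0x3b4a751), (nat_lit 0x13bca751), (nat_lit 0x9d7514e1), (nat_lit 1), (nat_lit 18001), (nat_lit 0x2274a74a711), (nat_lit 0x4853a99), (nat_lit 0x6aea759), (nat_lit 0x15d4e94e9), (nat_lit 0x3270a74a759), (nat_lit 0x3853b8a751), (nat_lit 0xa9d4d1), (nat_lit 0x68e2719), (nat_lit 0x13a53bca719), (nat_lit 0x5390a74a751), (nat_lit 251105), (nat_lit 178257), (nat_lit 348), (nat_lit 0x3a29d4d1), (nat_lit 0x7453a99), (nat_lit 0x98a711), (nat_lit 18201), (nat_lit 0x477a719), (nat_lit 0x89d4e1), (nat_lit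 0x3529c4d1), (nat_lit 0x70a7714e9), (nat_lit 275), (nat_lit 140881), (nat_lit 0x12270a70a719), (nat_lit 0x9d4e14e1), (nat_lit 30553), (nat_lit 0x29c70a719), (nat_lit 0x1a270a711), (nat_lit 0x853a99), (nat_lit 0x4eba99), (nat_lit 0xd5d4e9), (nat_lit 0x1dd4e94e1), (nat_lit 0x670a7714e9), (nat_lit 0x4e14e1), (nat_lit 0xd4a711), (nat_lit 0x4ea70a719), (nat_lit 0x7a53a99), (nat_lit 8860), (nat_lit 0x19c4e1), (nat_lit 0x27314e14e1), (nat_lit 0x229d453a99), (nat_lit 0x5388a74a711), (nat_lit 0x753bca719), (nat_lit 0x3c74a711), (nat_lit 0x1dc4e94e1), (nat_lit 0xa7514e1), (nat_lit 0x89c453899), (nat_lit 0x8e44e94e9), (nat_lit 0x1a94e1), (nat_lit 0x1694e94e9), (nat_lit 477), (nat_lit 0x133a51), (nat_lit 0x270a711), (nat_lit 0xaef453899), (nat_lit 0xae4453a99), (nat_lit 0x8e44e9), (nat_lit 211665), (nat_lit 0x2a7314e1), (nat_lit 0xce2711), (nat_lit 0x70a70a719), (nat_lit 0x4ee274a711), (nat_lit 0xee274a711),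 (nat_lit 0x11c4e9), (nat_lit 291), (nat_lit 285), (nat_lit 0x18a74a7114e9), (nat_lit 0x74e94e94e14e1), (nat_lit 0x3a74a74a70a711), (nat_lit 4), (nat_lit 0xea7514e1), (nat_lit 0x1a270a719), (nat_lit 0xbca70a74a759), (nat_lit 0xae27114e9), (nat_lit 169193), (nat_lit 857313), (nat_lit 0x74a719), (nat_lit 0xa7314e1), (nat_lit 0x2a7114e94e1), (nat_lit 0x853b8a751), (nat_lit 0x574a7714e9), (nat_lit 0xa70a759), (nat_lit 0x3a538d1), (nat_lit 42833), (nat_lit 0x13853b8a751), (nat_lit 0x674a70a719), (nat_lit 0xce274a711), (nat_lit 0x270a7714e9), (nat_lit 0x539a14e94e1), (nat_lit 0x44e94e1), (nat_lit 0x8ea759), (nat_lit 0x1c68a711), (nat_lit 0x5398a711), (nat_lit 0xbca719), (nat_lit 0x2f68a711), (nat_lit 0x1eba99), (nat_lit 0x173899), (nat_lit 225), (nat_lit 169185), (nat_lit 189673), (nat_lit 0x15d4e9), (nat_lit 0x1ca711), (nat_lit 0x23a53b8a751), (nat_lit 3297), (nat_lit 0xce94e94e9), (nat_lit 0xce94e1),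 (nat_lit 0x214e94e9), (nat_lit 0x172751), (nat_lit 30545), (nat_lit 0x74e94e9), (nat_lit 0x48e14e1), (nat_lit 0x2770a74a711), (nat_lit 0x3d74a759), (nat_lit 0x132711), (nat_lit 0xa74a711), (nat_lit 0xe27114e9), (nat_lit 0x6ae94e9), (nat_lit 0x44e14e1), (nat_lit 0x16a70a719), (nat_lit 0x1314e14e1), (nat_lit 234721), (nat_lit 0xd0a70a711), (nat_lit 0x70a7514e1), (nat_lit 0x3bca719), (nat_lit 0x3a74a751), (nat_lit 0x5cd14e9), (nat_lit 0xa8a70a759), (nat_lit 0x474a74a751), (nat_lit 0x1e274a711), (nat_lit 0x474a74a74a751), (nat_lit 0x68d14e1), (nat_lit 0x853bca751), (nat_lit 0x8ea751), (nat_lit 0x29d759), (nat_lit 0x74a74a759), (nat_lit 0x294e94e14e1), (nat_lit 0x3c4e14e1), (nat_lit 0x4ea719), (nat_lit 0x11d4e9), (nat_lit 0x1d7514e1), (nat_lit 0x1ea751), (nat_lit 0xea7394e1), (nat_lit 0x2674a711), (nat_lit 0x18a74a711), (nat_lit 0xae94e94e14e1), (nat_lit 0x770a74a759), (nat_lit 0x19d4e14e1), (nat_lit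 0xad14e9), (nat_lit 0x73a29c4d1), (nat_lit 0xe7453899), (nat_lit 0xe27114e1), (nat_lit 0x2d453899), (nat_lit 0x35453a99), (nat_lit 0x53bca719), (nat_lit 0x74e94e94e9), (nat_lit 0x77274a711), (nat_lit 0x74a74a7114e9), (nat_lit 0xf4a74a759), (nat_lit 120017), (nat_lit 15001), (nat_lit 0x3aea759), (nat_lit 0x114e3899), (nat_lit 0x8a71c4d1), (nat_lit 0xae274a711), (nat_lit 644321), (nat_lit 26449), (nat_lit 0xaef4e9), (nat_lit 251113), (nat_lit 0x1d4e94e9), (nat_lit 0x19c651), (nat_lit 926364), (nat_lit 0x668a751), (nat_lit 0x1e14e94e1), (nat_lit 0x227214e14e1), (nat_lit 0x11390a70a711), (nat_lit 206609), (nat_lit 0x6453899), (nat_lit 0x3229c4d1), (nat_lit 0xe9c4d1), (nat_lit 0x2a74a711), (nat_lit 644953), (nat_lit 0xa74a719), (nat_lit 0xa71c4d1), (nat_lit 0xd4a74a719), (nat_lit 14545), (nat_lit 0x2f29d4d1), (nat_lit 0x23b8a751), (nat_lit 0xa5388a751), (nat_lit 22361), (nat_lit 0x64e94e1), (nat_lit 211153),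 (nat_lit 0xe94e94e9), (nat_lit 0x4ee94e9), (nat_lit 0x2a70a74a719), (nat_lit 0xe229c4d1), (nat_lit 0x1c453899), (nat_lit 0x3270a7714e9), (nat_lit 0x47714e9), (nat_lit 0x3570a719), (nat_lit 931993), (nat_lit 0x71c4d1), (nat_lit 0x3d453a99), (nat_lit 0x2e453899), (nat_lit 0xa7394e1), (nat_lit 2281), (nat_lit 0x238538d1), (nat_lit 0xce94e14e1), (nat_lit 80465), (nat_lit 0xcea719), (nat_lit 0xaed4e9), (nat_lit 0xe270a719), (nat_lit 0xf4a70a74a759), (nat_lit 0x1dd651), (nat_lit 0x8e27114e9), (nat_lit 193761), (nat_lit 0x1139ca711), (nat_lit 0x1514e94e1), (nat_lit 141137), (nat_lit 0xd538d1), (nat_lit 0x8d14e9), (nat_lit 0x474a719), (nat_lit 0x7794e94e1), (nat_lit 0x74a7114e94e1), (nat_lit 0x23bca74a711), (nat_lit 0xd1c4e1), (nat_lit 0x10a70a719), (nat_lit 0xf4a70a711), (nat_lit 0x9d453a99), (nat_lit 0x9a14e94e1), (nat_lit 0x1394e94e1), (nat_lit 0x3bca74a751), (nat_lit 120401), (nat_lit 927513), (nat_lit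 0x7138d1), (nat_lit 0x48e2719), (nat_lit 0x2d70a759), (nat_lit 0xa8a74a711), (nat_lit 0x474a70a711), (nat_lit 0x74a74a70a711), (nat_lit 235), (nat_lit 0x753a53a8a711), (nat_lit 0xea74a7514e1), (nat_lit 17641), (nat_lit 342169), (nat_lit 0x8ea711), (nat_lit 0x2274a751), (nat_lit 0x13ae94e1), (nat_lit 0x1d4e94e94e9), (nat_lit 0x2274a759), (nat_lit 0x670a70a70a719), (nat_lit 0x294e94e9), (nat_lit 0x753a99), (nat_lit 0x113a53ad1), (nat_lit 80593), (nat_lit 0xe270a74a719), (nat_lit 0x274e94e1), (nat_lit 0x114e2759), (nat_lit 0x1914e1), (nat_lit 0x573a711), (nat_lit 10073), (nat_lit 0x1d4e94e1), (nat_lit 0xae2711), (nat_lit 0x1e3851), (nat_lit 0x4e94e94e1), (nat_lit 0xb9c453899), (nat_lit 0x8e7453a99), (nat_lit 2899), (nat_lit 0x16a651), (nat_lit 0x768a751), (nat_lit 173913), (nat_lit 960337), (nat_lit 427), (nat_lit 0x1514ea719), (nat_lit 947425), (nat_lit 0x91d4e1), (nat_lit 0x113a53b8a751), (nat_lit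 0x2274a7714e9), (nat_lit 2323), (nat_lit 0x122651), (nat_lit 0xaef4e1), (nat_lit 0x1d4e14e1), (nat_lit 0x70a74a711), (nat_lit 0x5385388a711), (nat_lit 141145), (nat_lit 0x88a74a711), (nat_lit 0x670a74a711), (nat_lit 28), (nat_lit 0x476a751), (nat_lit 0xae44e9), (nat_lit 0xce2751), (nat_lit 0x72270a70a719), (nat_lit 0x38e14e1), (nat_lit 0x17a751), (nat_lit 0x771c4e1), (nat_lit 0x574a7394e1), (nat_lit 640793), (nat_lit 0x8a70a74a759), (nat_lit 0x113a53899), (nat_lit 0x7453899), (nat_lit 0x3a29c4d1), (nat_lit 0x1aba99), (nat_lit 0x16b899), (nat_lit 0x44ea719), (nat_lit 363), (nat_lit 0x9c70a711), (nat_lit 0x5d5c4e9), (nat_lit 0x14a7714e9), (nat_lit 0x1714e94e1), (nat_lit 0xe274a7314e1), (nat_lit 0xce270a719), (nat_lit 0x64e94e14e1), (nat_lit 0xa53b8a751), (nat_lit 3036), (nat_lit 0x270a7394e1), (nat_lit 0x138539ca711), (nat_lit 0x3274a70a711), (nat_lit 0x7ad14e9), (nat_lit 0x13853a53ad1), (nat_lit 0x68e94e1),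 (nat_lit 193769), (nat_lit 0xe270a70a719), (nat_lit 0x29d29c4d1), (nat_lit 0x89c4d1), (nat_lit 0x753899), (nat_lit 0x1388a751), (nat_lit 0x13a8a711), (nat_lit 1881), (nat_lit 0x3574a711), (nat_lit 0x47114e94e1), (nat_lit 29921), (nat_lit 0x1ca74a711), (nat_lit 0x2a74a751), (nat_lit 0x6ae94e1), (nat_lit 0x474a70a719), (nat_lit 115921), (nat_lit 14489), (nat_lit 0x1394e1), (nat_lit 0x713b8a751), (nat_lit 0x10a719), (nat_lit 0x2270a7114e1), (nat_lit 0xae27794e9), (nat_lit 0x1a94e14e1), (nat_lit 960345), (nat_lit 2329), (nat_lit 0x394e94e1), (nat_lit 0x1e94e1), (nat_lit 0x1c4e94e94e1), (nat_lit 0x3a74a70a711), (nat_lit 205468), (nat_lit 30945), (nat_lit 0x753ad1), (nat_lit 15057), (nat_lit 955625), (nat_lit 0x48d14e1), (nat_lit 0x274a70a719), (nat_lit 0xe27714e9), (nat_lit 239377), (nat_lit 0x114ea711), (nat_lit 0x133ad1), (nat_lit 26777), (nat_lit 214225), (nat_lit 0x10a70a74a759), (nat_lit 0x1a27714e9),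 (nat_lit 0x247694e9), (nat_lit 0x13a53ad1), (nat_lit 0x8a753899), (nat_lit 0x314e94e14e1), (nat_lit 0x14a7394e1), (nat_lit 0x3a29d4e14e1), (nat_lit 243921), (nat_lit 0x74a70a7114e1), (nat_lit 116305), (nat_lit 0x344e94e9), (nat_lit 0x1ded14e1), (nat_lit 857321), (nat_lit 0xaea7314e1), (nat_lit 0x18a74a70a711), (nat_lit 0x9c68a711), (nat_lit 0x244e94e9), (nat_lit 0x264e94e14e1), (nat_lit 0x14a70a74a719), (nat_lit 0x10a759), (nat_lit 0x574a759), (nat_lit 23249), (nat_lit 0x713ad1), (nat_lit 0x3a8a74a719), (nat_lit 0x12274a751), (nat_lit 0x13a8a74a719), (nat_lit 206617), (nat_lit 18265), (nat_lit 0x138d14e1), (nat_lit 0x70a7114e1), (nat_lit 0xef4e94e1), (nat_lit 0x72274a751), (nat_lit 173849), (nat_lit 0x1390a74a751), (nat_lit 0x10a70a70a719), (nat_lit 0x99c4e1), (nat_lit 0xe44e94e9), (nat_lit 0x1538d1), (nat_lit 0x3568a751), (nat_lit 668), (nat_lit 0x5ce2751), (nat_lit 0x74a74a711), (nat_lit 201961),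 (nat_lit 2273), (nat_lit 20201), (nat_lit 120657), (nat_lit 0x668a711), (nat_lit 0xb9d4e1), (nat_lit 3307), (nat_lit 0x78ea711), (nat_lit 0x2a74a719), (nat_lit 0x90a70a711), (nat_lit 0x6ad14e1), (nat_lit 0x274a7714e9), (nat_lit 0x13a53b8a751), (nat_lit 0x264e94e1), (nat_lit 0x264e14e1), (nat_lit 0xcd14e1), (nat_lit 0x1d14e9), (nat_lit 0x1ea70a711), (nat_lit 0x29d4e14e1), (nat_lit 0x11d4e14e1), (nat_lit 0xef453899), (nat_lit 0xe4453a99), (nat_lit 0x1d74a711), (nat_lit 0x670a74a759), (nat_lit 0x674a7114e9), (nat_lit 0x70a719), (nat_lit 0xeea711), (nat_lit 0x570a7794e9), (nat_lit 0x14a759), (nat_lit 0xee2751), (nat_lit 0x314e94e94e1), (nat_lit 186193), (nat_lit 0x23a8a711), (nat_lit 0x8ef4e94e1), (nat_lit 18513), (nat_lit 0x19a29c), (nat_lit 0x3d74a74a711), (nat_lit 0xe8a711), (nat_lit 0x244e14e1), (nat_lit 5), (nat_lit 0xae94e94e9), (nat_lit 0x2a7514e1), (nat_lit 0x38538d1), (nat_lit 0x39a14e94e1),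 (nat_lit 0x1dd4e1), (nat_lit 0x429c4d1), (nat_lit 0x3270a711), (nat_lit 0xa74a7114e9), (nat_lit 0xea74a70a711), (nat_lit 0x99c4e9), (nat_lit 0x574a70a74a759), (nat_lit 0xd1a29c), (nat_lit 0x7114e1), (nat_lit 0x13b4a751), (nat_lit 0xbca74a751), (nat_lit 0x78e2711), (nat_lit 0xf4a751), (nat_lit 0x670a70a719), (nat_lit 0x8a74a711), (nat_lit 0x139ca711), (nat_lit 0x2229d4e1), (nat_lit 0x1a2711), (nat_lit 0xf1c4e1), (nat_lit 0x27453a99), (nat_lit 0x13a29d4d1), (nat_lit 0x9c4e94e1), (nat_lit 0x3853899), (nat_lit 0x17a70a74a759), (nat_lit 955617), (nat_lit 0x388a711), (nat_lit 0x3a539ca711), (nat_lit 0x1e94e9), (nat_lit 0x3b8e14e1), (nat_lit 0xcea70a719), (nat_lit 0x18a759), (nat_lit 0x44e2751), (nat_lit 0xf1d4e14e1), (nat_lit 0x214ea719), (nat_lit 0x70a74a751), (nat_lit 0xaea751), (nat_lit 0x4713a53ad1), (nat_lit 0x5aea751), (nat_lit 0x75d4e9), (nat_lit 0x1e94e94e94e9), (nat_lit 0x14a7514e1), (nat_lit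 0x27694e94e1), (nat_lit 0x270a7114e9), (nat_lit 0x529d4d1), (nat_lit 0x10a74a751), (nat_lit 0x113853bca751), (nat_lit 0x2270a7794e9), (nat_lit 0x1a14e14e1), (nat_lit 0xee94e1), (nat_lit 0x9de53899), (nat_lit 0x853853a99), (nat_lit 0x18a70a711), (nat_lit 0x14a70a719), (nat_lit 0x3a53b8a751), (nat_lit 284), (nat_lit 0x713a99), (nat_lit 0x2e68a751), (nat_lit 0x8a75d4d1), (nat_lit 0x114eba99), (nat_lit 26385), (nat_lit 0x8e274a759), (nat_lit 0x774a711), (nat_lit 0x74a74a74a751), (nat_lit 0xf0a74a759), (nat_lit 0x4722711), (nat_lit 0x48e94e1), (nat_lit 31465), (nat_lit 145561), (nat_lit 0x11c4d1), (nat_lit 0x2a7114e9), (nat_lit 0x3d7114e1), (nat_lit 0x1ea74a711), (nat_lit 0x27538d1), (nat_lit 0x270a7514e1), (nat_lit 0x3468a711), (nat_lit 3299), (nat_lit 0x2a7794e9), (nat_lit 3811), (nat_lit 0x7539ca711), (nat_lit 0x75388a751), (nat_lit 0x470a7514e1), (nat_lit 0xaea7714e9), (nat_lit 0x4ce94e1), (nat_lit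 0x3453a53899), (nat_lit 0x57214e14e1), (nat_lit 0xf5c4e9), (nat_lit 0x4e94e94e94e9), (nat_lit 0x2768a751), (nat_lit 3228), (nat_lit 0x538e14e1), (nat_lit 0x74a70a74a719), (nat_lit 0x3c4e94e1), (nat_lit 0x57114e9), (nat_lit 0xd0a70a70a719), (nat_lit 0), (nat_lit 3305), (nat_lit 476), (nat_lit 0x5772751), (nat_lit 0x11c4e1), (nat_lit 0x15c4e94e1), (nat_lit 211609), (nat_lit 0x19d4d1), (nat_lit 247633), (nat_lit 0x8e94e94e9), (nat_lit 0xaea711), (nat_lit 0x78e274a759), (nat_lit 0x89c4e94e1), (nat_lit 0x53a538d1), (nat_lit 0xe53ad1), (nat_lit 157), (nat_lit 0x7538d1), (nat_lit 960281), (nat_lit 0x1539ca711), (nat_lit 0x3a5388a751), (nat_lit 0x7139ca711), (nat_lit 0x78ed4e9), (nat_lit 3417), (nat_lit 0x5e53a99), (nat_lit 0xae229c), (nat_lit 18257), (nat_lit 26393), (nat_lit 0x7538538d1), (nat_lit 178897), (nat_lit 0xe229c453899), (nat_lit 0x7114e229c4d1), (nat_lit 0x2bb8a751), (nat_lit 0x70a70a759), (nat_lit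 0x70a711), (nat_lit 0xb93ad1), (nat_lit 0x17a74a751), (nat_lit 0x15d4e1), (nat_lit 0x54e94e1), (nat_lit 0x38e44e9), (nat_lit 0x44ea70a719), (nat_lit 0xf0a74a711), (nat_lit 0xee14e94e9), (nat_lit 0x14e38d1), (nat_lit 0x11d4e1), (nat_lit 0xd13899), (nat_lit 0xe64e14e1), (nat_lit 0x227394e1), (nat_lit 0x274a7114e9), (nat_lit 0x7114ea711), (nat_lit 0xea70a74a759), (nat_lit 0x7794e94e9), (nat_lit 0x3bd3899), (nat_lit 0x8ea70a719), (nat_lit 23777), (nat_lit 0x11d4d1), (nat_lit 146073), (nat_lit 0xb4a751), (nat_lit 0x774a74a711), (nat_lit 0x270a74a719), (nat_lit 0x3470a719), (nat_lit 0xe229d4e1), (nat_lit 0x470a74a719), (nat_lit 943329), (nat_lit 0x4ee94e1), (nat_lit 0x2774a711), (nat_lit 0x68e94e9), (nat_lit 0x1d38d1), (nat_lit 80081), (nat_lit 0x68e2711), (nat_lit 0x114e94e14e1), (nat_lit 29929), (nat_lit 0x1ca74a70a711), (nat_lit 0x1694e9), (nat_lit 0xe94e94e14e1), (nat_lit 0xef4e94e14e1), (nat_lit 149329),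 (nat_lit 0x34453899), (nat_lit 0x1a229c4d1), (nat_lit 0xb5c4e94e1), (nat_lit 0xd0a74a711), (nat_lit 53), (nat_lit 0x153bca719), (nat_lit 0x193ad1), (nat_lit 0x44e94e94e1), (nat_lit 0x8e74e1), (nat_lit 0x14a7794e94e1), (nat_lit 0x1e3a51), (nat_lit 0x193899), (nat_lit 0x4e3899), (nat_lit 0xd0a711), (nat_lit 0x729c4d1), (nat_lit 0x2eae94e1), (nat_lit 0x1e14e94e94e1), (nat_lit 0xe9d4e14e1), (nat_lit 0x473a711), (nat_lit 0x8ea74a74a751), (nat_lit 0x774a751), (nat_lit 0x1714e94e94e9), (nat_lit 0x9c8e94e9), (nat_lit 0x570a70a719), (nat_lit 0xa53bca74a711), (nat_lit 0x3c70a74a759), (nat_lit 0x1d3ad1), (nat_lit 0x274a7514e1), (nat_lit 0x13a53a8a711), (nat_lit 0x13bca719), (nat_lit 0x44e94e94e14e1), (nat_lit 0x274a70a74a719), (nat_lit 0x7aea711), (nat_lit 0x1e94e94e9), (nat_lit 35), (nat_lit 0x7114e9), (nat_lit 0x6ae2751), (nat_lit 0xae94e94e94e9), (nat_lit 0x2a29c4d1), (nat_lit 0x5453899), (nat_lit 0x270a719),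 (nat_lit 0x770a74a711), (nat_lit 0xee14e94e1), (nat_lit 0x54e94e94e9), (nat_lit 0x13bca74a711), (nat_lit 2525), (nat_lit 19689), (nat_lit 0x3aea711), (nat_lit 0x4753b8a751), (nat_lit 0x2a74a74a751), (nat_lit 0x5ae2759), (nat_lit 0x9d3899), (nat_lit 0x27114e94e1), (nat_lit 980201), (nat_lit 0xce27714e9), (nat_lit 0xa7214e94e9), (nat_lit 0x99c4e94e1), (nat_lit 0xce274a759), (nat_lit 0xf1d4e94e9), (nat_lit 0x5ae14e94e1), (nat_lit 0x2a70a719), (nat_lit 0xa7794e94e1), (nat_lit 0x429d4d1), (nat_lit 337), (nat_lit 0xd1c651), (nat_lit 0x3c74a751), (nat_lit 0x574a7514e1), (nat_lit 0x19d4e94e1), (nat_lit 0xe274a719), (nat_lit 0x275d4d1), (nat_lit 345), (nat_lit 0xd4a719), (nat_lit 141081), (nat_lit 0x7514e229c4d1), (nat_lit 0xea29c453899), (nat_lit 0x398a711), (nat_lit 149073), (nat_lit 0x10a7514e1), (nat_lit 26457), (nat_lit 26851), (nat_lit 0x2f4e94e14e1), (nat_lit 0x78e94e9), (nat_lit 0xa74a7314e1), (nat_lit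 0x344e14e1), (nat_lit 0x2d68a751), (nat_lit 0x1794e9), (nat_lit 0xea70a7114e1), (nat_lit 2129), (nat_lit 0x753a8a711), (nat_lit 0x474a751), (nat_lit 0x68e44e9), (nat_lit 0xd4a70a719), (nat_lit 0x74a70a711), (nat_lit 0x2270a74a719), (nat_lit 0x8e94e9), (nat_lit 0x5c53a99), (nat_lit 0x68a711), (nat_lit 0x5ad14e9), (nat_lit 5353), (nat_lit 146001), (nat_lit 0x90a70a759), (nat_lit 0x674a719), (nat_lit 0xd0a74a751), (nat_lit 0x19c4e94e1), (nat_lit 0x14a74a7114e9), (nat_lit 0x9d74a759), (nat_lit 0xe274a751), (nat_lit 0x5ed14e1), (nat_lit 0xae2751), (nat_lit 0x4753ad1), (nat_lit 0xbca751), (nat_lit 0x9c453899), (nat_lit 960273), (nat_lit 26705), (nat_lit 0x3570a711), (nat_lit 927577), (nat_lit 0x1388a711), (nat_lit 0x5c9d4d1), (nat_lit 0x853ad1), (nat_lit 0x2a74a70a711), (nat_lit 146129), (nat_lit 0x2668a711), (nat_lit 52), (nat_lit 0x1938d1), (nat_lit 0x7ae94e1), (nat_lit 0xa53bca719), (nat_lit 0x1a270a70a719),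 (nat_lit 0x6aee4e9), (nat_lit 3809), (nat_lit 0x27114e1), (nat_lit 0x274a70a7114e1), (nat_lit 0x54e94e94e14e1), (nat_lit 0x38e2711), (nat_lit 0x2f29c4d1), (nat_lit 0xc53a99), (nat_lit 0x629d4d1), (nat_lit 0x5e53899), (nat_lit 0x6ae14e1), (nat_lit 0x2e4e94e94e9), (nat_lit 0x9d29c4d1), (nat_lit 0xb9c4e9), (nat_lit 0x3a53899), (nat_lit 0x14a74a74a751), (nat_lit 42777), (nat_lit 0xcea711), (nat_lit 0xd53899), (nat_lit 0x18a751), (nat_lit 2333), (nat_lit 0x538538d1), (nat_lit 0x74e94e94e1), (nat_lit 0x4e53899), (nat_lit 0xb5d4e94e14e1), (nat_lit 148705), (nat_lit 0x344e94e1), (nat_lit 3420), (nat_lit 0x27214e94e9), (nat_lit 0x1214e14e1), (nat_lit 0x5ce274a711), (nat_lit 0x122711), (nat_lit 0x44e94e94e9), (nat_lit 0x4ee94e14e1), (nat_lit 0x2274a7514e1), (nat_lit 0x2a70a7114e9), (nat_lit 0xea29d4d1), (nat_lit 0x1d453a99), (nat_lit 0x10a70a7114e1), (nat_lit 0x19d651), (nat_lit 0x270a70a719), (nat_lit 0x5ae94e9),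 (nat_lit 0x153a51), (nat_lit 0xe14e94e94e1), (nat_lit 0xe94e94e1), (nat_lit 0x3a74a74a711), (nat_lit 0x294e94e94e9), (nat_lit 0xd1d4e14e1), (nat_lit 0x19d4e94e9), (nat_lit 0x10a74a7314e1), (nat_lit 361), (nat_lit 3), (nat_lit 0x3853a99), (nat_lit 0x1ca719), (nat_lit 0x8e27314e14e1), (nat_lit 0xaea29c453899), (nat_lit 22097), (nat_lit 0x13853853a99), (nat_lit 2787), (nat_lit 0x153a53a8a711), (nat_lit 0x2a74a7514e1), (nat_lit 0x3a53bca719), (nat_lit 0x29d74a711), (nat_lit 0x4e94e1), (nat_lit 0x1aa7114e9), (nat_lit 0x15c651), (nat_lit 0x12270a711), (nat_lit 0x14e2759), (nat_lit 0xae14e1), (nat_lit 0x429c453899), (nat_lit 0x1d4e94e14e1), (nat_lit 0xa53ad1), (nat_lit 36), (nat_lit 0x7aea759), (nat_lit 0x4753a99), (nat_lit 14563), (nat_lit 0xf53899), (nat_lit 0x78ea70a711), (nat_lit 0x227794e9), (nat_lit 0x9dd4e9), (nat_lit 2713), (nat_lit 21713), (nat_lit 0x57539ca711), (nat_lit 972009), (nat_lit 0x29d4e1),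 (nat_lit 0xaea759), (nat_lit 0x1114ea711), (nat_lit 0x11a29c), (nat_lit 0x3c4e94e94e1), (nat_lit 0xf0a7114e1), (nat_lit 0x53a53ad1), (nat_lit 0x14e274a759), (nat_lit 0xc53899), (nat_lit 0x153851), (nat_lit 0x74a7394e1), (nat_lit 0x153899), (nat_lit 0xc53ad1), (nat_lit 0x88a711), (nat_lit 0x2bbca751), (nat_lit 0x71c651), (nat_lit 209), (nat_lit 247017), (nat_lit 185577), (nat_lit 0x2e4e14e1), (nat_lit 0x229c4d1), (nat_lit 0x453899), (nat_lit 0x173851), (nat_lit 0x753b8a751), (nat_lit 0x153ad1), (nat_lit 0xea74a711), (nat_lit 0x47214e94e9), (nat_lit 0x1aa70a711), (nat_lit 0x2a29d4e1), (nat_lit 0xc8a711), (nat_lit 0x44e94e9), (nat_lit 0x7694e94e1), (nat_lit 0x570a70a74a719), (nat_lit 218897), (nat_lit 0x5ce14e94e1), (nat_lit 0x1ca751), (nat_lit 0x7794e9), (nat_lit 0x7aea74a711), (nat_lit 0x16a751), (nat_lit 0xae74e1), (nat_lit 0x574a70a74a719), (nat_lit 3409), (nat_lit 160993), (nat_lit 70881), (nat_lit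 0x214ea711), (nat_lit 0x11c651), (nat_lit 0x2388a751), (nat_lit 0x1514ea711), (nat_lit 0x1ea7394e1), (nat_lit 25244), (nat_lit 0x4ee2751), (nat_lit 0x8ed4e9), (nat_lit 0xe14e94e1), (nat_lit 0x8e2719), (nat_lit 0x2d74a70a719), (nat_lit 0x571c4e1), (nat_lit 214801), (nat_lit 0xa53899), (nat_lit 0x1398a711), (nat_lit 0x1d38e14e1), (nat_lit 0x1114e94e1), (nat_lit 0x577a711), (nat_lit 0x70a7394e1), (nat_lit 0xa9c453899), (nat_lit 0x2a74a7114e9), (nat_lit 0xce14e94e1), (nat_lit 0x4e7453899), (nat_lit 26849), (nat_lit 0xbd38d1), (nat_lit 0x113b8a751), (nat_lit 0x27314e1), (nat_lit 0x90a74a751), (nat_lit 0x4e14e94e1), (nat_lit 0x76a70a719), (nat_lit 0x1214e94e9), (nat_lit 0x54e229c4d1), (nat_lit 0x113ad1), (nat_lit 0xea74a759), (nat_lit 0x4e274a759), (nat_lit 0xa7694e9), (nat_lit 0xe6453a99), (nat_lit 0x73229d4d1), (nat_lit 0x570a759), (nat_lit 927505), (nat_lit 0x7714e94e1), (nat_lit 0x44e14e94e1), (nat_lit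 0x5aea711), (nat_lit 0x2753899), (nat_lit 161553), (nat_lit 0xeea751), (nat_lit 0xae14e94e9), (nat_lit 0x214e94e1), (nat_lit 0x270a74a759), (nat_lit 0xb8a74a711), (nat_lit 0xa70a7714e9), (nat_lit 0x53853b8a751), (nat_lit 0x574a719), (nat_lit 0xae44e14e1), (nat_lit 0x1385388a711), (nat_lit 0x29c453899), (nat_lit 0x39ca711), (nat_lit 0xee274a759), (nat_lit 0xf1c4e9), (nat_lit 0x18a70a70a719), (nat_lit 201953), (nat_lit 20193), (nat_lit 148689), (nat_lit 18585), (nat_lit 0x7ae94e9), (nat_lit 3741), (nat_lit 0x453a99), (nat_lit 0x229d4d1), (nat_lit 0x3d4e94e9), (nat_lit 0xbd3ad1), (nat_lit 0x14e94e94e1), (nat_lit 23121), (nat_lit 0xed4e94e9), (nat_lit 0x570a74a719), (nat_lit 567121), (nat_lit 0x2274a70a74a719), (nat_lit 0x244e94e94e14e1), (nat_lit 156), (nat_lit 0x3a53853a53ad1), (nat_lit 79953), (nat_lit 0x14a70a711), (nat_lit 965273), (nat_lit 0x75d4d1), (nat_lit 22297), (nat_lit 178385), (nat_lit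 0x14ea70a719), (nat_lit 80025), (nat_lit 0x214e14e1), (nat_lit 0x1ca70a74a759), (nat_lit 18641), (nat_lit 70889), (nat_lit 0xae64e1), (nat_lit 0x294e14e1), (nat_lit 0x27114e9), (nat_lit 0x4722751), (nat_lit 0x7ae14e1), (nat_lit 0x57514e1), (nat_lit 0x6853899), (nat_lit 0x15d4d1), (nat_lit 178841), (nat_lit 0xa7114e94e1), (nat_lit 0x7314e1), (nat_lit 0x3d4e94e94e9), (nat_lit 2769), (nat_lit 41), (nat_lit 0x489d4e1), (nat_lit 0x474a7514e1), (nat_lit 0xae94e94e1), (nat_lit 0x2a70a7114e1), (nat_lit 0x1138d1), (nat_lit 0x1538538d1), (nat_lit 0x78e94e1), (nat_lit 0x4453a99), (nat_lit 0x2229d4d1), (nat_lit 0x214e2759), (nat_lit 0x15a29c), (nat_lit 0x3470a711), (nat_lit 0x574a74a711), (nat_lit 0x88a751), (nat_lit 0x70a74a759), (nat_lit 0x6a538d1), (nat_lit 0x53bca74a711), (nat_lit 0x38e2719), (nat_lit 0x4ee274a759), (nat_lit 0x9dc4e94e1), (nat_lit 0x10a711), (nat_lit 2461), (nat_lit 0x5e538d1), (nat_lit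 3356), (nat_lit 0x38d14e1), (nat_lit 0x2274a711), (nat_lit 0x2e29d4d1), (nat_lit 0x68a753899), (nat_lit 0x5ee94e1), (nat_lit 3411), (nat_lit 0x1aa651), (nat_lit 0x99d4e94e9), (nat_lit 0x11d4e94e14e1), (nat_lit 0x2ba53b8a751), (nat_lit 0x10a7114e1), (nat_lit 0x85388a711), (nat_lit 0x29d4d1), (nat_lit 0x10a7714e9), (nat_lit 980193), (nat_lit 0x1a3851), (nat_lit 0x29d7514e1), (nat_lit 0x1390a70a711), (nat_lit 0x27214e14e1), (nat_lit 0xa53853853a99), (nat_lit 0x294ea711), (nat_lit 0xa53a5388a751), (nat_lit 976105), (nat_lit 0x14a711), (nat_lit 0x294e94e1), (nat_lit 0x8ea74a751), (nat_lit 0xee94e14e1), (nat_lit 0x2d4e14e1), (nat_lit 0x774a74a751), (nat_lit 0x2d70a70a719), (nat_lit 0x14e94e9), (nat_lit 239449), (nat_lit 0x993899), (nat_lit 0x6453a99), (nat_lit 0x3229d4d1), (nat_lit 0xa74a751), (nat_lit 0xf13a99), (nat_lit 0x7694e9), (nat_lit 2793), (nat_lit 0xc9c4d1), (nat_lit 2795), (nat_lit 0x74a70a719),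 (nat_lit 0x6853a99), (nat_lit 0x6ae2711), (nat_lit 0xa7714e9), (nat_lit 0xee94e94e9), (nat_lit 0x1dc4e94e9), (nat_lit 173841), (nat_lit 0x1c4e94e1), (nat_lit 0x574a7114e9), (nat_lit 0xd5c4e1), (nat_lit 0x114e7453899), (nat_lit 0x13b4a70a719), (nat_lit 24289), (nat_lit 0x2d453a99), (nat_lit 0x3c453899), (nat_lit 17), (nat_lit 0x16ba99), (nat_lit 0x1e3899), (nat_lit 0xe270a759), (nat_lit 3869), (nat_lit 0x774a70a711), (nat_lit 2204), (nat_lit 0xd5c4e9), (nat_lit 0x54e14e1), (nat_lit 0x153a99), (nat_lit 0x7114e94e1), (nat_lit 0xce270a70a719), (nat_lit 161561), (nat_lit 0x4538d14e1), (nat_lit 206673), (nat_lit 0x8e94e1), (nat_lit 640785), (nat_lit 0x1ea711), (nat_lit 0xae274a759), (nat_lit 0x44ea711), (nat_lit 0x388a74a711), (nat_lit 0x6ae270a719), (nat_lit 0x13b8d1), (nat_lit 0x2770a74a759), (nat_lit 0x2a70a711), (nat_lit 0x13a53853a53ad1), (nat_lit 0x274a70a74a759), (nat_lit 0x5ae274a759), (nat_lit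 80097), (nat_lit 0x27794e94e1), (nat_lit 0x1e14e94e9), (nat_lit 0xb53a99), (nat_lit 0x77a751), (nat_lit 0xf1d453a99), (nat_lit 0xd1c453899), (nat_lit 0x354e94e1), (nat_lit 14561), (nat_lit 0x57714e9), (nat_lit 27345), (nat_lit 0x2774a751), (nat_lit 0x470a719), (nat_lit 0x8d14e1), (nat_lit 0x44e274a711), (nat_lit 0x239ca711), (nat_lit 0x689d4e1), (nat_lit 0x2274a719), (nat_lit 0x8e64e1), (nat_lit 0x1d3899), (nat_lit 932049), (nat_lit 0xa9d4e1), (nat_lit 0x2a7394e1), (nat_lit 0x47394e1), (nat_lit 0x214e94e94e1), (nat_lit 0x4ebad1), (nat_lit 211097), (nat_lit 0x19c4d1), (nat_lit 0x14e3899), (nat_lit 0x9dd453a99), (nat_lit 0xd5c453899), (nat_lit 0x2270a74a759), (nat_lit 0xe27394e1), (nat_lit 0xee453899), (nat_lit 0x1dd453a99), (nat_lit 0x1a29c453899), (nat_lit 0x2270a7114e9), (nat_lit 218961), (nat_lit 0x3b9d4e14e1), (nat_lit 139932), (nat_lit 0x5ae270a719), (nat_lit 0x1ca759), (nat_lit 0x3274a711),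 (nat_lit 0xd0a70a719), (nat_lit 25825), (nat_lit 0xae2719), (nat_lit 116505), (nat_lit 0x3a8a711), (nat_lit 0xae64e14e1), (nat_lit 0x674a70a711), (nat_lit 0x1ea74a70a711), (nat_lit 0xaea719), (nat_lit 0x4453899), (nat_lit 0x2229c4d1), (nat_lit 0x853a53899), (nat_lit 0x7514e1), (nat_lit 116497), (nat_lit 0x753853a53ad1), (nat_lit 0x68e94e14e1), (nat_lit 0x2270a759), (nat_lit 0x8e94e14e1), (nat_lit 0x13a5388a751), (nat_lit 0xcea7114e9), (nat_lit 0xe9d4d1), (nat_lit 148713), (nat_lit 0x70a74a719), (nat_lit 0xad14e1), (nat_lit 211025), (nat_lit 0xae274a719), (nat_lit 0x64e94e94e1), (nat_lit 0xaea7514e1), (nat_lit 0xce94e94e1), (nat_lit 0xeea74a759), (nat_lit 0x1a14e94e1), (nat_lit 0x47794e94e1), (nat_lit 2321), (nat_lit 0x18a74a719), (nat_lit 0x5ed14e9), (nat_lit 0x57394e1), (nat_lit 0xee94e94e1), (nat_lit 0x732711), (nat_lit 27217), (nat_lit 0x17a711), (nat_lit 10009), (nat_lit 0x7344e94e1), (nat_lit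 0x78d14e1), (nat_lit 0x3bca74a711), (nat_lit 0x29de53899), (nat_lit 23193), (nat_lit 185553), (nat_lit 0xb5d4e9), (nat_lit 22289), (nat_lit 0x53853a99), (nat_lit 0xe274a759), (nat_lit 0xa538538d1), (nat_lit 0x354e94e9), (nat_lit 2785), (nat_lit 0x44e2759), (nat_lit 0xa53a8a711), (nat_lit 0x4ee14e94e1), (nat_lit 0x91a29c), (nat_lit 0x2270a711), (nat_lit 42841), (nat_lit 0x474a7714e9), (nat_lit 0x8e44e1), (nat_lit 0x1794e94e14e1), (nat_lit 145489), (nat_lit 0x2b853a99), (nat_lit 342737), (nat_lit 0x2a74a759), (nat_lit 0x74a7714e9), (nat_lit 0x14e94e1), (nat_lit 0x227314e1), (nat_lit 0x18a70a74a759), (nat_lit 0x1de53899), (nat_lit 0x53a53bca719), (nat_lit 0xe94e94e94e9), (nat_lit 0xa7794e9), (nat_lit 0x390a70a711), (nat_lit 0x14ebad1), (nat_lit 0x8e2711), (nat_lit 0x574a74a759), (nat_lit 0x357714e9), (nat_lit 0x4ea711), (nat_lit 0x3b8a751), (nat_lit 0x2b90a70a711), (nat_lit 0xe27794e9), (nat_lit 30953),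 (nat_lit 0x53bca751), (nat_lit 0x8e94e94e94e9), (nat_lit 0xaee4e9), (nat_lit 0x227114e9), (nat_lit 0x3853853a99), (nat_lit 0x7214e14e1), (nat_lit 0x227314e14e1), (nat_lit 0x2229d453a99), (nat_lit 10065), (nat_lit 0xf4a74a70a711), (nat_lit 0x13b8a751), (nat_lit 0x568a751), (nat_lit 0x68a71c4d1), (nat_lit 0xd14e3899), (nat_lit 0x4ed14e9), (nat_lit 0x15388a751), (nat_lit 0x2d4e94e1), (nat_lit 0xcea70a711), (nat_lit 0x314e94e1), (nat_lit 935145), (nat_lit 0x2e4e94e1), (nat_lit 0x8ef4e1), (nat_lit 0xa8a74a719), (nat_lit 0x1914e9), (nat_lit 0x19d453a99), (nat_lit 0xed453899), (nat_lit 0x27453899), (nat_lit 0x13a29c4d1), (nat_lit 0x1c8e94e9), (nat_lit 0x3d4e94e1), (nat_lit 0x14a74a70a711), (nat_lit 0x14e7453899), (nat_lit 0x3b8a74a711), (nat_lit 0x193a51), (nat_lit 0xeea74a751), (nat_lit 0x227114e1), (nat_lit 0xd13a99), (nat_lit 0x753a53ad1), (nat_lit 185937), (nat_lit 211537), (nat_lit 0x99a29c), (nat_lit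 0x17b851), (nat_lit 0x8e4453a99), (nat_lit 0xf5c453899), (nat_lit 0x270a7794e9), (nat_lit 0x13853bca751), (nat_lit 0x2ba539ca711), (nat_lit 0x3ae94e94e1), (nat_lit 0x13a538d1), (nat_lit 0x3b4a70a719), (nat_lit 0x4e38d1), (nat_lit 0x114ea719), (nat_lit 0x1dd4e94e9), (nat_lit 0x138e14e1), (nat_lit 0x8a7538d1), (nat_lit 0x1a2751), (nat_lit 0x1aa74a719), (nat_lit 2257), (nat_lit 0x572270a711), (nat_lit 0x4cea711), (nat_lit 0x11388a711), (nat_lit 0x3c70a711), (nat_lit 0xed14e1), (nat_lit 0x53b4a751), (nat_lit 0x78e14e1), (nat_lit 0x48ed4e9), (nat_lit 0x453a53899), (nat_lit 0x23b4a751), (nat_lit 0x99d4d1), (nat_lit 0x133a99), (nat_lit 0x574a751), (nat_lit 0x53853853a99), (nat_lit 0x1514e229c4d1), (nat_lit 0x2a29c453899), (nat_lit 0x14eba99), (nat_lit 0x1314e94e1), (nat_lit 0x14e14e1), (nat_lit 0x1aa711), (nat_lit 0x14a74a759), (nat_lit 0x74e94e14e1), (nat_lit 0x74a70a74a759), (nat_lit 0xe27514e1), (nat_lit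 0x54e94e9), (nat_lit 0x14a74a719), (nat_lit 0xf4a711), (nat_lit 0x29c711), (nat_lit 0x113899), (nat_lit 0xa74a74a711), (nat_lit 0x574a70a719), (nat_lit 218337), (nat_lit 0xa70a711), (nat_lit 0x4753a8a711), (nat_lit 0x74a751), (nat_lit 0x6ae14e94e1), (nat_lit 0x89d4d1), (nat_lit 0x5713bca751), (nat_lit 640209), (nat_lit 342241), (nat_lit 0x10a7394e1), (nat_lit 0xf5d4e94e1), (nat_lit 0xea7714e9), (nat_lit 0xd5a29c), (nat_lit 0x13a711), (nat_lit 0x3574a759), (nat_lit 0xa8a711), (nat_lit 0x70a7114e9), (nat_lit 27361), (nat_lit 0x570a7114e1), (nat_lit 0x14e94e14e1), (nat_lit 0x1514e1), (nat_lit 0x3274a719), (nat_lit 0x14a74a751), (nat_lit 0xd5c4e94e1), (nat_lit 0x3bca751), (nat_lit 0x4e94e94e14e1), (nat_lit 0x274a74a70a711), (nat_lit 0x3c453a99), (nat_lit 0x35453899), (nat_lit 0x1e2751), (nat_lit 567057), (nat_lit 0x354e14e1), (nat_lit 0x23bca719), (nat_lit 2275), (nat_lit 120041), (nat_lit 0xa74a70a711),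 (nat_lit 0xed14e9), (nat_lit 0xaea70a719), (nat_lit 425), (nat_lit 0x574a711), (nat_lit 0x14e94e94e9), (nat_lit 15083), (nat_lit 0x1390a70a70a719), (nat_lit 0x2274a70a74a759), (nat_lit 0x73a711), (nat_lit 107164), (nat_lit 0x38539ca711), (nat_lit 0x3853ad1), (nat_lit 0x9dc4e9), (nat_lit 80537), (nat_lit 0x75d651), (nat_lit 0xa70a7114e1), (nat_lit 2283), (nat_lit 0x2274a70a719), (nat_lit 243865), (nat_lit 0x1dc4d1), (nat_lit 0x14ea719), (nat_lit 0x1e14e14e1), (nat_lit 0xea70a711), (nat_lit 0xae94e1), (nat_lit 0x3a53a8a711), (nat_lit 273), (nat_lit 0x153a5388a751), (nat_lit 0xaea70a74a759), (nat_lit 43), (nat_lit 0x4ce14e1), (nat_lit 0x1d14e1), (nat_lit 0x64e14e1), (nat_lit 0x2b853bca751), (nat_lit 0x4eea711), (nat_lit 0x2d70a74a759), (nat_lit 0x570a711), (nat_lit 0x477a74a711), (nat_lit 0x91d4e9), (nat_lit 0x2274a7314e1), (nat_lit 0x1dc4e9), (nat_lit 0x24453a99), (nat_lit 0x2f453899), (nat_lit 0x1794e94e1),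 (nat_lit 0x1344e94e1), (nat_lit 0x77a74a751), (nat_lit 0xe53a99), (nat_lit 0x3570a70a719), (nat_lit 0x853a53ad1), (nat_lit 0x853899), (nat_lit 0x7314e14e1), (nat_lit 17633), (nat_lit 0x8ea70a711), (nat_lit 0x214e229c4d1), (nat_lit 0x2d70a711), (nat_lit 0x9dd4e1), (nat_lit 0x53ae94e1), (nat_lit 0x10a74a759), (nat_lit 0xbca74a711), (nat_lit 0x3ae94e1), (nat_lit 0x3a70a74a759), (nat_lit 0x390a70a70a719), (nat_lit 0x70a7794e9), (nat_lit 0x153853853a99), (nat_lit 0x5e9c4d1), (nat_lit 0x8a74a719), (nat_lit 0x474a759), (nat_lit 0x113bca751), (nat_lit 0x3474a719), (nat_lit 0xaea7114e9), (nat_lit 0xbd3899), (nat_lit 0x753a5388a751), (nat_lit 0x913a99), (nat_lit 0xe14e94e9), (nat_lit 0x453a538d1), (nat_lit 0x53853a53ad1), (nat_lit 214241), (nat_lit 0x57794e9), (nat_lit 3345), (nat_lit 0x18a719), (nat_lit 0x629c4d1), (nat_lit 0x4e274a711), (nat_lit 120665), (nat_lit 0x570a74a711), (nat_lit 0x73a29d4d1), (nat_lit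 0xe7453a99), (nat_lit 0x1114e1), (nat_lit 0x78d14e9), (nat_lit 0x15d4e94e14e1), (nat_lit 417), (nat_lit 965329), (nat_lit 0x1794e94e9), (nat_lit 0x5ce94e14e1), (nat_lit 0x274a759), (nat_lit 0x1e27114e1), (nat_lit 0x729d4e14e1), (nat_lit 21148), (nat_lit 0xe27214e14e1), (nat_lit 0x71390a70a711), (nat_lit 0x5753899), (nat_lit 0x71c4e1), (nat_lit 0xb93a99), (nat_lit 0xaea74a759), (nat_lit 0x529d453a99), (nat_lit 120033), (nat_lit 0xbd3a99), (nat_lit 0x39dd4e1), (nat_lit 0x2ba53ad1), (nat_lit 2905), (nat_lit 0x1a274a751), (nat_lit 0x78e94e14e1), (nat_lit 0x114e274a759), (nat_lit 0x18a70a7714e9), (nat_lit 0x4e94e94e9), (nat_lit 0x14a7114e94e1), (nat_lit 0xae270a719), (nat_lit 30489), (nat_lit 0x3a53ad1), (nat_lit 0x6a9c4d1), (nat_lit 0x19d4e1), (nat_lit 0x1a274a711), (nat_lit 0x10a74a7114e9), (nat_lit 2717), (nat_lit 0x1714e14e1), (nat_lit 0x74a759), (nat_lit 0x13853a99), (nat_lit 0x78ea751), (nat_lit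 342225), (nat_lit 0x670a711), (nat_lit 0xf1d4e1), (nat_lit 0x1a94e94e9), (nat_lit 0x5a53a99), (nat_lit 0x10a7314e1), (nat_lit 0xd5d4e1), (nat_lit 0x123a99), (nat_lit 0x17b899), (nat_lit 23265), (nat_lit 0x8e274a719), (nat_lit 0x1ab851), (nat_lit 0x13a53899), (nat_lit 0x227514e1), (nat_lit 0x2d74a751), (nat_lit 0x1d29c4d1), (nat_lit 0xa7114e9), (nat_lit 0x77a74a711), (nat_lit 0x3a53a99), (nat_lit 0x6aea711), (nat_lit 0xb5c4e1), (nat_lit 0xce14e1), (nat_lit 0xe27314e1), (nat_lit 0xf1d4e9), (nat_lit 161617), (nat_lit 0xf5c4e1)]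

theorem cl_chk : incr (fun s => cjS mul (fun j => nth 0 gc (nth 0 [1, 3, 4, 5, 6, 7, 8, 9] j))
    (fun j => nth 0 gc (nth 0 [1, 3, 4, 5, 7, 6, 9, 8] j)) 18 s (nth 0 gc 4)) (fun y => y) CL 0 = true := by
  decide +kernel

theorem k_inv {x y : ℕ} (h : [x, y] ∈ RK ∨ [y, x] ∈ RK) : ThK.k y = (ThK.k x)⁻¹ := by
  rcases h with h | h <;> have := ThK.satK _ h <;> rw [ev_two] at this
  exacts [eq_inv_of_mul_eq_one_right this, eq_inv_of_mul_eq_one_left this]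

theorem k_mem_L {x : ℕ} (h : [x] ∈ ThO.SL) : ThK.k x ∈ ThK.L := by
  rw [← ev_single ThK.k x]
  exact mem_wgen _ _ h

theorem card_CL : Nat.card (centralizer ({ThK.k 4} : Set ThK.K) ⊓ ThK.L :) ≤ 384 := by
  obtain ⟨L, e, h1, h2⟩ := incr_spec (P := fun y => ∃ l ∈ ThK.L, S.Den y (l * ThK.k 4 * l⁻¹))
    (fun s k h => cjS_spec (fun j hj x ⟨l, hl, hx⟩ => by
      have : ∀ j < 8, [nth 0 [1, 3, 4, 5, 6, 7, 8, 9] j] ∈ ThO.SL ∧
          (1 ≤ nth 0 [1, 3, 4, 5, 6, 7, 8, 9] j ∧ nth 0 [1, 3, 4, 5, 6, 7, 8, 9] j ≤ 9) ∧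
          (1 ≤ nth 0 [1, 3, 4, 5, 7, 6, 9, 8] j ∧ nth 0 [1, 3, 4, 5, 7, 6, 9, 8] j ≤ 9) ∧
          ([nth 0 [1, 3, 4, 5, 6, 7, 8, 9] j, nth 0 [1, 3, 4, 5, 7, 6, 9, 8] j] ∈ RK ∨
            [nth 0 [1, 3, 4, 5, 7, 6, 9, 8] j, nth 0 [1, 3, 4, 5, 6, 7, 8, 9] j] ∈ RK) := by
        decide +kernel
      obtain ⟨a1, a2, a3, a4⟩ := this j hj
      refine ⟨_, mul_mem (k_mem_L a1) hl, ?_⟩
      have := den_mul (den_gc a2.1 a2.2) (den_mul hx (den_gc a3.1 a3.2))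
      rwa [k_inv a4, ← mul_assoc, ← mul_assoc, ← mul_assoc, mul_assoc _ l⁻¹, ← mul_inv_rev] at this)
      _ s _ k ⟨1, one_mem _, by simpa using den_gc (x := 4) (by decide) (by decide)⟩ h) cl_chk
  choose a ha using fun i => (h1 _ (List.get_mem L i)).1
  have := ThO.card_ge_conj (H := ThK.L) (B := centralizer {ThK.k 4} ⊓ ThK.L) inf_le_right (ThK.k 4)
    (fun b hb => mem_centralizer_singleton_iff.1 hb.1) a (fun i => (ha i).1)
    (fun i j e => inj_of_pairwise h2 (den_inj (ha i).2 (e ▸ (ha j).2)))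
  rw [ThK.card_L, e, show CL.length = 2016 by decide +kernel] at this
  omega

theorem fix819 : {ω : ThK.K ⧸ ThK.L | ThK.k 4 • ω = ω}.ncard ≤ 27 := by
  obtain ⟨c, hc⟩ := ThE.K819.checked.tab (g := ThK.k) (ThK.satK.mono (by decide +kernel))
    (H := ThK.L) (mem_wgen _) (row := ThE.K819.row) (nc := 9) (n := 819) (EB := 19) (mE := 524287)
    (mW := 4095) rfl rfl rfl rfl rfl rfl
  have := tab_fix_le hc ThK.top ThK.index_L (l := [4]) (by decide)
  rw [ev_single] at this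
  exact this.trans (by decide +kernel)

theorem card_CK : Nat.card (centralizer ({ThK.k 4} : Set ThK.K)) ≤ 10368 := by
  have := card_cent_le (ThK.k 4) (ω := ((1 : ThK.K) : ThK.K ⧸ ThK.L))
    (smul_one_quot.2 (k_mem_L (by decide)))
  rw [stabilizer_quotient] at this
  exact this.trans (Nat.mul_le_mul fix819 card_CL)

/-- Bounds for the numbers of fixed points of `d` in the orbits. -/
def nF : Fin 11 → ℕ := ![1, 10368, 204, 1152, 597, 6912, 1920, 658, 1860, 288, 146]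

theorem fix_le (i : Fin 11) : {ω : Ω | ω ∈ {ω : Ω | gm 4 • ω = ω} ∧ ThS.o ω = i}.ncard ≤ nF i := by
  have e : {ω : Ω | ω ∈ {ω : Ω | gm 4 • ω = ω} ∧ ThS.o ω = i} =
      {ω | ω ∈ orbit ThK.K (q i) ∧ ThK.k 4 • ω = ω} := by
    ext ω
    simp only [Set.mem_setOf_eq, ThS.o_iff, smul_def, φ_k (x := 4) (by decide), and_comm]
  rw [e]
  by_cases hi : i = 0
  · subst hi
    exact (Set.ncard_le_ncard (fun _ h => h.1) (Set.toFinite _)).trans
      ((ThS.orbit_card 0).le.trans (by decide))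
  have h4 := ThK.satK [4, 4] (by decide)
  rw [ev_two] at h4
  have h := (fix_orbit_le (ThK.k 4) (q i) (P := fun y => y * y = 1) (fun k => by
    rw [mul_assoc, mul_assoc, mul_assoc, mul_inv_cancel_left, ← mul_assoc (ThK.k 4), h4, one_mul,
      inv_mul_cancel])).trans (Nat.mul_le_mul (inv_le i) card_CK)
  rw [ThS.stab_card] at h
  exact Nat.le_of_lt_succ (lt_of_mul_lt_mul_right (h.trans_lt
    ((by decide : ∀ i, i ≠ 0 → nI i * 10368 < (nF i + 1) * sz i) i hi)) (Nat.zero_le _))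

theorem card_Cd : Nat.card (centralizer ({gm 4} : Set Cfsg.Spor.Th)) ≤ 24106 * 10368 := by
  refine (card_cent_le (gm 4) (ω := ω₀) (smul_ω₀.2 ⟨_, φ_k (by decide)⟩)).trans
    (Nat.mul_le_mul ?_ (le_trans ?_ card_CK))
  · rw [ThS.card_eq_sum_fiber ThS.o]
    exact (Finset.sum_le_sum fun i _ => fix_le i).trans (by decide)
  · rw [← Subgroup.card_map_of_injective (K := centralizer {ThK.k 4}) φ_inj]
    refine Subgroup.card_le_of_le fun y hy => ?_
    obtain ⟨z, rfl⟩ := smul_ω₀.1 hy.2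
    refine ⟨z, mem_centralizer_singleton_iff.2 (φ_inj ?_), rfl⟩
    rw [map_mul, map_mul, φ_k (by decide)]
    exact mem_centralizer_singleton_iff.1 hy.1

/-- An element conjugating `a` to `d`. -/
def gW : List ℕ := [3, 2, 1, 4, 5, 4, 3, 2, 4, 5, 10, 4, 2, 3, 1, 2]

theorem conj_ad : ev gm gW * gm 1 = gm 4 * ev gm gW := by
  have := ThO.eq_of_ev (l := gW ++ [1]) (l' := 4 :: gW) (by decide) (by decide)
    (F3.eq_of_eqB hn env (by decide +kernel))
  rwa [ev_append, ev_single, ev_cons] at this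

theorem card_conj {G : Type*} [Group G] {g x y : G} (h : g * x = y * g) :
    Nat.card (centralizer ({x} : Set G)) = Nat.card (centralizer ({y} : Set G)) := by
  rw [← Subgroup.card_map_of_injective (f := (MulAut.conj g).toMonoidHom) (MulAut.conj g).injective]
  congr 2
  obtain rfl : y = g * x * g⁻¹ := eq_mul_inv_of_mul_eq h.symm
  ext z
  rw [mem_map_equiv, mem_centralizer_singleton_iff, mem_centralizer_singleton_iff,
    MulAut.conj_symm_apply]
  constructor <;> intro e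
  · calc _ = g * (g⁻¹ * z * g * x) * g⁻¹ := by group
      _ = _ := by rw [e]; group
  · calc _ = g⁻¹ * (z * (g * x * g⁻¹)) * g := by group
      _ = _ := by rw [e]; group

theorem comm_a {G : Type*} [Group G] {g : ℕ → G} (h : Sat g Rm) : wgen g ThO.SC ≤ centralizer {g 1} := by
  have i : ∀ x, 1 ≤ x → x ≤ 11 → g (ivL x) = (g x)⁻¹ := fun x h1 h2 => by
    rw [← ev_single g x, ← ev_inv h (by simp [lettersIn, h1, h2])]
    exact (ev_single g _).symm
  have c : ∀ x, 1 ≤ x → x ≤ 11 → [ivL x, 1, x, 1] ∈ Rm → g x ∈ centralizer {g 1} := fun x h1 h2 h3 => by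
    have := h _ h3
    rw [ev_cons, ev_cons, ev_two, i x h1 h2, ← mul_assoc, ← mul_assoc, mul_eq_one_iff_eq_inv,
      ← i 1 (by decide) (by decide), mul_assoc, inv_mul_eq_iff_eq_mul] at this
    exact mem_centralizer_singleton_iff.2 this.symm
  have v : ∀ x, 1 ≤ x → x ≤ 11 → g x ∈ centralizer {g 1} → g (ivL x) ∈ centralizer {g 1} :=
    fun x h1 h2 h3 => i x h1 h2 ▸ inv_mem h3
  have e1 := h [1, 4, 3, 4, 3, 4, 3, 4, 3] (by decide)
  have e3 : g 3 * g 3 = 1 := (ev_two g 3 3).symm.trans (h _ (by decide))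
  have e4 : g 4 * g 4 = 1 := (ev_two g 4 4).symm.trans (h _ (by decide))
  have e5 : g 5 * g 5 = 1 := (ev_two g 5 5).symm.trans (h _ (by decide))
  have e0 : g 1 * g 1 = 1 := (ev_two g 1 1).symm.trans (h _ (by decide))
  have e6 := h [1, 5, 1, 5] (by decide)
  simp only [ev_cons, ev_nil, mul_one] at e1 e6
  have f1 := eq_inv_of_mul_eq_one_left e1
  have f2 : g 1 = g 4 * (g 3 * (g 4 * (g 3 * (g 4 * (g 3 * (g 4 * g 3)))))) := by
    rw [← mul_left_cancel_iff (a := g 1), e0, e1]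
  have i3 := inv_eq_of_mul_eq_one_left e3
  have i4 := inv_eq_of_mul_eq_one_left e4
  simp only [mul_inv_rev, i3, i4] at f1
  refine wgen_le.2 fun s hs => ?_
  simp only [ThO.SC, List.mem_cons, List.not_mem_nil, or_false] at hs
  rcases hs with rfl | rfl | rfl | rfl | rfl | rfl | rfl | rfl | rfl | rfl <;> rw [ev_single]
  · exact mem_centralizer_singleton_iff.2 rfl
  · refine mem_centralizer_singleton_iff.2 ?_
    conv_lhs => rw [f2]
    conv_rhs => rw [f1]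
    simp only [mul_assoc]
  · refine mem_centralizer_singleton_iff.2 ?_
    conv_lhs => rw [f1]
    conv_rhs => rw [f2]
    simp only [mul_assoc]
  · refine mem_centralizer_singleton_iff.2 ?_
    rw [← mul_left_cancel_iff (a := g 1), ← mul_right_cancel_iff (a := g 5), ← mul_assoc (g 1) (g 1),
      e0, one_mul, e5, ← e6]
    simp only [mul_assoc]
  · exact c 6 (by decide) (by decide) (by decide)
  · exact v 6 (by decide) (by decide) (c 6 (by decide) (by decide) (by decide))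
  · exact c 8 (by decide) (by decide) (by decide)
  · exact v 8 (by decide) (by decide) (c 8 (by decide) (by decide) (by decide))
  · exact c 10 (by decide) (by decide) (by decide)
  · exact v 10 (by decide) (by decide) (c 10 (by decide) (by decide) (by decide))

theorem cent_a : centralizer {gm 1} = ThO.C := by
  have h1 : ThO.C ≤ centralizer {gm 1} := comm_a sat
  refine (Subgroup.eq_of_le_of_card_ge h1 ?_).symm
  obtain ⟨m, hm⟩ := Subgroup.card_dvd_of_le h1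
  have h2 := Subgroup.card_subgroup_dvd_card (centralizer ({gm 1} : Set Cfsg.Spor.Th))
  have h3 := card_Cd
  rw [← card_conj conj_ad] at h3
  rw [ThO.card] at h2
  rw [hm, ThO.card_C] at h2 h3 ⊢
  obtain rfl | rfl | rfl : m = 0 ∨ m = 1 ∨ m = 2 := by omega
  · norm_num
  · norm_num
  · norm_num at h2

end Cfsg.Agent.H90.ThC
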