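import Mathlib
import Cfsg.Prelude.Def_Spor_Th
import Cfsg.Agent.H44.Pres
import Cfsg.Agent.H44.Perm

/-!
# The presentation of the Thompson group as lists of letters

Letters: `a b c d e s s⁻¹ t t⁻¹ u u⁻¹` are `1, …, 11`.
-/

set_option autoImplicit false
set_option maxRecDepth 1000000
set_option linter.all false
set_option Elab.async false

namespace Cfsg.Agent.H90.ThP

open Cfsg.Agent.H44

/-- Letters for the generators. -/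
def D : PD Cfsg.Spor.Th.Gen where
  nc := 11
  gens := [.a, .b, .c, .d, .e, .s, .t, .u]
  enc := fun x => match x with | .a => 1 | .b => 2 | .c => 3 | .d => 4 | .e => 5 | .s => 6 | .t => 8 | .u => 10
  dec := fun x => match x with | 1 => .a | 2 => .b | 3 => .c | 4 => .d | 5 => .e | 6 => .s | 7 => .s | 8 => .t | 9 => .t | 10 => .u | _ => .u
  iv := fun x => [0, 1, 2, 3, 4, 5, 7, 6, 9, 8, 11, 10].getD x 0
  es := [(.pow (.l .a) 2),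
    (.pow (.l .b) 2),
    (.pow (.l .c) 2),
    (.pow (.l .d) 2),
    (.pow (.l .e) 2),
    (.pow (.mul (.l .a) (.l .b)) 3),
    (.pow (.mul (.l .a) (.l .e)) 2),
    (.pow (.mul (.l .b) (.l .c)) 3),
    (.pow (.mul (.l .b) (.l .d)) 2),
    (.pow (.mul (.l .b) (.l .e)) 2),
    (.mul (.l .a) (.inv (.pow (.mul (.l .c) (.l .d)) 4))),
    (.pow (.mul (.l .c) (.l .e)) 2),
    (.pow (.mul (.l .d) (.l .e)) 3),
    (.pow (.mul (.mul (.mul (.l .b) (.l .c)) (.l .d)) (.l .e)) 8),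
    (.pow (.l .s) 7),
    (.mul (.mul (.mul (.inv (.l .s)) (.inv (.l .a))) (.l .s)) (.l .a)),
    (.mul (.mul (.mul (.inv (.l .s)) (.inv (.l .b))) (.l .s)) (.l .b)),
    (.mul (.mul (.mul (.inv (.l .s)) (.inv (.l .c))) (.l .s)) (.l .c)),
    (.pow (.mul (.l .s) (.l .d)) 2),
    (.mul (.mul (.mul (.mul (.inv (.l .e)) (.inv (.l .s))) (.l .e)) (.l .s)) (.inv (.mul (.mul (.inv (.pow (.l .s) 3)) (.l .e)) (.pow (.l .s) 3)))),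
    (.pow (.l .t) 3),
    (.mul (.mul (.mul (.inv (.l .t)) (.inv (.l .a))) (.l .t)) (.l .a)),
    (.mul (.mul (.mul (.inv (.l .t)) (.inv (.l .b))) (.l .t)) (.l .b)),
    (.mul (.mul (.mul (.inv (.l .t)) (.inv (.l .c))) (.l .t)) (.l .c)),
    (.mul (.mul (.mul (.inv (.l .t)) (.inv (.l .d))) (.l .t)) (.l .d)),
    (.mul (.mul (.mul (.inv (.l .t)) (.inv (.l .e))) (.l .t)) (.l .e)),
    (.mul (.mul (.mul (.inv (.l .t)) (.l .s)) (.l .t)) (.inv (.pow (.l .s) 2))),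
    (.mul (.pow (.l .u) 2) (.inv (.mul (.l .a) (.l .c)))),
    (.mul (.mul (.mul (.inv (.l .u)) (.inv (.l .a))) (.l .u)) (.l .a)),
    (.mul (.mul (.mul (.inv (.l .u)) (.inv (.l .c))) (.l .u)) (.l .c)),
    (.mul (.mul (.mul (.inv (.l .u)) (.inv (.l .e))) (.l .u)) (.l .e)),
    (.pow (.mul (.mul (.l .d) (.l .e)) (.mul (.mul (.inv (.l .u)) (.l .d)) (.l .u))) 2),
    (.mul (.mul (.mul (.mul (.inv (.l .u)) (.inv (.mul (.mul (.inv (.l .b)) (.mul (.l .a) (.l .c))) (.l .b)))) (.l .u)) (.mul (.mul (.inv (.l .b)) (.mul (.l .a) (.l .c))) (.l .b))) (.inv (.l .e))),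
    (.mul (.mul (.mul (.mul (.inv (.mul (.mul (.inv (.l .d)) (.l .u)) (.l .d))) (.inv (.mul (.mul (.inv (.l .b)) (.mul (.l .a) (.l .c))) (.l .b)))) (.mul (.mul (.inv (.l .d)) (.l .u)) (.l .d))) (.mul (.mul (.inv (.l .b)) (.mul (.l .a) (.l .c))) (.l .b))) (.inv (.mul (.mul (.mul (.mul (.mul (.l .u) (.l .e)) (.mul (.mul (.inv (.l .b)) (.mul (.l .a) (.l .c))) (.l .b))) (.mul (.mul (.inv (.l .d)) (.l .u)) (.l .d))) (.l .e)) (.l .c)))),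
    (.mul (.mul (.mul (.inv (.l .u)) (.l .t)) (.l .u)) (.inv (.inv (.l .t)))),
    (.mul (.mul (.mul (.inv (.l .e)) (.inv (.mul (.mul (.inv (.pow (.l .s) 2)) (.l .u)) (.pow (.l .s) 2)))) (.l .e)) (.mul (.mul (.inv (.pow (.l .s) 2)) (.l .u)) (.pow (.l .s) 2))),
    (.mul (.mul (.l .a) (.l .c)) (.inv (.pow (.mul (.l .u) (.l .s)) 3))),
    (.mul (.mul (.l .a) (.l .c)) (.inv (.pow (.mul (.mul (.mul (.inv (.l .u)) (.inv (.l .s))) (.l .u)) (.l .s)) 4))),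
    (.mul (.pow (.mul (.l .d) (.mul (.mul (.inv (.pow (.l .s) 2)) (.l .u)) (.pow (.l .s) 2))) 4) (.inv (.mul (.mul (.mul (.mul (.l .a) (.l .c)) (.mul (.mul (.inv (.l .d)) (.l .c)) (.l .d))) (.mul (.mul (.inv (.mul (.mul (.l .d) (.l .e)) (.inv (.l .s)))) (.l .c)) (.mul (.mul (.l .d) (.l .e)) (.inv (.l .s))))) (.mul (.mul (.inv (.mul (.mul (.l .d) (.l .e)) (.pow (.l .s) 2))) (.l .c)) (.mul (.mul (.l .d) (.l .e)) (.pow (.l .s) 2))))))]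

theorem ok : D.Ok Cfsg.Spor.Th.edges Cfsg.Spor.Th.extra :=
  ⟨fun a => by cases a <;> simp [D], by decide +kernel, by decide +kernel, by decide +kernel, rfl⟩

/-- All relators. -/
def Rm : List (List ℕ) := [
  [1, 1],
  [2, 2],
  [3, 3],
  [4, 4],
  [5, 5],
  [6, 7],
  [8, 9],
  [10, 11],
  [],
  [],
  [],
  [],
  [],
  [1, 2, 1, 2, 1, 2],
  [1, 5, 1, 5],
  [2, 3, 2, 3, 2, 3],
  [2, 4, 2, 4],
  [2, 5, 2, 5],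
  [1, 4, 3, 4, 3, 4, 3, 4, 3],
  [3, 5, 3, 5],
  [4, 5, 4, 5, 4, 5],
  [2, 3, 4, 5, 2, 3, 4, 5, 2, 3, 4, 5, 2, 3, 4, 5, 2, 3, 4, 5, 2, 3, 4, 5, 2, 3, 4, 5, 2, 3, 4, 5],
  [6, 6, 6, 6, 6, 6, 6],
  [7, 1, 6, 1],
  [7, 2, 6, 2],
  [7, 3, 6, 3],
  [6, 4, 6, 4],
  [5, 7, 5, 7, 7, 5, 6, 6, 6],
  [8, 8, 8],
  [9, 1, 8, 1],
  [9, 2, 8, 2],
  [9, 3, 8, 3],
  [9, 4, 8, 4],
  [9, 5, 8, 5],
  [9, 6, 8, 7, 7],
  [10, 10, 3, 1],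
  [11, 1, 10, 1],
  [11, 3, 10, 3],
  [11, 5, 10, 5],
  [4, 5, 11, 4, 10, 4, 5, 11, 4, 10],
  [11, 2, 3, 1, 2, 10, 2, 1, 3, 2, 5],
  [4, 11, 4, 2, 3, 1, 2, 4, 10, 4, 2, 1, 3, 2, 3, 5, 4, 11, 4, 2, 3, 1, 2, 5, 11],
  [11, 8, 10, 8],
  [5, 7, 7, 11, 6, 6, 5, 7, 7, 10, 6, 6],
  [1, 3, 7, 11, 7, 11, 7, 11],
  [1, 3, 7, 11, 6, 10, 7, 11, 6, 10, 7, 11, 6, 10, 7, 11, 6, 10],
  [4, 7, 7, 10, 6, 6, 4, 7, 7, 10, 6, 6, 4, 7, 7, 10, 6, 6, 4, 7, 7, 10, 5, 4, 3, 4, 5, 6, 6, 6, 5, 4, 3, 4, 5, 7, 4, 3, 4, 3, 1]]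

theorem Rm_eq : D.Rm Cfsg.Spor.Th.edges = Rm := by decide +kernel

/-- The relators without `u`. -/
def RK : List (List ℕ) := [
  [1, 1],
  [2, 2],
  [3, 3],
  [4, 4],
  [5, 5],
  [6, 7],
  [8, 9],
  [1, 2, 1, 2, 1, 2],
  [1, 5, 1, 5],
  [2, 3, 2, 3, 2, 3],
  [2, 4, 2, 4],
  [2, 5, 2, 5],
  [1, 4, 3, 4, 3, 4, 3, 4, 3],
  [3, 5, 3, 5],
  [4, 5, 4, 5, 4, 5],
  [2, 3, 4, 5, 2, 3, 4, 5, 2, 3, 4, 5, 2, 3, 4, 5, 2, 3, 4, 5, 2, 3, 4, 5, 2, 3, 4, 5, 2, 3, 4, 5],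
  [6, 6, 6, 6, 6, 6, 6],
  [7, 1, 6, 1],
  [7, 2, 6, 2],
  [7, 3, 6, 3],
  [6, 4, 6, 4],
  [5, 7, 5, 7, 7, 5, 6, 6, 6],
  [8, 8, 8],
  [9, 1, 8, 1],
  [9, 2, 8, 2],
  [9, 3, 8, 3],
  [9, 4, 8, 4],
  [9, 5, 8, 5],
  [9, 6, 8, 7, 7]]

/-- The generators of the presented group. -/
def gm : ℕ → Cfsg.Spor.Th := D.gm Cfsg.Spor.Th.edges Cfsg.Spor.Th.extra

theorem sat : Sat gm Rm := Rm_eq ▸ ok.sat_gm

theorem satK {G : Type*} [Group G] {g : ℕ → G} (hg : Sat g Rm) : Sat g RK :=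
  hg.mono (by decide +kernel)

theorem top : gen gm 11 = ⊤ := ok.gen_gm

theorem exists_hom {G : Type*} [Group G] {g : ℕ → G} (hg : Sat g Rm) :
    ∃ φ : Cfsg.Spor.Th →* G, ∀ x, 1 ≤ x ∧ x ≤ 11 → φ (gm x) = g x :=
  ok.exists_hom (Rm_eq ▸ hg)

theorem words_eq : ((Subgroup.closure ({Cfsg.Spor.Th.a, Cfsg.Spor.Th.b, Cfsg.Spor.Th.c, Cfsg.Spor.Th.d, Cfsg.Spor.Th.e, Cfsg.Spor.Th.s, Cfsg.Spor.Th.t} : Set (FreeGroup Cfsg.Spor.Th.Gen))).map (PresentedGroup.mk (Cfsg.Spor.coxRelators Cfsg.Spor.Th.edges ∪ {r | r ∈ Cfsg.Spor.Th.extra}))) = wgen gm [[1], [2], [3], [4], [5], [6], [8]] :=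
  ok.map_closure [.l .a, .l .b, .l .c, .l .d, .l .e, .l .s, .l .t]
    (by ext y; simp [Ex.val_l]) (by decide +kernel)

end Cfsg.Agent.H90.ThP
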