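import Cfsg.Agent.H97.U5Defs

/-! Project U5F, piece AQ2: the automizer of `Q`. -/

set_option autoImplicit false
set_option linter.unusedSectionVars false

namespace Cfsg.Agent.H90.U5Aq2

open Cfsg.Agent.H97 Cfsg.Agent.H97.U5 Cfsg.Agent.H96.VB Subgroup

universe u

variable {K : Type u} [Field K] [Finite K] {T : Hm K} {p : ℕ} [Fact p.Prime] [CharP K p]

/-- conjugation -/
def cQ (s : U T) : MulAut (Q T) := MulAut.conjNormal s

theorem ext_cQ (s : U T) {x : U T} (hx : x ∈ Q T) : ext (cQ s) x = s * x * s⁻¹ := by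
  rw [ext_apply _ hx]; rfl

variable {ρ : MulAut (Q T) →* Equiv.Perm (W K)} {A : Subgroup (MulAut (Q T))} {α : MulAut (Q T)}

theorem rho_eq (h : ∀ α, ∀ x ∈ Q T, ρ α (wv x) = wv (ext α x)) {g : Equiv.Perm (W K)} :
    ρ α = g ↔ ∀ x ∈ Q T, wv (ext α x) = g (wv x) :=
  ⟨fun e x hx => by rw [← e, h α x hx], fun e => Equiv.ext fun w => by
    obtain ⟨x, hx, rfl⟩ := wv_surj (T := T) w
    rw [h α x hx, e x hx]⟩

theorem rho_of (h : ∀ α, ∀ x ∈ Q T, ρ α (wv x) = wv (ext α x)) {s : U T}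
    (e : ∀ x ∈ Q T, ext α x = s * x * s⁻¹) : ρ α = piW T s :=
  (rho_eq h).2 fun x hx => by rw [e x hx, wv_conj s hx, piW_apply]

theorem rho_cQ (h : ∀ α, ∀ x ∈ Q T, ρ α (wv x) = wv (ext α x)) (s : U T) : ρ (cQ s) = piW T s :=
  rho_of h fun _ hx => ext_cQ s hx

theorem cQ_mem (hA : U5.LA p (Q T) A) (s : U T) : cQ s ∈ A := hA.cj s _ fun _ hx => ext_cQ s hx

theorem piW_mem (s : U T) : piW T s ∈ AW T := range_piW T ▸ ⟨s, rfl⟩

theorem exists_piW {u : Equiv.Perm (W K)} (h : u ∈ AW T) : ∃ s, piW T s = u := by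
  rw [← range_piW] at h; exact h

theorem ker_p (H : AQ1 T p) (h : ∀ α, ∀ x ∈ Q T, ρ α (wv x) = wv (ext α x)) : IsPGroup p ρ.ker :=
  fun β => ⟨1, Subtype.ext (by
    rw [pow_one]; exact (H.ker β.1 ((rho_eq h).1 β.2)).2)⟩

theorem kerQ (H : AQ1 T p) (h : ∀ α, ∀ x ∈ Q T, ρ α (wv x) = wv (ext α x))
    (hA : U5.LA p (Q T) A) : KerQ A := fun α hα e => by
  have h0 : ρ α = 1 := (rho_eq h).2 e
  have h1 : ∀ g ∈ A, ∀ β ∈ A ⊓ ρ.ker, g * β * g⁻¹ ∈ A ⊓ ρ.ker := fun g hg β hβ =>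
    mem_inf.2 ⟨mul_mem (mul_mem hg hβ.1) (inv_mem hg), (MonoidHom.normal_ker ρ).conj_mem β hβ.2 g⟩
  obtain ⟨s, hs⟩ := hA.two (A ⊓ ρ.ker) inf_le_left (fun g hg => mem_normalizer_iff.2 fun β =>
    ⟨h1 g hg β, fun hβ => by simpa [mul_assoc] using h1 _ (inv_mem hg) _ hβ⟩)
    (ker_p H h).to_inf_right α ⟨hα, h0⟩
  exact ⟨s, (uW_eq_one T).1 ((rho_of h hs).symm.trans h0), hs⟩

theorem conj_of (h : ∀ α, ∀ x ∈ Q T, ρ α (wv x) = wv (ext α x)) (hA : U5.LA p (Q T) A)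
    (k : KerQ A) (hα : α ∈ A) {s : U T} (e : ρ α * piW T s * (ρ α)⁻¹ ∈ AW T) :
    ∃ s' : U T, ∀ x ∈ Q T, ext α (s * x * s⁻¹) = s' * ext α x * s'⁻¹ := by
  obtain ⟨s', hs⟩ := exists_piW e
  obtain ⟨z, -, hz⟩ := k (cQ s'⁻¹ * (α * cQ s * α⁻¹)) (mul_mem (cQ_mem hA _)
    (mul_mem (mul_mem hα (cQ_mem hA s)) (inv_mem hα))) ((rho_eq h (g := 1)).1 (by
      rw [map_mul, map_mul, map_mul, map_inv, rho_cQ h, rho_cQ h, ← hs, map_inv, inv_mul_cancel]))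
  refine ⟨s' * z, fun x hx => ?_⟩
  have h3 := hz _ (ext_mem α hx)
  have h4 : s * x * s⁻¹ ∈ Q T := nQ.conj_mem x hx s
  rw [ext_mul, ext_mul, ext_mul, ext_inv_ext, ext_cQ _ hx, ext_cQ _ (ext_mem α h4)] at h3
  calc _ = s' * (z * ext α x * z⁻¹) * s'⁻¹ := by rw [← h3]; group
    _ = _ := by group

theorem nm_of (h : ∀ α, ∀ x ∈ Q T, ρ α (wv x) = wv (ext α x)) (hA : U5.LA p (Q T) A)
    (k : KerQ A) (hα : α ∈ A) (e : ρ α ∈ normalizer (AW T : Set (Equiv.Perm (W K)))) : Nm α :=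
  fun s => conj_of h hA k hα ((mem_normalizer_iff.1 e _).1 (piW_mem s))

theorem nor_of (h : ∀ α, ∀ x ∈ Q T, ρ α (wv x) = wv (ext α x)) (e : Nm α) :
    ρ α ∈ normalizer (AW T : Set (Equiv.Perm (W K))) := mem_normalizer_fintype fun u hu => by
  obtain ⟨s, rfl⟩ := exists_piW hu
  obtain ⟨s', hs⟩ := e s
  rw [← rho_cQ h, ← map_inv, ← map_mul, ← map_mul, rho_of h (s := s') fun x hx => by
    rw [ext_mul, ext_mul, ext_cQ _ (ext_mem _ hx), hs _ (ext_mem _ hx), ext_ext_inv]]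
  exact piW_mem s'

theorem hW_nor (l : Kˣ) : hW T l ∈ normalizer (AW T : Set (Equiv.Perm (W K))) :=
  mem_normalizer_fintype fun u hu => by
    obtain ⟨s, rfl⟩ := exists_piW hu
    have : hW T l * piW T s = piW T (tor T (eta T l) s) * hW T l := Equiv.ext fun w => by
      obtain ⟨x, hx, rfl⟩ := wv_surj (T := T) w
      rw [Equiv.Perm.mul_apply, Equiv.Perm.mul_apply, piW_apply, piW_apply, ← wv_conj s hx, ← wv_eta,
        ← wv_eta, ← wv_conj _ ⟨by simp [hx.1], by simp [hx.2]⟩, map_mul, map_mul, map_inv]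
    rw [this, mul_inv_cancel_right]
    exact piW_mem _

/-- **AQ2** -/
theorem aq2 (H : AQ1 T p) (w : WStmt T p) : AQStmt T p := fun C A hB hC => by
  obtain ⟨ρ, h, h2, h3⟩ := H.rho
  have hA := hB.toLA
  have k := kerQ H h hA
  have wg : WG T p (A.map ρ) := by
    refine ⟨fun u hu => ?_, ?_, ?_, fun M hM pM hle u hu => ?_, ?_⟩
    · obtain ⟨s, rfl⟩ := exists_piW hu
      exact ⟨_, cQ_mem hA s, rho_cQ h s⟩
    · rintro _ ⟨α, -, rfl⟩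
      exact h2 α
    · rintro _ ⟨α, -, rfl⟩
      exact h3 α
    · obtain ⟨α, hα, rfl⟩ := hM hu
      obtain ⟨s, hs⟩ := hA.syl (A ⊓ M.comap ρ) inf_le_left
        (pM.comap_of_ker_isPGroup ρ (ker_p H h)).to_inf_right
        (fun s β e => mem_inf.2 ⟨hA.cj s β e, by
          rw [mem_comap, rho_of h e]; exact hle (piW_mem s)⟩) α ⟨hα, hu⟩
      exact rho_of h hs ▸ piW_mem s
    · rintro _ ⟨α, hα, rfl⟩ u hu u1 e
      obtain ⟨s, rfl⟩ := exists_piW hu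
      obtain ⟨s', hs⟩ := conj_of h hA k hα e
      exact nor_of h (hA.ti α hα s (fun hs => u1 ((uW_eq_one T).2 hs)) s' hs)
  obtain ⟨w1, w2⟩ := w _ wg (by
    rintro _ ⟨α, hα, rfl⟩ e
    obtain ⟨β, hβ, e1⟩ := hB.ext α hα (nm_of h hA k hα e)
    obtain ⟨s, c, φ, rfl⟩ := hC β hβ
    have e2 : ∀ v : W K, ρ α v = uW T s.v2 s.d
        (c.1 * (c.2 : K)⁻¹ * φ v.1, c.1 * φ v.2.1, c.1 * T.σ c.2 * φ v.2.2) := fun v => by
      obtain ⟨x, hx, rfl⟩ := wv_surj (T := T) v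
      rw [h α x hx, e1 x hx, MulAut.mul_apply, MulAut.mul_apply, MulAut.conj_apply,
        wv_conj s ⟨by simp [hx.1], by simp [hx.2]⟩]
      rfl
    refine ⟨φ, fun a v => ?_⟩
    rw [e2, e2]
    ext <;> simp [uW_apply] <;> ring)
  refine ⟨k, fun n hn sw α hα => ?_, ?_⟩
  · have e : ρ n = nW K := (rho_eq h).2 sw
    rcases w1 ⟨n, hn, e⟩ _ ⟨α, hα, rfl⟩ with e1 | ⟨u, hu, e1⟩
    · exact .inl (nm_of h hA k hα e1)
    · obtain ⟨s, rfl⟩ := exists_piW hu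
      exact .inr ⟨s, cQ s, fun _ hx => ext_cQ s hx, nm_of h hA k
        (mul_mem (mul_mem hn (cQ_mem hA s)) hα) (by rwa [map_mul, map_mul, e, rho_cQ h])⟩
  · rintro ⟨α, hα, hN⟩
    obtain ⟨⟨n, hn, e⟩, e1⟩ := w2 ⟨_, ⟨α, hα, rfl⟩, fun e => hN (nm_of h hA k hα e)⟩
    refine ⟨⟨n, hn, (rho_eq h).1 e⟩, fun l => ?_⟩
    obtain ⟨δ, hδ, e2⟩ := e1 l
    exact ⟨δ, hδ, nm_of h hA k hδ (e2 ▸ hW_nor l), (rho_eq h).1 e2⟩

end Cfsg.Agent.H90.U5Aq2
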